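import Mathlib

/-!
# Differential bases of finitely generated field extensions (lemma (ST-II) for S6824)
-/

set_option autoImplicit false

universe u

namespace Groth.Agent.H65.DiffBasis

open IntermediateField

variable {k K : Type u} [Field k] [Field K] [Algebra k K]

/-- The differentials of the generators span `Ω[F/k]` for `F = k(f_i)`. -/
lemma span_D_eq_top {ι : Type*} (f : ι → K) :
    Submodule.span (adjoin k (Set.range f))
      (Set.range fun i : ι => KaehlerDifferential.D k (adjoin k (Set.range f))
        ⟨f i, subset_adjoin k _ ⟨i, rfl⟩⟩) = ⊤ := by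
  have key : ∀ x (hx : x ∈ adjoin k (Set.range f)),
      KaehlerDifferential.D k (adjoin k (Set.range f)) ⟨x, hx⟩ ∈
        Submodule.span (adjoin k (Set.range f))
          (Set.range fun i : ι => KaehlerDifferential.D k (adjoin k (Set.range f))
            ⟨f i, subset_adjoin k _ ⟨i, rfl⟩⟩) := by
    intro x hx
    induction hx using adjoin_induction with
    | mem x hx =>
      obtain ⟨i, rfl⟩ := hx
      exact Submodule.subset_span ⟨i, rfl⟩
    | algebraMap c =>
      have : (⟨algebraMap k K c, IntermediateField.algebraMap_mem _ c⟩ : adjoin k (Set.range f)) =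
          algebraMap k (adjoin k (Set.range f)) c := rfl
      rw [this, Derivation.map_algebraMap]
      exact Submodule.zero_mem _
    | add x y hx hy ihx ihy =>
      have : (⟨x + y, add_mem hx hy⟩ : adjoin k (Set.range f)) = ⟨x, hx⟩ + ⟨y, hy⟩ := rfl
      rw [this, map_add]
      exact Submodule.add_mem _ ihx ihy
    | inv x hx ih =>
      have : (⟨x⁻¹, inv_mem hx⟩ : adjoin k (Set.range f)) =
          (⟨x, hx⟩ : adjoin k (Set.range f))⁻¹ := rfl
      rw [this, Derivation.leibniz_inv]
      exact Submodule.smul_mem _ _ ih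
    | mul x y hx hy ihx ihy =>
      have : (⟨x * y, mul_mem hx hy⟩ : adjoin k (Set.range f)) = ⟨x, hx⟩ * ⟨y, hy⟩ := rfl
      rw [this, Derivation.leibniz]
      exact Submodule.add_mem _ (Submodule.smul_mem _ _ ihy) (Submodule.smul_mem _ _ ihx)
  rw [eq_top_iff, ← KaehlerDifferential.span_range_derivation, Submodule.span_le]
  rintro _ ⟨⟨x, hx⟩, rfl⟩
  exact key x hx

/-- (ST-II): a subfamily of the generators which is a differential basis of `F = k(f_i)`;
`F` is then separable algebraic over the subfield generated by the subfamily. -/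
theorem exists_differential_basis {k K : Type u} [Field k] [Field K] [Algebra k K] {ι : Type}
    [Fintype ι] (f : ι → K) :
    ∃ (t : ℕ) (j : Fin t → ι),
      (∀ x ∈ IntermediateField.adjoin k (Set.range f),
        IsSeparable (IntermediateField.adjoin k (Set.range (f ∘ j))) x) ∧
      LinearIndependent (IntermediateField.adjoin k (Set.range (f ∘ j)))
        (fun l : Fin t => KaehlerDifferential.D k (IntermediateField.adjoin k (Set.range (f ∘ j)))
          ⟨f (j l), IntermediateField.subset_adjoin k _ ⟨l, rfl⟩⟩) := by
  classical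
  obtain ⟨κ', a, ha, hspan, hli⟩ := exists_linearIndependent' (adjoin k (Set.range f))
    (fun i : ι => KaehlerDifferential.D k (adjoin k (Set.range f))
      ⟨f i, subset_adjoin k _ ⟨i, rfl⟩⟩)
  haveI : Finite κ' := Finite.of_injective a ha
  let e : Fin (Nat.card κ') ≃ κ' := (Finite.equivFin κ').symm
  refine ⟨Nat.card κ', a ∘ e, ?_, ?_⟩
  all_goals
    have hκF : adjoin k (Set.range (f ∘ (a ∘ e))) ≤ adjoin k (Set.range f) :=
      adjoin.mono _ _ _ (Set.range_comp_subset_range _ _)
    letI : Algebra (adjoin k (Set.range (f ∘ (a ∘ e)))) (adjoin k (Set.range f)) :=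
      (inclusion hκF).toRingHom.toAlgebra
    haveI : IsScalarTower k (adjoin k (Set.range (f ∘ (a ∘ e)))) (adjoin k (Set.range f)) :=
      IsScalarTower.of_algebraMap_eq (fun x => rfl)
    haveI : IsScalarTower (adjoin k (Set.range (f ∘ (a ∘ e)))) (adjoin k (Set.range f)) K :=
      IsScalarTower.of_algebraMap_eq (fun x => rfl)
    have hliF : LinearIndependent (adjoin k (Set.range f))
        (fun l : Fin (Nat.card κ') => KaehlerDifferential.D k (adjoin k (Set.range f))
          ⟨f ((a ∘ e) l), subset_adjoin k _ ⟨(a ∘ e) l, rfl⟩⟩) :=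
      hli.comp e e.injective
    have hspanF : Submodule.span (adjoin k (Set.range f))
        (Set.range fun l : Fin (Nat.card κ') => KaehlerDifferential.D k (adjoin k (Set.range f))
          ⟨f ((a ∘ e) l), subset_adjoin k _ ⟨(a ∘ e) l, rfl⟩⟩) = ⊤ := by
      rw [← span_D_eq_top f, ← hspan]
      congr 1
      exact e.surjective.range_comp
        ((fun i : ι => KaehlerDifferential.D k (adjoin k (Set.range f))
          ⟨f i, subset_adjoin k _ ⟨i, rfl⟩⟩) ∘ a)
  · -- separability
    have hsub : Subsingleton (Ω[adjoin k (Set.range f)⁄adjoin k (Set.range (f ∘ (a ∘ e)))]) := by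
      refine ⟨fun y z => ?_⟩
      suffices h0 : ∀ y : Ω[adjoin k (Set.range f)⁄adjoin k (Set.range (f ∘ (a ∘ e)))], y = 0 by
        rw [h0 y, h0 z]
      intro y
      obtain ⟨x, rfl⟩ := KaehlerDifferential.map_surjective k
        (adjoin k (Set.range (f ∘ (a ∘ e)))) (adjoin k (Set.range f)) y
      have hx : x ∈ (⊤ : Submodule (adjoin k (Set.range f)) _) := Submodule.mem_top
      rw [← hspanF] at hx
      induction hx using Submodule.span_induction with
      | mem x hx =>
        obtain ⟨l, rfl⟩ := hx
        rw [KaehlerDifferential.map_D]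
        have : (algebraMap (adjoin k (Set.range f)) (adjoin k (Set.range f)))
            ⟨f ((a ∘ e) l), subset_adjoin k _ ⟨(a ∘ e) l, rfl⟩⟩ =
            algebraMap (adjoin k (Set.range (f ∘ (a ∘ e)))) (adjoin k (Set.range f))
              ⟨f ((a ∘ e) l), subset_adjoin k _ ⟨l, rfl⟩⟩ := rfl
        rw [this, Derivation.map_algebraMap]
      | zero => exact map_zero _
      | add x y _ _ hx hy => rw [map_add, hx, hy, add_zero]
      | smul c x _ hx => rw [map_smul, hx, smul_zero]
    haveI : Algebra.FormallyUnramified (adjoin k (Set.range (f ∘ (a ∘ e))))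
        (adjoin k (Set.range f)) := ⟨hsub⟩
    haveI : Algebra.EssFiniteType k (adjoin k (Set.range f)) :=
      essFiniteType_iff.mpr (fg_adjoin_of_finite (Set.finite_range f))
    haveI : Algebra.EssFiniteType (adjoin k (Set.range (f ∘ (a ∘ e)))) (adjoin k (Set.range f)) :=
      Algebra.EssFiniteType.of_comp k _ _
    haveI : Algebra.IsSeparable (adjoin k (Set.range (f ∘ (a ∘ e)))) (adjoin k (Set.range f)) :=
      Algebra.FormallyUnramified.isSeparable _ _
    intro x hx
    have h1 : IsSeparable (adjoin k (Set.range (f ∘ (a ∘ e))))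
        (⟨x, hx⟩ : adjoin k (Set.range f)) := Algebra.IsSeparable.isSeparable _ _
    have h2 := minpoly.algebraMap_eq (A := adjoin k (Set.range (f ∘ (a ∘ e))))
      (algebraMap (adjoin k (Set.range f)) K).injective (⟨x, hx⟩ : adjoin k (Set.range f))
    unfold IsSeparable at h1 ⊢
    rw [← h2] at h1
    exact h1
  · -- linear independence over the small field
    have hliκ : LinearIndependent (adjoin k (Set.range (f ∘ (a ∘ e))))
        (fun l : Fin (Nat.card κ') => KaehlerDifferential.D k (adjoin k (Set.range f))
          ⟨f ((a ∘ e) l), subset_adjoin k _ ⟨(a ∘ e) l, rfl⟩⟩) := by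
      refine hliF.restrict_scalars ?_
      intro c d hcd
      have h3 : c • (1 : adjoin k (Set.range f)) = d • (1 : adjoin k (Set.range f)) := hcd
      rw [Algebra.smul_def, Algebra.smul_def, mul_one, mul_one] at h3
      exact (algebraMap (adjoin k (Set.range (f ∘ (a ∘ e))))
        (adjoin k (Set.range f))).injective h3
    refine LinearIndependent.of_comp (KaehlerDifferential.map k k
      (adjoin k (Set.range (f ∘ (a ∘ e)))) (adjoin k (Set.range f))) ?_
    convert hliκ using 1
    funext l
    simp only [Function.comp_apply, KaehlerDifferential.map_D]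
    rfl

end Groth.Agent.H65.DiffBasis
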