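import Mathlib

/-!
# Flatness passes to quotients (helper65, squad lemma (V4) for helper10 / S6824)
-/

set_option autoImplicit false
universe u

open TensorProduct

namespace Groth.Agent.H65.FlatQuot

/-- (V4) flatness passes to quotients -/
theorem flat_quotient {R S : Type u} [CommRing R] [CommRing S] [Algebra R S] [Module.Flat R S]
    (I : Ideal R) (J : Ideal S) (hJ : I.map (algebraMap R S) = J) [Algebra (R ⧸ I) (S ⧸ J)]
    [IsScalarTower R (R ⧸ I) (S ⧸ J)] : Module.Flat (R ⧸ I) (S ⧸ J) := by
  subst hJ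
  -- the standard flatness
  have h0 : Module.Flat (R ⧸ I) ((R ⧸ I) ⊗[R] S) := inferInstance
  -- an `R`-linear equivalence `(R ⧸ I) ⊗[R] S ≃ S ⧸ I S`
  let e0 : ((R ⧸ I) ⊗[R] S) ≃ₗ[R] (S ⧸ I.map (algebraMap R S)) :=
    (TensorProduct.comm R (R ⧸ I) S) ≪≫ₗ
      ((Algebra.TensorProduct.quotIdealMapEquivTensorQuot S I).symm.toLinearEquiv.restrictScalars R)
  -- it is `R ⧸ I`-linear for the given module structure
  let e : ((R ⧸ I) ⊗[R] S) ≃ₗ[R ⧸ I] (S ⧸ I.map (algebraMap R S)) :=
    { e0 with
      map_smul' := by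
        intro c x
        obtain ⟨r, rfl⟩ := Ideal.Quotient.mk_surjective c
        have h1 : (Ideal.Quotient.mk I r) • x = r • x := by
          rw [← Ideal.Quotient.algebraMap_eq, algebraMap_smul]
        have h2 : ∀ y : S ⧸ I.map (algebraMap R S), (Ideal.Quotient.mk I r) • y = r • y := by
          intro y
          rw [← Ideal.Quotient.algebraMap_eq, algebraMap_smul]
        simp only [AddHom.toFun_eq_coe, LinearMap.coe_toAddHom, LinearEquiv.coe_coe,
          RingHom.id_apply]
        rw [h1, h2, map_smul] }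
  exact Module.Flat.of_linearEquiv e.symm

end Groth.Agent.H65.FlatQuot
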