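import Mathlib.RingTheory.PowerSeries.Exp
import Mathlib.RingTheory.PowerSeries.Substitution
import Mathlib.RingTheory.PowerSeries.Derivative
import Mathlib.RingTheory.PowerSeries.Inverse
import Mathlib.Tactic.LinearCombination
import Mathlib.Tactic.Ring
import Mathlib.Tactic.FieldSimp

/-!
# `exp ∘ u` for rational power series `u` with zero constant term

`expS u = (exp ℚ).subst u`; multiplicativity `expS (u + v) = expS u * expS v`, powers, finite sums,
and the geometric identity `expS (∑_{m ≥ 1} c^m X^m / m) * (1 - c X) = 1`.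
-/

set_option autoImplicit false

namespace Groth.Agent.H65

open PowerSeries

/-- `exp ∘ u`. -/
noncomputable def expS (u : PowerSeries ℚ) : PowerSeries ℚ :=
  PowerSeries.subst u (PowerSeries.exp ℚ)

theorem hasSubst_of_cc {u : PowerSeries ℚ} (hu : constantCoeff u = 0) : HasSubst u :=
  HasSubst.of_constantCoeff_zero' hu

theorem subst_one' {u : PowerSeries ℚ} (hu : HasSubst u) :
    PowerSeries.subst u (1 : PowerSeries ℚ) = (1 : PowerSeries ℚ) := by
  rw [← coe_substAlgHom hu, map_one]

theorem constantCoeff_expS {u : PowerSeries ℚ} (hu : constantCoeff u = 0) :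
    constantCoeff (expS u) = 1 := by
  have hs := hasSubst_of_cc hu
  have h1 : expS u = PowerSeries.subst u (exp ℚ - 1) + 1 := by
    rw [expS, subst_sub hs, subst_one' hs, sub_add_cancel]
  have h2 : constantCoeff (PowerSeries.subst u (exp ℚ - 1) : PowerSeries ℚ) = 0 :=
    constantCoeff_subst_eq_zero hu _ (by simp)
  rw [h1, map_add, h2, map_one, zero_add]

theorem derivative_expS {u : PowerSeries ℚ} (hu : constantCoeff u = 0) :
    d⁄dX ℚ (expS u) = expS u * d⁄dX ℚ u := by
  rw [expS, derivative_subst (hasSubst_of_cc hu), derivative_exp]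

theorem ode_unique {y₁ y₂ w : PowerSeries ℚ} (h₁ : d⁄dX ℚ y₁ = y₁ * w)
    (h₂ : d⁄dX ℚ y₂ = y₂ * w) (c₁ : constantCoeff y₁ = 1) (c₂ : constantCoeff y₂ = 1) :
    y₁ = y₂ := by
  have hinv : y₂ * y₂⁻¹ = 1 := PowerSeries.mul_inv_cancel y₂ (by rw [c₂]; exact one_ne_zero)
  have hV : y₁ * y₂⁻¹ = 1 := by
    apply derivative.ext
    · rw [Derivation.leibniz, derivative_inv', h₁, h₂, derivative_one]
      simp only [smul_eq_mul]
      linear_combination (-(y₁ * w * y₂⁻¹)) * hinv
    · rw [map_mul, constantCoeff_inv, c₁, c₂, map_one, inv_one, mul_one]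
  calc y₁ = y₁ * (y₂ * y₂⁻¹) := by rw [hinv, mul_one]
    _ = (y₁ * y₂⁻¹) * y₂ := by ring
    _ = y₂ := by rw [hV, one_mul]

theorem expS_add {u v : PowerSeries ℚ} (hu : constantCoeff u = 0) (hv : constantCoeff v = 0) :
    expS (u + v) = expS u * expS v := by
  have huv : constantCoeff (u + v) = 0 := by rw [map_add, hu, hv, add_zero]
  apply ode_unique (w := d⁄dX ℚ (u + v))
  · exact derivative_expS huv
  · rw [Derivation.leibniz, derivative_expS hu, derivative_expS hv, map_add]
    simp only [smul_eq_mul]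
    ring
  · exact constantCoeff_expS huv
  · rw [map_mul, constantCoeff_expS hu, constantCoeff_expS hv, mul_one]

theorem expS_zero : expS 0 = 1 := by
  have h0 : constantCoeff (0 : PowerSeries ℚ) = 0 := map_zero _
  apply ode_unique (w := 0)
  · rw [derivative_expS h0, map_zero]
  · rw [derivative_one, mul_zero]
  · exact constantCoeff_expS h0
  · exact map_one _

theorem expS_nsmul {u : PowerSeries ℚ} (hu : constantCoeff u = 0) (n : ℕ) :
    expS (n • u) = expS u ^ n := by
  induction n with
  | zero => rw [zero_smul, pow_zero, expS_zero]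
  | succ n ih =>
    have hn : constantCoeff (n • u) = 0 := by rw [map_nsmul, hu, smul_zero]
    rw [succ_nsmul, expS_add hn hu, ih, pow_succ]

theorem expS_sum {ι : Type*} (s : Finset ι) (u : ι → PowerSeries ℚ)
    (hu : ∀ i ∈ s, constantCoeff (u i) = 0) :
    expS (∑ i ∈ s, u i) = ∏ i ∈ s, expS (u i) := by
  classical
  induction s using Finset.induction_on with
  | empty => rw [Finset.sum_empty, Finset.prod_empty, expS_zero]
  | insert a s ha ih =>
    have h1 : constantCoeff (u a) = 0 := hu a (Finset.mem_insert_self a s)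
    have h2 : ∀ i ∈ s, constantCoeff (u i) = 0 :=
      fun i hi => hu i (Finset.mem_insert_of_mem hi)
    have h3 : constantCoeff (∑ i ∈ s, u i) = 0 := by
      rw [map_sum]; exact Finset.sum_eq_zero h2
    rw [Finset.sum_insert ha, Finset.prod_insert ha, expS_add h1 h3, ih h2]

/-- `∑_{m ≥ 1} c^m X^m / m = -log (1 - c X)`. -/
noncomputable def geoLog (c : ℚ) : PowerSeries ℚ := PowerSeries.mk fun m => c ^ m / m

theorem coeff_geoLog (c : ℚ) (m : ℕ) : coeff m (geoLog c) = c ^ m / m := by
  rw [geoLog, coeff_mk]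

theorem constantCoeff_geoLog (c : ℚ) : constantCoeff (geoLog c) = 0 := by
  rw [← coeff_zero_eq_constantCoeff_apply, coeff_geoLog]
  simp

theorem derivative_geoLog (c : ℚ) : d⁄dX ℚ (geoLog c) = PowerSeries.mk fun m => c ^ (m + 1) := by
  ext n
  rw [coeff_derivative, coeff_geoLog, coeff_mk]
  have h1 : ((n : ℚ) + 1) ≠ 0 := Nat.cast_add_one_ne_zero n
  push_cast
  field_simp

theorem derivative_geoLog_mul (c : ℚ) : d⁄dX ℚ (geoLog c) * (1 - C c * X) = C c := by
  rw [derivative_geoLog]
  ext n
  rw [mul_sub, mul_one, map_sub, ← mul_assoc, mul_comm _ (C c), mul_assoc, coeff_C_mul]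
  cases n with
  | zero =>
    rw [coeff_zero_mul_X, mul_zero, sub_zero, coeff_mk, coeff_zero_C, zero_add, pow_one]
  | succ n =>
    rw [coeff_succ_mul_X, coeff_mk, coeff_mk, coeff_C, if_neg (Nat.succ_ne_zero n)]
    ring

theorem expS_geoLog_mul (c : ℚ) : expS (geoLog c) * (1 - C c * X) = 1 := by
  have hu := constantCoeff_geoLog c
  have hD : d⁄dX ℚ (1 - C c * X : PowerSeries ℚ) = - C c := by
    rw [map_sub, derivative_one, Derivation.leibniz, derivative_X, derivative_C]
    simp
  apply derivative.ext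
  · rw [Derivation.leibniz, derivative_expS hu, hD, derivative_one]
    simp only [smul_eq_mul]
    linear_combination (expS (geoLog c)) * derivative_geoLog_mul c
  · rw [map_mul, constantCoeff_expS hu, map_sub, map_one, map_mul, constantCoeff_C,
      constantCoeff_X, mul_zero, sub_zero, mul_one]

end Groth.Agent.H65
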