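import Mathlib
import Groth.Prelude.Def_PBC
import Groth.Prelude.Def_EtCore
import Groth.Agent.H24.EtCons.Defs
import Groth.Agent.H38.Constr

/-!
# P10 for helper24's EtCons squad (S0130): strata adapted to `g^* F` on an immersed `T` give strata
adapted to `F` on `g '' P`.
-/

set_option autoImplicit false
universe u
open CategoryTheory CategoryTheory.Limits AlgebraicGeometry Topology
open Groth.Agent.H24.EtCons

namespace Groth.Agent.H65.EtCons_P10

/-- local copy of `Groth.Agent.H24.EtCons.flc_of_iso` (to keep the import cone small). -/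
theorem flc_of_iso' {X : Scheme.{u}} {F G : EtCoh.Ab X} (e : F ≅ G)
    (hF : EtCoh.IsFiniteLocallyConstant F) : EtCoh.IsFiniteLocallyConstant G := by
  obtain ⟨ι, U, hU, h⟩ := hF
  refine ⟨ι, U, hU, fun i => ?_⟩
  obtain ⟨M, hM, hfin, ⟨a⟩⟩ := h i
  exact ⟨M, hM, hfin,
    ⟨((X.smallEtaleTopology.overPullback AddCommGrpCat.{u + 1} (U i)).mapIso e).symm ≪≫ a⟩⟩

/-- local copy of `Groth.Agent.H24.EtCons.flc_of_pull_pull`. -/
theorem flc_of_pull_pull' {X W T : Scheme.{u}} (F : EtCoh.Ab X) (j : W ⟶ X) (g : T ⟶ W)
    (hg : EtCoh.IsFiniteLocallyConstant ((EtCoh.pull g).obj ((EtCoh.pull j).obj F))) :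
    EtCoh.IsFiniteLocallyConstant ((EtCoh.pull (g ≫ j)).obj F) :=
  flc_of_iso' ((EtCore.pullComp g j).app F).symm hg

/-- transport of constructibility from `univ` (as a subspace) to the space itself. -/
lemma isConstructible_of_preimage_val_univ {Y : Type*} [TopologicalSpace Y] {s : Set Y}
    (h : IsConstructible ((Subtype.val : ↥(Set.univ : Set Y) → Y) ⁻¹' s)) : IsConstructible s := by
  have hoe : IsOpenEmbedding (Subtype.val : ↥(Set.univ : Set Y) → Y) :=
    isOpen_univ.isOpenEmbedding_subtypeVal
  have hr : Set.range (Subtype.val : ↥(Set.univ : Set Y) → Y) = Set.univ := by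
    rw [Subtype.range_coe]
  have h1 := h.image_of_isOpenEmbedding hoe (by rw [hr]; exact IsRetrocompact.univ)
  rwa [Set.image_preimage_eq_of_subset (by rw [hr]; exact Set.subset_univ _)] at h1

lemma isConstructible_preimage_val_univ {Y : Type*} [TopologicalSpace Y] {s : Set Y}
    (h : IsConstructible s) : IsConstructible ((Subtype.val : ↥(Set.univ : Set Y) → Y) ⁻¹' s) :=
  h.preimage_of_isOpenEmbedding isOpen_univ.isOpenEmbedding_subtypeVal

/-- image of a constructible set under an embedding with constructible range. -/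
lemma isConstructible_image_of_isEmbedding {A B : Type u} [TopologicalSpace A] [TopologicalSpace B]
    {f : A → B} (hf : IsEmbedding f) (hE : IsConstructible (Set.range f)) {s : Set A}
    (hs : IsConstructible s) : IsConstructible (f '' s) := by
  let h : A → Set.range f := fun a => ⟨f a, Set.mem_range_self a⟩
  have hhrange : Set.range h = Set.univ := by
    ext ⟨y, hy⟩
    simp only [Set.mem_univ, iff_true]
    obtain ⟨x, rfl⟩ := hy
    exact ⟨x, rfl⟩
  have hh : IsOpenEmbedding h := by
    have hemb : IsEmbedding h := by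
      refine IsEmbedding.of_comp (hf.continuous.subtype_mk _) continuous_subtype_val ?_
      exact hf
    refine ⟨hemb, ?_⟩
    rw [hhrange]
    exact isOpen_univ
  have h1 := hs.image_of_isOpenEmbedding hh (by rw [hhrange]; exact IsRetrocompact.univ)
  have h2 := Groth.Agent.H38.isConstructible_image_val (Set.range f) hE _ h1
  have h3 : f '' s = (Subtype.val : Set.range f → B) '' (h '' s) := by
    rw [Set.image_image]
  rw [h3]
  exact h2

theorem adaptedIn_of_immersion {X T : Scheme.{u}} (g : T ⟶ X) [IsImmersion g] (F : EtCoh.Ab X)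
    (S : Set X) (P : Set T)
    (hc : Topology.IsConstructible ((Subtype.val : S → X) ⁻¹' Set.range g))
    [CompactSpace X] [QuasiSeparatedSpace X] (hS : S = Set.univ)
    (h : AdaptedIn ((EtCoh.pull g).obj F) Set.univ P) : AdaptedIn F S (g '' P) := by
  subst hS
  obtain ⟨n, T', g', himm, hcons, hdisj, hun, hflc⟩ := h
  have hE : IsConstructible (Set.range g) := isConstructible_of_preimage_val_univ hc
  have hrange : ∀ i, Set.range (g' i ≫ g) = g '' Set.range (g' i) := by
    intro i
    rw [Scheme.Hom.comp_base, TopCat.coe_comp, Set.range_comp]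
  refine ⟨n, T', fun i => g' i ≫ g, fun i => ?_, fun i => ?_, ?_, ?_, fun i => ?_⟩
  · haveI := himm i
    infer_instance
  · rw [hrange i]
    exact isConstructible_preimage_val_univ
      (isConstructible_image_of_isEmbedding g.isEmbedding hE
        (isConstructible_of_preimage_val_univ (hcons i)))
  · intro i j hij
    show Disjoint (Set.range (g' i ≫ g)) (Set.range (g' j ≫ g))
    rw [hrange i, hrange j]
    exact (Set.disjoint_image_iff g.isEmbedding.injective).2 (hdisj hij)
  · rw [← hun, Set.image_iUnion]
    exact Set.iUnion_congr hrange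
  · intro _
    exact flc_of_pull_pull' F g (g' i) (hflc i)

end Groth.Agent.H65.EtCons_P10
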