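import Mathlib
import Groth.Prelude.Def_PBC
import Groth.Agent.H65.EtCons_P10

/-!
# Q1 + Q2 for helper24's EtCons squad #2 (S0130).
-/

set_option autoImplicit false
universe u
open CategoryTheory CategoryTheory.Limits AlgebraicGeometry Topology

namespace Groth.Agent.H65.EtCons_Q1

theorem isConstructible_image_of_immersion {X T : Scheme.{u}} [CompactSpace X]
    [QuasiSeparatedSpace X] (g : T ⟶ X) [IsImmersion g]
    (hR : Topology.IsConstructible (Set.range g)) (A : Set T)
    (hA : Topology.IsConstructible A) : Topology.IsConstructible (g '' A) :=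
  Groth.Agent.H65.EtCons_P10.isConstructible_image_of_isEmbedding g.isEmbedding hR hA

theorem qcqs_of_immersion {X T : Scheme.{u}} [CompactSpace X] [QuasiSeparatedSpace X]
    (g : T ⟶ X) [IsImmersion g] (hR : Topology.IsConstructible (Set.range g)) :
    CompactSpace T ∧ QuasiSeparatedSpace T := by
  constructor
  · have h1 : IsCompact (Set.range g) :=
      (Groth.Agent.H38.isRetrocompact_of_isConstructible hR).isCompact
    rw [← isCompact_univ_iff, g.isEmbedding.isCompact_iff, Set.image_univ]
    exact h1
  · exact quasiSeparatedSpace_of_quasiSeparated g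

end Groth.Agent.H65.EtCons_Q1
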