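import Groth.Agent.H65.EtDescSub
import Groth.Agent.H51.DescCrit2
import Groth.Agent.H49.DescFam

/-!
# Effectivity of étale descent data along a universally submersive morphism is Zariski-local on
the base (helper65, for S5123)
-/

set_option autoImplicit false
set_option backward.isDefEq.respectTransparency false
set_option backward.isDefEq.respectTransparency.types false
universe u

open CategoryTheory CategoryTheory.Limits AlgebraicGeometry Desc

namespace Groth.Agent.H65.EtLocEff

open Groth.Agent.H51.DescCrit Groth.Agent.H65.DescLoc2 Groth.Agent.H65.EtDescSub Groth.Agent.H49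

section Cover

variable {S : Scheme.{u}} {ι : Type u} (V : ι → S.Opens) (hV : ⨆ i, V i = ⊤)

/-- The cover of `S` by all opens contained in some `V i`. -/
def refCover : S.OpenCover where
  I₀ := {a : S.Opens // ∃ i, a ≤ V i}
  X a := a.1
  f a := a.1.ι
  mem₀ := by
    rw [Scheme.presieve₀_mem_precoverage_iff]
    refine ⟨fun x => ?_, fun _ => inferInstance⟩
    have hx : x ∈ (⨆ i, V i : S.Opens) := by rw [hV]; trivial
    obtain ⟨i, hi⟩ := TopologicalSpace.Opens.mem_iSup.mp hx
    exact ⟨⟨V i, i, le_rfl⟩, by simpa using hi⟩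

instance : Preorder (refCover V hV).I₀ :=
  inferInstanceAs (Preorder {a : S.Opens // ∃ i, a ≤ V i})

noncomputable instance : Scheme.Cover.LocallyDirected (refCover V hV) :=
  .ofIsBasisOpensRange (by
    intro a b
    change a.1 ≤ b.1 ↔ (a.1.ι).opensRange ≤ (b.1.ι).opensRange
    simp) (by
    rw [TopologicalSpace.Opens.isBasis_iff_nbhd]
    intro U x hxU
    have hx : x ∈ (⨆ i, V i : S.Opens) := by rw [hV]; trivial
    obtain ⟨i, hi⟩ := TopologicalSpace.Opens.mem_iSup.mp hx
    refine ⟨U ⊓ V i, ⟨⟨U ⊓ V i, i, inf_le_right⟩, ?_⟩, ⟨hxU, hi⟩, inf_le_left⟩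
    change (Scheme.Opens.ι (U ⊓ V i)).opensRange = U ⊓ V i
    simp)

end Cover

section Etale

variable {S : Scheme.{u}} {𝒰 : S.OpenCover} [Category 𝒰.I₀] [𝒰.LocallyDirected]
  [Small.{u} 𝒰.I₀] [Quiver.IsThin 𝒰.I₀]

theorem etale_toBase (d : Scheme.Cover.RelativeGluingData 𝒰)
    (h : ∀ a, Etale (d.natTrans.app a)) : Etale d.toBase := by
  refine IsZariskiLocalAtTarget.of_openCover (P := @Etale) 𝒰 (fun a => ?_)
  have hp := (d.isPullback_natTrans_ι_toBase a).flip
  have e : 𝒰.pullbackHom d.toBase a = hp.isoPullback.inv ≫ d.natTrans.app a := by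
    rw [Iso.eq_inv_comp]
    exact hp.isoPullback_hom_snd
  rw [e]
  haveI := h a
  infer_instance

end Etale

section Main

variable {S S' : Scheme.{u}} (g : S' ⟶ S) (D : SchDDFam (fun _ : PUnit.{1} => g))

/-- The restriction of `D` to an open of the base. -/
noncomputable abbrev DV (V : S.Opens) : SchDDFam (fun _ : PUnit.{1} => pullback.snd g V.ι) :=
  (pullDDFam (f := fun _ : PUnit.{1} => g) (f' := fun _ : PUnit.{1} => pullback.snd g V.ι)
    (α := id) (p := V.ι) (p' := fun _ => pullback.fst g V.ι) (fun _ => pullback.condition)).obj D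

theorem univSubmersive_snd (hg : SGA1.UnivSubmersive g) {T : Scheme.{u}} (q : T ⟶ S) :
    SGA1.UnivSubmersive (pullback.snd g q) :=
  MorphismProperty.pullback_snd (P := MorphismProperty.universally _) _ _ hg

theorem forward (U : Over S) (hU : Etale U.hom)
    (e : (toDDFam (fun _ : PUnit.{1} => g)).obj U ≅ D) (V : S.Opens) :
    ∃ U' : Over (V : Scheme.{u}), Etale U'.hom ∧
      Nonempty ((toDDFam (fun _ : PUnit.{1} => pullback.snd g V.ι)).obj U' ≅ DV g D V) := by
  have hsU := (isSol_canonical (f := fun _ : PUnit.{1} => g) U).of_iso e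
  have h2 := IsSol.pull (f' := fun _ : PUnit.{1} => pullback.snd g V.ι) (α := id) (p := V.ι)
    (p' := fun _ => pullback.fst g V.ι) (fun _ => pullback.condition) hsU
  haveI := hU
  exact ⟨Over.mk (pullback.snd U.hom V.ι), (inferInstance : Etale (pullback.snd U.hom V.ι)),
    h2.nonempty_iso⟩

section LE

variable {V a : S.Opens} (hle : a ≤ V)

/-- The map `S' ×_S a ⟶ S' ×_S V` for `a ≤ V`. -/
noncomputable def pLE : pullback g a.ι ⟶ pullback g V.ι :=
  pullback.map g a.ι g V.ι (𝟙 _) (S.homOfLE hle) (𝟙 _) (by simp) (by simp)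

theorem pLE_snd : pLE g hle ≫ pullback.snd g V.ι = pullback.snd g a.ι ≫ S.homOfLE hle :=
  pullback.lift_snd _ _ _

theorem pLE_fst : pLE g hle ≫ pullback.fst g V.ι = pullback.fst g a.ι := by
  unfold pLE pullback.map
  rw [pullback.lift_fst, Category.comp_id]

/-- Restriction of descent data from `S` to an open `V`. -/
noncomputable abbrev pullV (V : S.Opens) :
    SchDDFam (fun _ : PUnit.{1} => g) ⥤ SchDDFam (fun _ : PUnit.{1} => pullback.snd g V.ι) :=
  pullDDFam (f := fun _ : PUnit.{1} => g) (f' := fun _ : PUnit.{1} => pullback.snd g V.ι)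
    (α := id) (p := V.ι) (p' := fun _ => pullback.fst g V.ι) (fun _ => pullback.condition)

/-- Restriction of descent data from `V` to `a ≤ V`. -/
noncomputable abbrev pullLE :
    SchDDFam (fun _ : PUnit.{1} => pullback.snd g V.ι) ⥤
      SchDDFam (fun _ : PUnit.{1} => pullback.snd g a.ι) :=
  pullDDFam (f := fun _ : PUnit.{1} => pullback.snd g V.ι)
    (f' := fun _ : PUnit.{1} => pullback.snd g a.ι) (α := id) (p := S.homOfLE hle)
    (p' := fun _ => pLE g hle) (fun _ => pLE_snd g hle)

/-- Restricting in two steps is restricting. -/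
noncomputable def natIsoLE : pullV g V ⋙ pullLE g hle ≅ pullV g a :=
  natIsoOfPtDesc (G := pullV g V ⋙ pullLE g hle) (G' := pullV g a)
    ((PtDesc.pull _).comp (PtDesc.pull _)) (PtDesc.pull _) (by
      intro T i x
      change ((x ≫ pLE g hle) ≫ pullback.fst g V.ι) ≫ g = (x ≫ pullback.fst g a.ι) ≫ g
      rw [Category.assoc x, pLE_fst])

include hle in
/-- Restriction of an étale solution over `V` to a smaller open. -/
theorem exists_isSol_le (U : Over (V : Scheme.{u}))
    (hU : Etale U.hom) (k : ∀ i, ((DV g D V).obj i).left ⟶ U.left)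
    (hs : IsSol (DV g D V) U k) :
    ∃ (W : Over (a : Scheme.{u})) (k' : ∀ i, ((DV g D a).obj i).left ⟶ W.left),
      IsSol (DV g D a) W k' ∧ Etale W.hom := by
  have hs' := IsSol.pull (f := fun _ : PUnit.{1} => pullback.snd g V.ι)
    (f' := fun _ : PUnit.{1} => pullback.snd g a.ι) (α := id) (p := S.homOfLE hle)
    (p' := fun _ => pLE g hle) (fun _ => pLE_snd g hle) hs
  have hs'' := hs'.of_iso ((natIsoLE g hle).app D)
  haveI := hU
  exact ⟨Over.mk (pullback.snd U.hom (S.homOfLE hle)), _, hs'',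
    (inferInstance : Etale (pullback.snd U.hom (S.homOfLE hle)))⟩

end LE

theorem backward (hg : SGA1.UnivSubmersive g) {ι : Type u} (V : ι → S.Opens)
    (hV : ⨆ i, V i = ⊤)
    (h : ∀ i, ∃ U : Over (V i : Scheme.{u}), Etale U.hom ∧
      Nonempty ((toDDFam (fun _ : PUnit.{1} => pullback.snd g (V i).ι)).obj U ≅ DV g D (V i))) :
    ∃ U : Over S, Etale U.hom ∧ Nonempty ((toDDFam (fun _ : PUnit.{1} => g)).obj U ≅ D) := by
  have hloc : ∀ a : (refCover V hV).I₀, ∃ (W : Over ((refCover V hV).X a))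
      (k' : ∀ i, ((Da (refCover V hV) (fun _ : PUnit.{1} => g) D a).obj i).left ⟶ W.left),
      IsSol (Da (refCover V hV) (fun _ : PUnit.{1} => g) D a) W k' ∧ Etale W.hom := by
    intro a
    obtain ⟨i, hi⟩ := a.2
    obtain ⟨U, hU, ⟨e⟩⟩ := h i
    exact exists_isSol_le g D hi U hU _ ((isSol_canonical U).of_iso e)
  choose W k hs hP using hloc
  have hdesc : ∀ (a : (refCover V hV).I₀) (W₁ W₂ : Over ((refCover V hV).X a))
      (k₁ : ∀ i, ((Da (refCover V hV) (fun _ : PUnit.{1} => g) D a).obj i).left ⟶ W₁.left),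
      IsSol (Da (refCover V hV) (fun _ : PUnit.{1} => g) D a) W₁ k₁ → Etale W₁.hom →
      Etale W₂.hom → HasDesc (Da (refCover V hV) (fun _ : PUnit.{1} => g) D a) W₁ k₁ W₂ :=
    fun a W₁ W₂ k₁ hs₁ _ h₂ =>
      hasDesc_etale _ (univSubmersive_snd g hg _) _ W₁ W₂ k₁ hs₁ h₂
  have sol := isSol_glue (P := @Etale) W k hs hP hdesc
  exact ⟨_, etale_toBase (gd (@Etale) W k hs hP hdesc) hP, sol.nonempty_iso⟩

end Main

end Groth.Agent.H65.EtLocEff
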