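import Groth.Agent.H32.SectSt
import Groth.Agent.H32.GoodMore

/-!
# Quasi-compact algebraic stacks: chart manipulations (helper65)
-/

set_option autoImplicit false
open CategoryTheory CategoryTheory.Limits AlgebraicGeometry Opposite
universe u

namespace Groth.Agent.H65.QC

open FibCat Stk Groth.Agent.H32.FibProd Groth.Agent.H32.Fp2 Groth.Agent.H32.Fp3
  Groth.Agent.H32.Fp4 Groth.Agent.H32.SpBridge Groth.Agent.H32.PFacts
  Groth.Agent.H32.AlgStackEquiv Groth.Agent.H32.AtlasRep Groth.Agent.H32.SpComp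
  Groth.Agent.H32.StackOps Groth.Agent.H32.SectSt Groth.Agent.H32.Repr

variable {S : Scheme.{u}}

/-- quasi-compactness is invariant under equivalence. -/
theorem isQuasiCompact_of_equiv {𝒜 ℬ : AlgSt.Cat S} (h𝒜 : IsFibGrpd 𝒜.p) (hℬ : IsFibGrpd ℬ.p)
    (E : 𝒜 ⥤ᵇ ℬ) (hE : IsEquivOver E) (h : AlgSt.IsQuasiCompact 𝒜) : AlgSt.IsQuasiCompact ℬ := by
  obtain ⟨U, x, hU, h1, h2⟩ := h
  have hU' := Groth.Agent.S6411.over_isFibGrpd U
  exact ⟨U, BasedFunctor.comp x E, hU,
    (with_postcomp_equiv _ hU' h𝒜 hℬ x E hE).mpr h1,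
    (with_postcomp_equiv _ hU' h𝒜 hℬ x E hE).mpr h2⟩

/-- an isomorphism from a representable sheaf is representable with `P`. -/
theorem repWith_of_isIso (P : MorphismProperty Scheme.{u}) [P.IsStableUnderBaseChange]
    [P.ContainsIdentities] {W : Over S} {F : AlgSp.Sp S} (fst : (AlgSp.yon S).obj W ⟶ F)
    [IsIso fst] : AlgSp.RepWith P fst := by
  have h := MorphismProperty.RespectsIso.postcomp (AlgSp.RepWith (S := S) P) fst (𝟙 _)
    (AlgSp.repWith_id P W)
  rwa [Category.id_comp] at h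

theorem etale_ci : MorphismProperty.ContainsIdentities (@Etale.{u}) :=
  (inferInstance : MorphismProperty.IsMultiplicative (@Etale.{u})).toContainsIdentities

theorem surjective_ci : MorphismProperty.ContainsIdentities (@Surjective.{u}) :=
  (inferInstance : MorphismProperty.IsMultiplicative (@Surjective.{u})).toContainsIdentities

/-- an isomorphism `h_W ≅ F` gives a smooth surjective chart `(Sch/W) ⟶ ofSp F`. -/
theorem chart_of_isIso {W : Over S} {F : AlgSp.Sp S} (fst : (AlgSp.yon S).obj W ⟶ F) [IsIso fst] :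
    AlgSt.RepByAlgSpWith (AlgSp.LocP @Smooth) (ofPoint fst.hom) ∧
      AlgSt.RepByAlgSpWith AlgSp.IsSurjectiveMor (ofPoint fst.hom) := by
  have i1 := locP_respectsIso (S := S) @Smooth
  have i2 := isSurjectiveMor_respectsIso (S := S)
  have i3 := etale_ci.{u}
  have i4 := surjective_ci.{u}
  exact ⟨repByAlgSpWith_ofPoint @Etale (AlgSp.LocP @Smooth)
      (fun F' U snd h => locP_smooth_of_repWith_etale snd h) fst (repWith_of_isIso @Etale fst),
    repByAlgSpWith_ofPoint @Surjective AlgSp.IsSurjectiveMor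
      (fun F' U snd h => isSurjectiveMor_of_repWith_to_yon snd h) fst
      (repWith_of_isIso @Surjective fst)⟩

/-- the base change of a quasi-compact stack along a closed immersion is quasi-compact. -/
theorem isQuasiCompact_fp_of_closedImm {𝒳 𝒴 𝒵 : AlgSt.Cat S} (h𝒳 : IsFibGrpd 𝒳.p)
    (h𝒴 : IsFibGrpd 𝒴.p) (h𝒵 : IsFibGrpd 𝒵.p)
    (f : 𝒳 ⥤ᵇ 𝒴) (hf : AlgSt.IsClosedImm f) (g : 𝒵 ⥤ᵇ 𝒴) (hqc : AlgSt.IsQuasiCompact 𝒵) :
    AlgSt.IsQuasiCompact (fp g f) := by
  obtain ⟨U, x, hU, hx1, hx2⟩ := hqc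
  obtain ⟨F, e, he, ha⟩ := hf U (BasedFunctor.comp x g)
  obtain ⟨W, snd, fst, sq⟩ := ha.rep (𝟙 ((AlgSp.yon S).obj U))
  have hsnd : IsClosedImmersion snd.left := ha.property _ _ _ sq
  have hfst : IsIso fst := sq.isIso_fst_of_isIso
  have hW : IsAffine W.left := by
    have := hU
    exact isAffine_of_isAffineHom snd.left
  have hUg := Groth.Agent.S6411.over_isFibGrpd U
  have hWg := Groth.Agent.S6411.over_isFibGrpd W
  have hgf : IsFibGrpd (fp g f).p := fp_isFibGrpd g f h𝒵 h𝒳 h𝒴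
  have hxgf : IsFibGrpd (fp x (fpFst g f)).p := fp_isFibGrpd _ _ hUg hgf h𝒵
  obtain ⟨c1, c2⟩ := chart_of_isIso fst
  have hE : IsEquivOver (BasedFunctor.comp e (paste x g f)) :=
    isEquivOver_comp _ _ he (paste_isEquivOver x g f)
  have r1 : AlgSt.RepByAlgSpWith (AlgSp.LocP @Smooth)
      (BasedFunctor.comp (BasedFunctor.comp e (paste x g f)) (fpSnd x (fpFst g f))) :=
    with_precomp_equiv _ (ofSp_isFibGrpd F.obj) hxgf hgf _ hE _
      (repByAlgSpWith_fpSnd _ x (fpFst g f) hx1)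
  have r2 : AlgSt.RepByAlgSpWith AlgSp.IsSurjectiveMor
      (BasedFunctor.comp (BasedFunctor.comp e (paste x g f)) (fpSnd x (fpFst g f))) :=
    with_precomp_equiv _ (ofSp_isFibGrpd F.obj) hxgf hgf _ hE _
      (repByAlgSpWith_fpSnd _ x (fpFst g f) hx2)
  exact ⟨W, BasedFunctor.comp (ofPoint fst.hom)
      (BasedFunctor.comp (BasedFunctor.comp e (paste x g f)) (fpSnd x (fpFst g f))), hW,
    with_comp good_smooth hWg (ofSp_isFibGrpd F.obj) hgf _ _ c1 r1,
    with_comp good_surjective hWg (ofSp_isFibGrpd F.obj) hgf _ _ c2 r2⟩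

end Groth.Agent.H65.QC
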