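import Groth.Agent.H32.SectSt

/-!
# Composition of affine / integral / finite morphisms of algebraic stacks (helper65)

These properties are tested on affine schemes only, so the base change to an algebraic space of a
morphism representable by algebraic spaces with such a property has the property without any
descent; the rest is helper32's argument for `S12780`.
-/

set_option autoImplicit false
open CategoryTheory CategoryTheory.Limits AlgebraicGeometry Opposite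
universe u

namespace Groth.Agent.H65.AffComp

open FibCat Stk Groth.Agent.H32.FibProd Groth.Agent.H32.Fp2 Groth.Agent.H32.Fp3
  Groth.Agent.H32.Fp4 Groth.Agent.H32.PshFp Groth.Agent.H32.PshStack Groth.Agent.H32.SpBridge
  Groth.Agent.H32.SpTrack Groth.Agent.H32.AtlasCover Groth.Agent.H32.SpComp

variable {S : Scheme.{u}}

/-- properties of morphisms of sheaves tested on affine schemes: every base change to an affine
scheme `Z` is an affine scheme `W`, with `Q (W ⟶ Z)`. -/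
def AffQ (Q : ∀ ⦃W Z : Over S⦄, (W ⟶ Z) → Prop) : MorphismProperty (AlgSp.Sp S) := fun F G f =>
  ∀ ⦃Z : Over S⦄, IsAffine Z.left → ∀ (g : (AlgSp.yon S).obj Z ⟶ G),
    ∃ (W : Over S) (i : W ⟶ Z) (fst : (AlgSp.yon S).obj W ⟶ F),
      IsPullback fst ((AlgSp.yon S).map i) f g ∧ IsAffine W.left ∧ Q i

theorem affQ_comp {Q : ∀ ⦃W Z : Over S⦄, (W ⟶ Z) → Prop}
    (hQc : ∀ ⦃W' W Z : Over S⦄ (i' : W' ⟶ W) (i : W ⟶ Z), Q i' → Q i → Q (i' ≫ i))
    {X Y Z' : AlgSp.Sp S} (a : X ⟶ Y) (b : Y ⟶ Z') (ha : AffQ Q a) (hb : AffQ Q b) :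
    AffQ Q (a ≫ b) := by
  intro T hT g
  obtain ⟨W, i, fst, sq, hW, hQi⟩ := hb hT g
  obtain ⟨W', i', fst', sq', hW', hQi'⟩ := ha hW fst
  refine ⟨W', i' ≫ i, fst', ?_, hW', hQc i' i hQi' hQi⟩
  rw [Functor.map_comp]
  exact sq'.paste_vert sq

theorem with_mono {P P' : MorphismProperty (AlgSp.Sp S)}
    (hPP' : ∀ ⦃F G : AlgSp.Sp S⦄ (a : F ⟶ G), P a → P' a)
    {𝒳 𝒴 : AlgSt.Cat S} (f : 𝒳 ⥤ᵇ 𝒴) (hf : AlgSt.RepByAlgSpWith P f) :
    AlgSt.RepByAlgSpWith P' f := by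
  intro U y
  obtain ⟨F, e, he, hP⟩ := hf U y
  exact ⟨F, e, he, hPP' _ hP⟩

variable {𝒳 𝒴 : AlgSt.Cat S}

/-- the base-change square of representing spaces for an arbitrary scheme point `p : h_T ⟶ G`
(the middle of helper32's `SpComp.P_baseChange`). -/
theorem baseChange_sq (f : 𝒳 ⥤ᵇ 𝒴) (G F : AlgSp.Space S) (h : AlgSt.ofSp G.obj ⥤ᵇ 𝒴)
    (eF : AlgSt.ofSp F.obj ⥤ᵇ fp h f) (heF : IsEquivOver eF)
    (T : Over S) (p : (AlgSp.yon S).obj T ⟶ G.obj) (FT : AlgSp.Space S)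
    (eT : AlgSt.ofSp FT.obj ⥤ᵇ fp (BasedFunctor.comp (ofPoint p.hom) h) f)
    (heT : IsEquivOver eT) :
    ∃ q : FT.obj ⟶ F.obj, IsPullback q
      (AlgSt.spMapOfOver (BasedFunctor.comp eT (fpFst (BasedFunctor.comp (ofPoint p.hom) h) f)))
      (ObjectProperty.homMk (pshMapOf (BasedFunctor.comp eF (fpFst h f))) : F.obj ⟶ G.obj) p := by
  obtain ⟨α⟩ := ofPshMap_pshMapOf (BasedFunctor.comp eF (fpFst h f))
  obtain ⟨E2, hE2, -, ⟨ε2⟩⟩ := exists_inv_isEquivOver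
    (pasteMidR_isEquivOver (ofPoint p.hom) eF (fpFst h f) heF)
  obtain ⟨E, hEdef⟩ : ∃ E : AlgSt.ofSp FT.obj ⥤ᵇ fp (Stk.ofPshMap p.hom)
      (Stk.ofPshMap (pshMapOf (BasedFunctor.comp eF (fpFst h f)))),
      E = BasedFunctor.comp eT (BasedFunctor.comp (paste (ofPoint p.hom) h f)
        (BasedFunctor.comp E2 (BasedFunctor.comp (congrRight (ofPoint p.hom) α.symm)
          (pasteMid (AlgSt.ofOverCat T) (Stk.ofPshMap p.hom)
            (Stk.ofPshMap (pshMapOf (BasedFunctor.comp eF (fpFst h f)))))))) := ⟨_, rfl⟩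
  have hE : IsEquivOver E := by
    rw [hEdef]
    exact isEquivOver_comp _ _ heT (isEquivOver_comp _ _ (paste_isEquivOver _ _ _)
      (isEquivOver_comp _ _ hE2 (isEquivOver_comp _ _ (congrRight_isEquivOver _ _)
        (pasteMid_isEquivOver _ _ _ (ofOverCat_isEquivOver T)))))
  have sq := isPullback_of_equiv (pshMapOf (BasedFunctor.comp eF (fpFst h f))) p.hom E hE
  have e1 : pshMapOf (BasedFunctor.comp E (fpFst _ _)) =
      (AlgSt.spMapOfOver (BasedFunctor.comp eT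
        (fpFst (BasedFunctor.comp (ofPoint p.hom) h) f))).hom := by
    rw [spMapOfOver_hom, hEdef]
    refine pshMapOf_eq_of_hom _ _ (fun a => ?_)
    exact ⟨(AlgSt.ofOverCat T).map ((fpFst (ofPoint p.hom) (fpFst h f)).map
        (appIso ε2 ((paste (ofPoint p.hom) h f).obj (eT.obj a))).hom),
      isHomLift_id_of_eq _ (eT.w_obj a) _
        ((BasedFunctor.isHomLift_iff (AlgSt.ofOverCat T) _ _).mpr
          ((BasedFunctor.isHomLift_iff (fpFst (ofPoint p.hom) (fpFst h f)) _ _).mpr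
            (appIso_isHomLift ε2 ((paste (ofPoint p.hom) h f).obj (eT.obj a)))))⟩
  rw [e1] at sq
  have sq' : IsPullback
      (ObjectProperty.homMk (pshMapOf (BasedFunctor.comp E (fpSnd _ _))) : FT.obj ⟶ F.obj)
      (AlgSt.spMapOfOver (BasedFunctor.comp eT (fpFst (BasedFunctor.comp (ofPoint p.hom) h) f)))
      (ObjectProperty.homMk (pshMapOf (BasedFunctor.comp eF (fpFst h f))) : F.obj ⟶ G.obj) p :=
    IsPullback.of_map_of_faithful (sheafToPresheaf (AlgSp.J S) (Type (u + 1))) sq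
  exact ⟨_, sq'⟩

/-- the base change of `f` (representable by algebraic spaces with an affine-type property) to an
algebraic space `G` has the property; no descent needed. -/
theorem affQ_baseChange {Q : ∀ ⦃W Z : Over S⦄, (W ⟶ Z) → Prop} (f : 𝒳 ⥤ᵇ 𝒴)
    (hf : AlgSt.RepByAlgSpWith (AffQ Q) f) (G F : AlgSp.Space S) (h : AlgSt.ofSp G.obj ⥤ᵇ 𝒴)
    (eF : AlgSt.ofSp F.obj ⥤ᵇ fp h f) (heF : IsEquivOver eF) :
    AffQ Q (ObjectProperty.homMk (pshMapOf (BasedFunctor.comp eF (fpFst h f))) :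
      F.obj ⟶ G.obj) := by
  intro Z hZ g
  obtain ⟨FT, eT, heT, hPT⟩ := hf Z (BasedFunctor.comp (ofPoint g.hom) h)
  obtain ⟨q, sq⟩ := baseChange_sq f G F h eF heF Z g FT eT heT
  obtain ⟨W, i, fst, sqW, hW, hQ⟩ := hPT hZ (𝟙 _)
  refine ⟨W, i, fst ≫ q, ?_, hW, hQ⟩
  have h3 := sqW.paste_horiz sq
  rwa [Category.id_comp] at h3

/-- composition, for affine-type properties (helper32's proof of `S12780` with the descent step
replaced by `affQ_baseChange`). -/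
theorem with_comp_affQ {Q : ∀ ⦃W Z : Over S⦄, (W ⟶ Z) → Prop}
    (hQc : ∀ ⦃W' W Z : Over S⦄ (i' : W' ⟶ W) (i : W ⟶ Z), Q i' → Q i → Q (i' ≫ i))
    {𝒳 𝒴 𝒵 : AlgSt.Cat S}
    (h𝒳 : FibCat.IsFibGrpd 𝒳.p) (h𝒴 : FibCat.IsFibGrpd 𝒴.p)
    (f : 𝒳 ⥤ᵇ 𝒴) (g : 𝒴 ⥤ᵇ 𝒵) (hf : AlgSt.RepByAlgSpWith (AffQ Q) f)
    (hg : AlgSt.RepByAlgSpWith (AffQ Q) g) :
    AlgSt.RepByAlgSpWith (AffQ Q) (BasedFunctor.comp f g) := by
  intro U z
  obtain ⟨G, eG, heG, hPG⟩ := hg U z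
  have hf1 : AlgSt.RepByAlgSp1 f := fun U y => by
    obtain ⟨F, e, he, -⟩ := hf U y
    exact ⟨F, e, he⟩
  obtain ⟨F, eF, heF⟩ := Groth.Agent.H32.SpBoot.repByAlgSp_fp_ofSp h𝒳 h𝒴 G
    (BasedFunctor.comp eG (fpSnd z g)) f hf1
  have hPb' := affQ_baseChange f hf G F (BasedFunctor.comp eG (fpSnd z g)) eF heF
  refine ⟨F, BasedFunctor.comp eF (BasedFunctor.comp (pasteMid eG (fpSnd z g) f) (assoc z g f)),
    isEquivOver_comp _ _ heF (isEquivOver_comp _ _ (pasteMid_isEquivOver eG (fpSnd z g) f heG)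
      (assoc_isEquivOver z g f)), ?_⟩
  have key : AlgSt.spMapOfOver (BasedFunctor.comp (BasedFunctor.comp eF
      (BasedFunctor.comp (pasteMid eG (fpSnd z g) f) (assoc z g f)))
        (fpFst z (BasedFunctor.comp f g))) =
      (ObjectProperty.homMk (pshMapOf (BasedFunctor.comp eF
        (fpFst (BasedFunctor.comp eG (fpSnd z g)) f))) : F.obj ⟶ G.obj) ≫
        AlgSt.spMapOfOver (BasedFunctor.comp eG (fpFst z g)) := by
    apply ObjectProperty.hom_ext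
    rw [spMapOfOver_hom]
    change _ = pshMapOf (BasedFunctor.comp eF (fpFst (BasedFunctor.comp eG (fpSnd z g)) f)) ≫
      (AlgSt.spMapOfOver (BasedFunctor.comp eG (fpFst z g))).hom
    rw [spMapOfOver_hom, ← pshMapOf_comp]
    rfl
  rw [key]
  exact affQ_comp hQc _ _ hPb' hPG

/-- `IsAffineMor` as an affine-type property. -/
theorem affine_to {F G : AlgSp.Sp S} (a : F ⟶ G) (ha : AlgSp.IsAffineMor a) :
    AffQ (fun _ _ _ => True) a := by
  intro Z hZ g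
  obtain ⟨W, i, fst, sq, hW⟩ := ha hZ g
  exact ⟨W, i, fst, sq, hW, trivial⟩

theorem affine_of {F G : AlgSp.Sp S} (a : F ⟶ G) (ha : AffQ (fun _ _ _ => True) a) :
    AlgSp.IsAffineMor a := by
  intro Z hZ g
  obtain ⟨W, i, fst, sq, hW, -⟩ := ha hZ g
  exact ⟨W, i, fst, sq, hW⟩

theorem affine_comp {𝒳 𝒴 𝒵 : AlgSt.Cat S}
    (h𝒳 : FibCat.IsFibGrpd 𝒳.p) (h𝒴 : FibCat.IsFibGrpd 𝒴.p)
    (f : 𝒳 ⥤ᵇ 𝒴) (g : 𝒴 ⥤ᵇ 𝒵) (hf : AlgSt.RepByAlgSpWith AlgSp.IsAffineMor f)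
    (hg : AlgSt.RepByAlgSpWith AlgSp.IsAffineMor g) :
    AlgSt.RepByAlgSpWith AlgSp.IsAffineMor (BasedFunctor.comp f g) :=
  with_mono (fun _ _ a ha => affine_of a ha) _
    (with_comp_affQ (Q := fun _ _ _ => True) (fun _ _ _ _ _ _ _ => trivial) h𝒳 h𝒴 f g
      (with_mono (fun _ _ a ha => affine_to a ha) f hf)
      (with_mono (fun _ _ a ha => affine_to a ha) g hg))

theorem integral_comp {𝒳 𝒴 𝒵 : AlgSt.Cat S}
    (h𝒳 : FibCat.IsFibGrpd 𝒳.p) (h𝒴 : FibCat.IsFibGrpd 𝒴.p)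
    (f : 𝒳 ⥤ᵇ 𝒴) (g : 𝒴 ⥤ᵇ 𝒵) (hf : AlgSt.RepByAlgSpWith AlgSp.IsIntegralMor f)
    (hg : AlgSt.RepByAlgSpWith AlgSp.IsIntegralMor g) :
    AlgSt.RepByAlgSpWith AlgSp.IsIntegralMor (BasedFunctor.comp f g) :=
  with_mono (P := AffQ (fun W Z i => IsIntegralHom i.left)) (fun _ _ _ ha => ha) _
    (with_comp_affQ (Q := fun W Z i => IsIntegralHom i.left)
      (fun W' W Z i' i h1 h2 => by
        show IsIntegralHom (i' ≫ i).left
        rw [Over.comp_left]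
        exact MorphismProperty.comp_mem _ _ _ h1 h2) h𝒳 h𝒴 f g
      (with_mono (P' := AffQ (fun W Z i => IsIntegralHom i.left)) (fun _ _ _ ha => ha) f hf)
      (with_mono (P' := AffQ (fun W Z i => IsIntegralHom i.left)) (fun _ _ _ ha => ha) g hg))

theorem finite_comp {𝒳 𝒴 𝒵 : AlgSt.Cat S}
    (h𝒳 : FibCat.IsFibGrpd 𝒳.p) (h𝒴 : FibCat.IsFibGrpd 𝒴.p)
    (f : 𝒳 ⥤ᵇ 𝒴) (g : 𝒴 ⥤ᵇ 𝒵) (hf : AlgSt.RepByAlgSpWith AlgSp.IsFiniteMor f)
    (hg : AlgSt.RepByAlgSpWith AlgSp.IsFiniteMor g) :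
    AlgSt.RepByAlgSpWith AlgSp.IsFiniteMor (BasedFunctor.comp f g) :=
  with_mono (P := AffQ (fun W Z i => IsFinite i.left)) (fun _ _ _ ha => ha) _
    (with_comp_affQ (Q := fun W Z i => IsFinite i.left)
      (fun W' W Z i' i h1 h2 => by
        show IsFinite (i' ≫ i).left
        rw [Over.comp_left]
        exact MorphismProperty.comp_mem _ _ _ h1 h2) h𝒳 h𝒴 f g
      (with_mono (P' := AffQ (fun W Z i => IsFinite i.left)) (fun _ _ _ ha => ha) f hf)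
      (with_mono (P' := AffQ (fun W Z i => IsFinite i.left)) (fun _ _ _ ha => ha) g hg))

end Groth.Agent.H65.AffComp
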