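import Groth.Agent.H65.QCMor
import Groth.Agent.H65.AffComp
import Groth.Agent.H32.AlgStackFp
import Groth.Agent.H32.CompMap

/-!
# Quasi-compactness of products and fibre products of stacks over a quasi-separated base (helper65)
-/

set_option autoImplicit false
open CategoryTheory CategoryTheory.Limits AlgebraicGeometry Opposite
universe u

namespace Groth.Agent.H65.QCProd

open FibCat Stk Groth.Agent.H32.FibProd Groth.Agent.H32.Fp2 Groth.Agent.H32.Fp3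
  Groth.Agent.H32.Fp4 Groth.Agent.H32.SpBridge Groth.Agent.H32.PFacts
  Groth.Agent.H32.AlgStackEquiv Groth.Agent.H32.AtlasRep Groth.Agent.H32.SpComp
  Groth.Agent.H32.StackOps Groth.Agent.H32.SectSt Groth.Agent.H32.Repr Groth.Agent.H32.SpTrack
  Groth.Agent.H32.PshFp Groth.Agent.H32.Sect Groth.Agent.H32.Prod Groth.Agent.H32.AlgStackFp
  Groth.Agent.H32.Magic Groth.Agent.H32.CompMap Groth.Agent.H65.QC Groth.Agent.H65.QCMor

variable {S : Scheme.{u}}

/-- a stack with a smooth surjective chart from a quasi-compact scheme is quasi-compact. -/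
theorem isQuasiCompact_of_compact_chart {𝒳 : AlgSt.Cat S} (h𝒳 : IsFibGrpd 𝒳.p) {T : Over S}
    [CompactSpace ↥T.left] (x : FibCat.overCat T ⥤ᵇ 𝒳)
    (hx1 : AlgSt.RepByAlgSpWith (AlgSp.LocP @Smooth) x)
    (hx2 : AlgSt.RepByAlgSpWith AlgSp.IsSurjectiveMor x) : AlgSt.IsQuasiCompact 𝒳 := by
  obtain ⟨W, p, hW, hp1, hp2⟩ :=
    (Groth.Agent.S10180.result ⟨(AlgSp.yon S).obj T, AlgSp.IsAlgSpace.yon_obj T⟩).1
      (Groth.Agent.H52.isQuasiCompactSp_yon T)
  have i1 := locP_respectsIso (S := S) @Smooth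
  have i2 := isSurjectiveMor_respectsIso (S := S)
  have c1 : AlgSt.RepByAlgSpWith (AlgSp.LocP @Smooth) (ofPoint p.hom) :=
    repByAlgSpWith_ofPoint @Etale (AlgSp.LocP @Smooth)
      (fun F' U snd h => locP_smooth_of_repWith_etale snd h) p hp1
  have c2 : AlgSt.RepByAlgSpWith AlgSp.IsSurjectiveMor (ofPoint p.hom) :=
    repByAlgSpWith_ofPoint @Surjective AlgSp.IsSurjectiveMor
      (fun F' U snd h => isSurjectiveMor_of_repWith_to_yon snd h) p hp2
  have hTg := Groth.Agent.S6411.over_isFibGrpd T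
  have hWg := Groth.Agent.S6411.over_isFibGrpd W
  have hT' : IsFibGrpd (AlgSt.ofSp ((AlgSp.yon S).obj T)).p := ofSp_isFibGrpd _
  have r1 : AlgSt.RepByAlgSpWith (AlgSp.LocP @Smooth)
      (BasedFunctor.comp (AlgSt.toOverCat T) x) :=
    with_precomp_equiv _ hT' hTg h𝒳 (AlgSt.toOverCat T) (toOverCat_isEquivOver T) x hx1
  have r2 : AlgSt.RepByAlgSpWith AlgSp.IsSurjectiveMor
      (BasedFunctor.comp (AlgSt.toOverCat T) x) :=
    with_precomp_equiv _ hT' hTg h𝒳 (AlgSt.toOverCat T) (toOverCat_isEquivOver T) x hx2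
  exact ⟨W, BasedFunctor.comp (ofPoint p.hom) (BasedFunctor.comp (AlgSt.toOverCat T) x), hW,
    with_comp good_smooth hWg hT' h𝒳 _ _ c1 r1,
    with_comp good_surjective hWg hT' h𝒳 _ _ c2 r2⟩

theorem compactSpace_prod [QuasiSeparatedSpace S] (U V : Over S) [CompactSpace ↥U.left]
    [CompactSpace ↥V.left] : CompactSpace ↥(U ⨯ V).left := by
  have h0 : QuasiCompact U.hom := inferInstance
  have h1 : QuasiCompact (pullback.snd U.hom V.hom) := inferInstance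
  have h2 : (prod.snd : U ⨯ V ⟶ V).left =
      (Over.prodLeftIsoPullback U V).hom ≫ pullback.snd U.hom V.hom :=
    (Over.prodLeftIsoPullback_hom_snd U V).symm
  have h3 : QuasiCompact (prod.snd : U ⨯ V ⟶ V).left := by
    rw [h2]
    infer_instance
  exact QuasiCompact.compactSpace_of_compactSpace (prod.snd : U ⨯ V ⟶ V).left

/-- over a quasi-separated base scheme, the product of two quasi-compact stacks is
quasi-compact. -/
theorem isQuasiCompact_fp_selfOver [QuasiSeparatedSpace S] {𝒳 𝒴 : AlgSt.Cat S}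
    (h𝒳 : IsFibGrpd 𝒳.p) (h𝒴 : IsFibGrpd 𝒴.p)
    (t₁ : 𝒳 ⥤ᵇ FibCat.selfOver (Over S)) (t₂ : 𝒴 ⥤ᵇ FibCat.selfOver (Over S))
    (hX : AlgSt.IsQuasiCompact 𝒳) (hY : AlgSt.IsQuasiCompact 𝒴) :
    AlgSt.IsQuasiCompact (fp t₁ t₂) := by
  rw [eq_toSelf t₁, eq_toSelf t₂]
  have hself : IsFibGrpd (FibCat.selfOver (Over S)).p := self_isFibGrpd
  obtain ⟨U, x, hU, hx1, hx2⟩ := hX
  obtain ⟨V, y, hV, hy1, hy2⟩ := hY
  obtain ⟨E, hE⟩ := exists_prod_equiv U V (BasedFunctor.comp x (FibCat.toSelf 𝒳))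
    (BasedFunctor.comp y (FibCat.toSelf 𝒴))
  have iU := Groth.Agent.S6411.over_isFibGrpd U
  have iV := Groth.Agent.S6411.over_isFibGrpd V
  have i1 : IsFibGrpd (fp (BasedFunctor.comp x (FibCat.toSelf 𝒳))
      (BasedFunctor.comp y (FibCat.toSelf 𝒴))).p := fp_isFibGrpd _ _ iU iV hself
  have iP : IsFibGrpd (fp (FibCat.toSelf 𝒳) (FibCat.toSelf 𝒴)).p :=
    fp_isFibGrpd _ _ h𝒳 h𝒴 hself
  have hcU : CompactSpace ↥U.left := by
    have := hU
    infer_instance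
  have hcV : CompactSpace ↥V.left := by
    have := hV
    infer_instance
  have hc : CompactSpace ↥(U ⨯ V).left := compactSpace_prod U V
  exact isQuasiCompact_of_compact_chart iP
    (BasedFunctor.comp E (prodF2 x y (FibCat.toSelf 𝒳) (FibCat.toSelf 𝒴)))
    (with_precomp_equiv _ (Groth.Agent.S6411.over_isFibGrpd _) i1 iP E hE _
      (with_prodF2 x y _ _ good_smooth iU iV h𝒳 h𝒴 hself hx1 hy1))
    (with_precomp_equiv _ (Groth.Agent.S6411.over_isFibGrpd _) i1 iP E hE _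
      (with_prodF2 x y _ _ good_surjective iU iV h𝒳 h𝒴 hself hx2 hy2))

/-- over a quasi-separated base scheme, the 2-fibre product of two quasi-compact stacks over a
stack with quasi-compact diagonal is quasi-compact. -/
theorem isQuasiCompact_fp [QuasiSeparatedSpace S] {𝒳 𝒴 𝒵 : AlgSt.Cat S}
    (h𝒳 : IsFibGrpd 𝒳.p) (h𝒴 : IsFibGrpd 𝒴.p) (h𝒵 : IsFibGrpd 𝒵.p)
    (a : 𝒳 ⥤ᵇ 𝒴) (b : 𝒵 ⥤ᵇ 𝒴)
    (hΔ : AlgSt.RepByAlgSpWith AlgSp.IsQuasiCompactMor (FibCat.diag (FibCat.toSelf 𝒴)))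
    (hX : AlgSt.IsQuasiCompact 𝒳) (hZ : AlgSt.IsQuasiCompact 𝒵) :
    AlgSt.IsQuasiCompact (fp a b) := by
  have hself : IsFibGrpd (FibCat.selfOver (Over S)).p := self_isFibGrpd
  have hA : AlgSt.IsQuasiCompact (fp (BasedFunctor.comp a (FibCat.toSelf 𝒴))
      (BasedFunctor.comp b (FibCat.toSelf 𝒴))) :=
    isQuasiCompact_fp_selfOver h𝒳 h𝒵 _ _ hX hZ
  have hc := with_compMap a b (FibCat.toSelf 𝒴) (whiskerR (fpIso a b) (FibCat.toSelf 𝒴))
    (fun _ => rfl) AlgSp.IsQuasiCompactMor h𝒳 h𝒵 h𝒴 hself hΔ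
  have gA : IsFibGrpd (fp (BasedFunctor.comp a (FibCat.toSelf 𝒴))
      (BasedFunctor.comp b (FibCat.toSelf 𝒴))).p := fp_isFibGrpd _ _ h𝒳 h𝒵 hself
  have gab : IsFibGrpd (fp a b).p := fp_isFibGrpd _ _ h𝒳 h𝒵 h𝒴
  have h2 := isQuasiCompact_fp_of_qcMor gab gA gA _ hc (BasedFunctor.id _) hA
  exact isQuasiCompact_of_equiv (fp_isFibGrpd _ _ gA gab gA) gab _
    (fpSnd_isEquivOver _ _ (isEquivOver_id _)) h2

end Groth.Agent.H65.QCProd
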