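import Groth.Agent.H65.LocQDesc
import Groth.Agent.H32.StPoints
import Groth.Agent.S12819
import Groth.Agent.S12825
import Groth.Agent.H52.FieldPts

/-!
# Chart squares and surjectivity on points (helper65)
-/

set_option autoImplicit false
open CategoryTheory CategoryTheory.Limits AlgebraicGeometry Opposite
universe u

namespace Groth.Agent.H65.LocQPts

open FibCat Stk Groth.Agent.H32.FibProd Groth.Agent.H32.Fp2 Groth.Agent.H32.Fp3
  Groth.Agent.H32.Fp4 Groth.Agent.H32.SpBridge Groth.Agent.H32.PFacts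
  Groth.Agent.H32.AlgStackEquiv Groth.Agent.H32.AtlasRep Groth.Agent.H32.SpComp
  Groth.Agent.H32.StackOps Groth.Agent.H32.SectSt Groth.Agent.H32.Repr Groth.Agent.H32.SpTrack
  Groth.Agent.H32.PshFp Groth.Agent.H32.Sect Groth.Agent.H32.DiagDescent Groth.Agent.H32.Cover
  Groth.Agent.H32.DiagRep Groth.Agent.H32.GoodMore
  Groth.Agent.H65.QC Groth.Agent.H65.SpMaps Groth.Agent.H65.LocQ Groth.Agent.H65.DiagLfp
  Groth.Agent.H65.LocQDesc

variable {S : Scheme.{u}} {𝒳 𝒴 𝒵 : AlgSt.Cat S}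

theorem isSurjective_comp {𝒜 ℬ 𝒞 : AlgSt.Cat S} (a : 𝒜 ⥤ᵇ ℬ) (b : ℬ ⥤ᵇ 𝒞)
    (ha : AlgSt.IsSurjective a) (hb : AlgSt.IsSurjective b) :
    AlgSt.IsSurjective (BasedFunctor.comp a b) := by
  intro v
  obtain ⟨w, hw⟩ := hb v
  obtain ⟨t, ht⟩ := ha w
  refine ⟨t, ?_⟩
  rw [Groth.Agent.H32.StPoints.map_comp, ht, hw]

/-- a composition functor is representable by algebraic spaces. -/
theorem rep1_overMap {U V : Over S} (h : U ⟶ V) : AlgSt.RepByAlgSp1 (AlgSt.overMap h) :=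
  rep1_of_with (with_overMap_of_prop ⊤ good_top.bc h trivial)

/-- a composition functor surjective on points comes from a surjective morphism. -/
theorem isSurjectiveMor_of_overMap {U V : Over S} (h : U ⟶ V)
    (hh : AlgSt.IsSurjective (AlgSt.overMap h)) : AlgSp.IsSurjectiveMor ((AlgSp.yon S).map h) :=
  prop_of_with_overMap _ good_surjective.loc h
    ((Groth.Agent.S12819.result (isAlgStack_overCat U) (isAlgStack_overCat V) (AlgSt.overMap h)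
      (rep1_overMap h)).mp hh)

/-- for a surjective morphism of algebraic stacks, the chart morphism of a chart square whose
induced morphism to the fibre product is surjective is surjective. -/
theorem surjective_chart (h𝒳 : AlgSt.IsAlgStack Scheme.fppfPrecoverage 𝒳)
    (h𝒴 : AlgSt.IsAlgStack Scheme.fppfPrecoverage 𝒴) (f : 𝒳 ⥤ᵇ 𝒴) (hf : AlgSt.IsSurjective f)
    {U V : Over S} (x : FibCat.overCat U ⥤ᵇ 𝒳) (y : FibCat.overCat V ⥤ᵇ 𝒴) (h : U ⟶ V)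
    (α : BasedFunctor.comp x f ≅ BasedFunctor.comp (AlgSt.overMap h) y)
    (hℓ : AlgSt.RepByAlgSpWith AlgSp.IsSurjectiveMor (FibCat.fpLift x (AlgSt.overMap h) α)) :
    AlgSp.IsSurjectiveMor ((AlgSp.yon S).map h) := by
  have iX := h𝒳.isStack.1
  have iY := h𝒴.isStack.1
  have iU := Groth.Agent.S6411.over_isFibGrpd U
  have iV := Groth.Agent.S6411.over_isFibGrpd V
  have iFY : IsFibGrpd (fp f y).p := fp_isFibGrpd _ _ iX iV iY
  have hfp : AlgSt.IsAlgStack Scheme.fppfPrecoverage (fp f y) :=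
    Groth.Agent.H32.AlgStackFp.isAlgStack_fp iY h𝒴.diag h𝒳 (isAlgStack_overCat V) f y
  have h1 : AlgSt.IsSurjective (FibCat.fpLift x (AlgSt.overMap h) α) :=
    (Groth.Agent.S12819.result (isAlgStack_overCat U) hfp _ (rep1_of_with hℓ)).mpr hℓ
  have h2 : AlgSt.IsSurjective (fpFst y f) :=
    Groth.Agent.S12825.result h𝒳 h𝒴 (isAlgStack_overCat V) f y hf
  have h3 : AlgSt.IsSurjective (BasedFunctor.comp (swap f y) (fpFst y f)) :=
    isSurjective_comp _ _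
      (Groth.Agent.H32.StPoints.map_bijective (swap f y) (swap_isEquivOver f y)).2 h2
  exact isSurjectiveMor_of_overMap h (isSurjective_comp _ _ h1 h3)

/-- source descent along an fppf covering of algebraic stacks. -/
theorem locQ_of_comp_of_cover {P : MorphismProperty (AlgSp.Sp S)}
    (hP : AlgSp.IsSmoothLocalST P) (hPs : AlgSp.IsLocalOnSource AlgSp.IsFppfCover P)
    (h𝒳 : AlgSt.IsAlgStack Scheme.fppfPrecoverage 𝒳)
    (h𝒴 : AlgSt.IsAlgStack Scheme.fppfPrecoverage 𝒴)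
    (h𝒵 : AlgSt.IsAlgStack Scheme.fppfPrecoverage 𝒵) (f : 𝒳 ⥤ᵇ 𝒴) (g : 𝒴 ⥤ᵇ 𝒵)
    (hf₁ : AlgSt.LocQ (AlgSp.LocP @Flat) f)
    (hf₂ : AlgSt.LocQ (AlgSp.LocP @LocallyOfFinitePresentation) f)
    (hf₃ : AlgSt.IsSurjective f)
    (hLoc : AlgSt.LocQ P (BasedFunctor.comp f g)) : AlgSt.LocQ P g := by
  have iX := h𝒳.isStack.1
  have iY := h𝒴.isStack.1
  have iZ := h𝒵.isStack.1
  obtain ⟨Z', z, hz1, hz2⟩ := h𝒵.atlas
  obtain ⟨V, y, k, β, hy1, hy2, hℓg1, -⟩ := exists_square h𝒴 h𝒵 g z hz1 hz2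
  obtain ⟨U, x, h, α, -, -, hℓf1, hℓf2⟩ := exists_square h𝒳 h𝒴 f y hy1 hy2
  obtain ⟨U₁, V₁, x₁, y₁, h₁, α₁, a1, a2, a3, a4⟩ := hf₁
  obtain ⟨U₂, V₂, x₂, y₂, h₂, α₂, b1, b2, b3, b4⟩ := hf₂
  exact ⟨V, Z', y, z, k, β, hy1, hy2, hz1,
    prop_of_comp_cover hP hPs iX iY iZ f g hLoc z hz1 y k β hℓg1 x h α hℓf1
      (prop_of_squares Groth.Agent.H65.SmoothST.isSmoothLocalST_flat iX iY f x₁ y₁ h₁ α₁ a1 a2 a3
        a4 x y h α hy1 hℓf1)
      (prop_of_squares Groth.Agent.H65.SmoothST.isSmoothLocalST_lfp iX iY f x₂ y₂ h₂ α₂ b1 b2 b3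
        b4 x y h α hy1 hℓf1)
      (surjective_chart h𝒳 h𝒴 f hf₃ x y h α hℓf2)⟩

/-- a surjective morphism of sheaves of schemes comes from a surjective morphism of schemes. -/
theorem surjective_of_isSurjectiveMor {U V : Over S} (h : U ⟶ V)
    (hh : AlgSp.IsSurjectiveMor ((AlgSp.yon S).map h)) : Surjective h.left := by
  refine ⟨fun v => ?_⟩
  obtain ⟨r, hr⟩ := hh (AlgSp.Points.schemeHomeo V v)
  obtain ⟨t, rfl⟩ := (AlgSp.Points.schemeHomeo U).surjective r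
  rw [AlgSp.Points.map_yon_map_apply] at hr
  exact ⟨t, (AlgSp.Points.schemeHomeo V).injective hr⟩

/-- flatness descends along a flat surjective morphism of algebraic stacks on the source. -/
theorem locQ_flat_of_comp (h𝒳 : AlgSt.IsAlgStack Scheme.fppfPrecoverage 𝒳)
    (h𝒴 : AlgSt.IsAlgStack Scheme.fppfPrecoverage 𝒴)
    (h𝒵 : AlgSt.IsAlgStack Scheme.fppfPrecoverage 𝒵) (f : 𝒳 ⥤ᵇ 𝒴) (g : 𝒴 ⥤ᵇ 𝒵)
    (hf₁ : AlgSt.LocQ (AlgSp.LocP @Flat) f) (hf₃ : AlgSt.IsSurjective f)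
    (hLoc : AlgSt.LocQ (AlgSp.LocP @Flat) (BasedFunctor.comp f g)) :
    AlgSt.LocQ (AlgSp.LocP @Flat) g := by
  have iX := h𝒳.isStack.1
  have iY := h𝒴.isStack.1
  have iZ := h𝒵.isStack.1
  obtain ⟨Z', z, hz1, hz2⟩ := h𝒵.atlas
  obtain ⟨V, y, k, β, hy1, hy2, hℓg1, -⟩ := exists_square h𝒴 h𝒵 g z hz1 hz2
  obtain ⟨U, x, h, α, -, -, hℓf1, hℓf2⟩ := exists_square h𝒳 h𝒴 f y hy1 hy2
  obtain ⟨U₁, V₁, x₁, y₁, h₁, α₁, a1, a2, a3, a4⟩ := hf₁
  have c1 : Flat h.left := AlgSp.locP_yon_map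
    (prop_of_squares Groth.Agent.H65.SmoothST.isSmoothLocalST_flat iX iY f x₁ y₁ h₁ α₁ a1 a2 a3
      a4 x y h α hy1 hℓf1)
  have c2 : Surjective h.left :=
    surjective_of_isSurjectiveMor h (surjective_chart h𝒳 h𝒴 f hf₃ x y h α hℓf2)
  exact ⟨V, Z', y, z, k, β, hy1, hy2, hz1,
    Groth.Agent.H52.locP_flat_of_precomp ((AlgSp.yon S).map k) h
      (prop_comp_of_tower Groth.Agent.H65.SmoothST.isSmoothLocalST_flat iX iY iZ f g hLoc z hz1 y k
        β hℓg1 x h α hℓf1)⟩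

end Groth.Agent.H65.LocQPts
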