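import Groth.Agent.H65.LocQ
import Groth.Agent.H32.GoodMore
import Groth.Agent.H32.Cover
import Groth.Agent.S10567
import Groth.Agent.S10550
import Groth.Agent.S10549
import Groth.Agent.S10548
import Groth.Agent.S10505

/-!
# Locally of finite type, locally of finite presentation and flat are smooth local on the
source-and-target (helper65)
-/

set_option autoImplicit false
open CategoryTheory CategoryTheory.Limits AlgebraicGeometry Opposite
universe u

namespace Groth.Agent.H65.SmoothST

open Groth.Agent.H32.PFacts Groth.Agent.H32.GoodMore Groth.Agent.H32.Cover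

variable {S : Scheme.{u}}

theorem isFppfCover_of_isSmCover {ι : Type u} {X : AlgSp.Sp S} (Y : ι → AlgSp.Sp S)
    (g : ∀ i, Y i ⟶ X) (h : AlgSp.IsSmCover Y g) : AlgSp.IsFppfCover Y g :=
  ⟨fun i => ⟨locP_mono (fun _ _ g hg => by have : Smooth g := hg; infer_instance) _ (h.1 i),
    locP_mono (fun _ _ g hg => by have : Smooth g := hg; infer_instance) _ (h.1 i)⟩, h.2⟩

/-- a property fppf local on the source and on the base and stable under postcomposition with
smooth morphisms is smooth local on the source-and-target. -/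
theorem isSmoothLocalST_of_fppf (P : MorphismProperty (AlgSp.Sp S))
    (h1 : AlgSp.IsLocalOnSource (AlgSp.IsFppfCover (S := S)) P)
    (h2 : AlgSp.IsLocalOnBase (AlgSp.IsFppfCover (S := S)) P)
    (h3 : ∀ ⦃X Y Z : AlgSp.Space S⦄ (f : X ⟶ Y) (g : Y ⟶ Z), P f.hom → AlgSp.LocP @Smooth g.hom →
      P (f ≫ g).hom) : AlgSp.IsSmoothLocalST P := by
  refine Groth.Agent.S10567.result P ?_ ?_ h3
  · intro ι X Xi g hX hXi hcov Y f hY
    exact h1 Xi g hX hXi (isFppfCover_of_isSmCover Xi g hcov) f hY
  · intro ι Y Yi g hY hYi hcov X f hX Xi p q hXi hsq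
    exact h2 Yi g hY hYi (isFppfCover_of_isSmCover Yi g hcov) f hX Xi p q hXi hsq

theorem isSmoothLocalST_lft :
    AlgSp.IsSmoothLocalST (AlgSp.LocP (S := S) @LocallyOfFiniteType) :=
  isSmoothLocalST_of_fppf _ (Groth.Agent.S10550.result S) good_lft.loc
    (fun X Y Z f g hf hg => good_lft.comp X.property Y.property Z.property f.hom g.hom hf
      (locP_mono (fun _ _ g hg => by have : Smooth g := hg; infer_instance) _ hg))

theorem isSmoothLocalST_lfp :
    AlgSp.IsSmoothLocalST (AlgSp.LocP (S := S) @LocallyOfFinitePresentation) :=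
  isSmoothLocalST_of_fppf _ (Groth.Agent.S10549.result S) good_lfp.loc
    (fun X Y Z f g hf hg => good_lfp.comp X.property Y.property Z.property f.hom g.hom hf
      (locP_mono (fun _ _ g hg => by have : Smooth g := hg; infer_instance) _ hg))

theorem isSmoothLocalST_flat :
    AlgSp.IsSmoothLocalST (AlgSp.LocP (S := S) @Flat) := by
  refine isSmoothLocalST_of_fppf _ ?_ good_flat.loc
    (fun X Y Z f g hf hg => good_flat.comp X.property Y.property Z.property f.hom g.hom hf
      (locP_mono (fun _ _ g hg => by have : Smooth g := hg; infer_instance) _ hg))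
  intro ι X Xi g hX hXi hcov Y f hY
  exact Groth.Agent.S10548.result S Xi g hX hXi
    (Groth.Agent.S10505.result (⟨X, hX⟩ : AlgSp.Space S) (fun i => ⟨Xi i, hXi i⟩)
      (fun i => ObjectProperty.homMk (g i)) hcov) f hY

end Groth.Agent.H65.SmoothST
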