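import Groth.Agent.H65.LocQBC
import Groth.Agent.H65.SmoothST

/-!
# Descent of properties read on smooth chart squares (helper65)
-/

set_option autoImplicit false
open CategoryTheory CategoryTheory.Limits AlgebraicGeometry Opposite
universe u

namespace Groth.Agent.H65.LocQDesc

open FibCat Stk Groth.Agent.H32.FibProd Groth.Agent.H32.Fp2 Groth.Agent.H32.Fp3
  Groth.Agent.H32.Fp4 Groth.Agent.H32.SpBridge Groth.Agent.H32.PFacts
  Groth.Agent.H32.AlgStackEquiv Groth.Agent.H32.AtlasRep Groth.Agent.H32.SpComp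
  Groth.Agent.H32.StackOps Groth.Agent.H32.SectSt Groth.Agent.H32.Repr Groth.Agent.H32.SpTrack
  Groth.Agent.H32.PshFp Groth.Agent.H32.Sect Groth.Agent.H32.DiagDescent Groth.Agent.H32.Cover
  Groth.Agent.H32.DiagRep Groth.Agent.H32.GoodMore
  Groth.Agent.H65.QC Groth.Agent.H65.SpMaps Groth.Agent.H65.LocQ Groth.Agent.H65.DiagLfp

variable {S : Scheme.{u}} {𝒳 𝒴 𝒵 : AlgSt.Cat S}

/-- a composition functor representable with `Q` (fppf local on the base) comes from a morphism of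
schemes with `Q`. -/
theorem prop_of_with_overMap (Q : MorphismProperty (AlgSp.Sp S))
    (hQ : AlgSp.IsLocalOnBase AlgSp.IsFppfCover Q) {U V : Over S} (h : U ⟶ V)
    (hh : AlgSt.RepByAlgSpWith Q (AlgSt.overMap h)) : Q ((AlgSp.yon S).map h) := by
  have iU := Groth.Agent.S6411.over_isFibGrpd U
  have iV := Groth.Agent.S6411.over_isFibGrpd V
  have iU' : IsFibGrpd (AlgSt.ofSp ((AlgSp.yon S).obj U)).p := ofSp_isFibGrpd _
  have h1 := prop_pshMapOf_over Q hQ ⟨(AlgSp.yon S).obj U, AlgSp.IsAlgSpace.yon_obj U⟩ V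
    (BasedFunctor.comp (AlgSt.toOverCat U) (AlgSt.overMap h))
    (with_precomp_equiv Q iU' iU iV (AlgSt.toOverCat U) (toOverCat_isEquivOver U) _ hh)
  have e1 : pshMapOf (BasedFunctor.comp (BasedFunctor.comp (AlgSt.toOverCat U) (AlgSt.overMap h))
      (AlgSt.ofOverCat V)) = ((AlgSp.yon S).map h).hom :=
    pshMapOf_ofPshMap ((AlgSp.yon S).map h).hom
  have e2 : (ObjectProperty.homMk (pshMapOf (BasedFunctor.comp (BasedFunctor.comp
      (AlgSt.toOverCat U) (AlgSt.overMap h)) (AlgSt.ofOverCat V))) :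
      (AlgSp.yon S).obj U ⟶ (AlgSp.yon S).obj V) = (AlgSp.yon S).map h := by
    apply ObjectProperty.hom_ext
    exact e1
  rwa [e2] at h1

/-- `P` holds on the composite to `V` of every smooth chart of `𝒳 ×_𝒴 V`. -/
theorem prop_of_chart {P : MorphismProperty (AlgSp.Sp S)} (hP : AlgSp.IsSmoothLocalST P)
    (iX : IsFibGrpd 𝒳.p) (iY : IsFibGrpd 𝒴.p) (f : 𝒳 ⥤ᵇ 𝒴) (hLoc : AlgSt.LocQ P f)
    {U V : Over S} (y : FibCat.overCat V ⥤ᵇ 𝒴)
    (hy : AlgSt.RepByAlgSpWith (AlgSp.LocP @Smooth) y) (A : FibCat.overCat U ⥤ᵇ fp f y)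
    (hA : AlgSt.RepByAlgSpWith (AlgSp.LocP @Smooth) A) (h : U ⟶ V)
    (β : BasedFunctor.comp A (fpSnd f y) ≅ AlgSt.overMap h) : P ((AlgSp.yon S).map h) := by
  obtain ⟨U₀, V₀, x₀, y₀, h₀, α₀, hx1, hx2, hy₀, hh₀⟩ := hLoc
  have iU := Groth.Agent.S6411.over_isFibGrpd U
  have iV := Groth.Agent.S6411.over_isFibGrpd V
  have iP : IsFibGrpd (fp f y).p := fp_isFibGrpd _ _ iX iV iY
  have hℓ := with_of_iso _ iU iP (liftIso f y A (AlgSt.overMap h) β).symm hA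
  exact prop_of_squares hP iX iY f x₀ y₀ h₀ α₀ hx1 hx2 hy₀ hh₀ (BasedFunctor.comp A (fpFst f y)) y h
    _ hy hℓ

/-- in a tower of chart squares for `f` and `g`, `P` for `f ≫ g` gives `P` for the composite of the
chart morphisms. -/
theorem prop_comp_of_tower {P : MorphismProperty (AlgSp.Sp S)} (hP : AlgSp.IsSmoothLocalST P)
    (iX : IsFibGrpd 𝒳.p) (iY : IsFibGrpd 𝒴.p) (iZ : IsFibGrpd 𝒵.p) (f : 𝒳 ⥤ᵇ 𝒴) (g : 𝒴 ⥤ᵇ 𝒵)
    (hLoc : AlgSt.LocQ P (BasedFunctor.comp f g))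
    {Z' V U : Over S} (z : FibCat.overCat Z' ⥤ᵇ 𝒵)
    (hz : AlgSt.RepByAlgSpWith (AlgSp.LocP @Smooth) z)
    (y : FibCat.overCat V ⥤ᵇ 𝒴) (k : V ⟶ Z')
    (β : BasedFunctor.comp y g ≅ BasedFunctor.comp (AlgSt.overMap k) z)
    (hℓg : AlgSt.RepByAlgSpWith (AlgSp.LocP @Smooth) (FibCat.fpLift y (AlgSt.overMap k) β))
    (x : FibCat.overCat U ⥤ᵇ 𝒳) (h : U ⟶ V)
    (α : BasedFunctor.comp x f ≅ BasedFunctor.comp (AlgSt.overMap h) y)
    (hℓf : AlgSt.RepByAlgSpWith (AlgSp.LocP @Smooth) (FibCat.fpLift x (AlgSt.overMap h) α)) :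
    P ((AlgSp.yon S).map h ≫ (AlgSp.yon S).map k) := by
  have iU := Groth.Agent.S6411.over_isFibGrpd U
  have iV := Groth.Agent.S6411.over_isFibGrpd V
  have iZ' := Groth.Agent.S6411.over_isFibGrpd Z'
  have iGZ : IsFibGrpd (fp g z).p := fp_isFibGrpd _ _ iY iZ' iZ
  have iFY : IsFibGrpd (fp f y).p := fp_isFibGrpd _ _ iX iV iY
  have iYF : IsFibGrpd (fp y f).p := fp_isFibGrpd _ _ iV iX iY
  have i1 : IsFibGrpd (fp (fpFst g z) f).p := fp_isFibGrpd _ _ iGZ iX iY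
  have i2 : IsFibGrpd (fp f (fpFst g z)).p := fp_isFibGrpd _ _ iX iGZ iY
  have i3 : IsFibGrpd (fp (BasedFunctor.comp f g) z).p := fp_isFibGrpd _ _ iX iZ' iZ
  have hu : AlgSt.RepByAlgSpWith (AlgSp.LocP @Smooth)
      (BasedFunctor.comp (FibCat.fpLift x (AlgSt.overMap h) α) (swap f y)) :=
    (with_postcomp_equiv _ iU iFY iYF _ (swap f y) (swap_isEquivOver f y)).mpr hℓf
  obtain ⟨E, hE, -, ⟨ε⟩⟩ := exists_inv_isEquivOver (paste_isEquivOver f g z)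
  -- the chart of `𝒳 ×_𝒵 Z'`
  obtain ⟨B, hBdef⟩ : ∃ B : FibCat.overCat U ⥤ᵇ fp f (fpFst g z),
      B = BasedFunctor.comp (BasedFunctor.comp (FibCat.fpLift x (AlgSt.overMap h) α) (swap f y))
        (BasedFunctor.comp (pasteMid (FibCat.fpLift y (AlgSt.overMap k) β) (fpFst g z) f)
          (swap (fpFst g z) f)) := ⟨_, rfl⟩
  have hB : AlgSt.RepByAlgSpWith (AlgSp.LocP @Smooth) B := by
    rw [hBdef]
    refine with_comp good_smooth iU iYF i2 _ _ hu ?_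
    exact (with_postcomp_equiv _ iYF i1 i2 _ (swap (fpFst g z) f)
      (swap_isEquivOver (fpFst g z) f)).mpr
      (with_pasteMid _ iV iGZ iY iX (FibCat.fpLift y (AlgSt.overMap k) β) (fpFst g z) f hℓg)
  have hA : AlgSt.RepByAlgSpWith (AlgSp.LocP @Smooth) (BasedFunctor.comp B E) :=
    (with_postcomp_equiv _ iU i2 i3 B E hE).mpr hB
  have β' : BasedFunctor.comp (BasedFunctor.comp B E) (fpSnd (BasedFunctor.comp f g) z) ≅
      BasedFunctor.comp (AlgSt.overMap h) (AlgSt.overMap k) := by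
    subst hBdef
    exact whiskerLeftIso _ (whiskerRightIso ε
      (BasedFunctor.comp (fpSnd f (fpFst g z)) (fpSnd g z)))
  obtain ⟨m, ⟨γ⟩⟩ := Groth.Agent.H65.OverYoneda.exists_overMap_iso
    (BasedFunctor.comp (AlgSt.overMap h) (AlgSt.overMap k))
  have hPm : P ((AlgSp.yon S).map m) :=
    prop_of_chart hP iX iZ (BasedFunctor.comp f g) hLoc z hz (BasedFunctor.comp B E) hA m
      (β' ≪≫ γ)
  have em : (AlgSp.yon S).map m = (AlgSp.yon S).map h ≫ (AlgSp.yon S).map k := by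
    apply ObjectProperty.hom_ext
    rw [yon_map_eq_of_iso _ m γ]
    have e1 : pshMapOf (BasedFunctor.comp (AlgSt.toOverCat U) (BasedFunctor.comp
        (BasedFunctor.comp (AlgSt.overMap h) (AlgSt.overMap k)) (AlgSt.ofOverCat Z'))) =
        pshMapOf (BasedFunctor.comp (Stk.ofPshMap ((AlgSp.yon S).map h).hom)
          (Stk.ofPshMap ((AlgSp.yon S).map k).hom)) := rfl
    rw [e1, pshMapOf_comp, pshMapOf_ofPshMap, pshMapOf_ofPshMap]
    rfl
  rw [em] at hPm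
  exact hPm

/-- source descent: in a tower of chart squares for `f` and `g` whose chart morphism for `f` is an
fppf covering, `P` for `f ≫ g` gives `P` for the chart morphism of `g`. -/
theorem prop_of_comp_cover {P : MorphismProperty (AlgSp.Sp S)} (hP : AlgSp.IsSmoothLocalST P)
    (hPs : AlgSp.IsLocalOnSource AlgSp.IsFppfCover P)
    (iX : IsFibGrpd 𝒳.p) (iY : IsFibGrpd 𝒴.p) (iZ : IsFibGrpd 𝒵.p) (f : 𝒳 ⥤ᵇ 𝒴) (g : 𝒴 ⥤ᵇ 𝒵)
    (hLoc : AlgSt.LocQ P (BasedFunctor.comp f g))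
    {Z' V U : Over S} (z : FibCat.overCat Z' ⥤ᵇ 𝒵)
    (hz : AlgSt.RepByAlgSpWith (AlgSp.LocP @Smooth) z)
    (y : FibCat.overCat V ⥤ᵇ 𝒴) (k : V ⟶ Z')
    (β : BasedFunctor.comp y g ≅ BasedFunctor.comp (AlgSt.overMap k) z)
    (hℓg : AlgSt.RepByAlgSpWith (AlgSp.LocP @Smooth) (FibCat.fpLift y (AlgSt.overMap k) β))
    (x : FibCat.overCat U ⥤ᵇ 𝒳) (h : U ⟶ V)
    (α : BasedFunctor.comp x f ≅ BasedFunctor.comp (AlgSt.overMap h) y)
    (hℓf : AlgSt.RepByAlgSpWith (AlgSp.LocP @Smooth) (FibCat.fpLift x (AlgSt.overMap h) α))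
    (hh1 : AlgSp.LocP @Flat ((AlgSp.yon S).map h))
    (hh2 : AlgSp.LocP @LocallyOfFinitePresentation ((AlgSp.yon S).map h))
    (hh3 : AlgSp.IsSurjectiveMor ((AlgSp.yon S).map h)) :
    P ((AlgSp.yon S).map k) :=
  (hPs (ι := PUnit.{u + 1}) (fun _ => (AlgSp.yon S).obj U) (fun _ => (AlgSp.yon S).map h)
    (AlgSp.IsAlgSpace.yon_obj V) (fun _ => AlgSp.IsAlgSpace.yon_obj U)
    ⟨fun _ => ⟨hh1, hh2⟩, fun v => ⟨PUnit.unit, hh3 v⟩⟩ ((AlgSp.yon S).map k)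
    (AlgSp.IsAlgSpace.yon_obj Z')).mpr
    (fun _ => prop_comp_of_tower hP iX iY iZ f g hLoc z hz y k β hℓg x h α hℓf)

/-- source descent along a representable fppf covering. -/
theorem locQ_of_comp_of_rep_cover {P : MorphismProperty (AlgSp.Sp S)}
    (hP : AlgSp.IsSmoothLocalST P) (hPs : AlgSp.IsLocalOnSource AlgSp.IsFppfCover P)
    (h𝒳 : AlgSt.IsAlgStack Scheme.fppfPrecoverage 𝒳)
    (h𝒴 : AlgSt.IsAlgStack Scheme.fppfPrecoverage 𝒴)
    (h𝒵 : AlgSt.IsAlgStack Scheme.fppfPrecoverage 𝒵) (f : 𝒳 ⥤ᵇ 𝒴) (g : 𝒴 ⥤ᵇ 𝒵)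
    (hf₁ : AlgSt.RepByAlgSpWith (AlgSp.LocP @Flat) f)
    (hf₂ : AlgSt.RepByAlgSpWith (AlgSp.LocP @LocallyOfFinitePresentation) f)
    (hf₃ : AlgSt.RepByAlgSpWith AlgSp.IsSurjectiveMor f)
    (hLoc : AlgSt.LocQ P (BasedFunctor.comp f g)) : AlgSt.LocQ P g := by
  have iX := h𝒳.isStack.1
  have iY := h𝒴.isStack.1
  have iZ := h𝒵.isStack.1
  obtain ⟨Z', z, hz1, hz2⟩ := h𝒵.atlas
  obtain ⟨V, y, k, β, hy1, hy2, hℓg1, -⟩ := exists_square h𝒴 h𝒵 g z hz1 hz2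
  obtain ⟨U, x, h, α, -, -, hℓf1, hℓf2⟩ := exists_square h𝒳 h𝒴 f y hy1 hy2
  have iU := Groth.Agent.S6411.over_isFibGrpd U
  have iV := Groth.Agent.S6411.over_isFibGrpd V
  have iFY : IsFibGrpd (fp f y).p := fp_isFibGrpd _ _ iX iV iY
  have c1 : AlgSt.RepByAlgSpWith (AlgSp.LocP @Flat) (AlgSt.overMap h) :=
    with_comp good_flat iU iFY iV (FibCat.fpLift x (AlgSt.overMap h) α) (fpSnd f y)
      (smooth_imp (fun _ _ g hg => by have : Smooth g := hg; infer_instance) hℓf1)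
      (repByAlgSpWith_fpSnd _ f y hf₁)
  have c2 : AlgSt.RepByAlgSpWith (AlgSp.LocP @LocallyOfFinitePresentation) (AlgSt.overMap h) :=
    with_comp good_lfp iU iFY iV (FibCat.fpLift x (AlgSt.overMap h) α) (fpSnd f y)
      (smooth_imp (fun _ _ g hg => by have : Smooth g := hg; infer_instance) hℓf1)
      (repByAlgSpWith_fpSnd _ f y hf₂)
  have c3 : AlgSt.RepByAlgSpWith AlgSp.IsSurjectiveMor (AlgSt.overMap h) :=
    with_comp good_surjective iU iFY iV (FibCat.fpLift x (AlgSt.overMap h) α) (fpSnd f y)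
      hℓf2 (repByAlgSpWith_fpSnd _ f y hf₃)
  exact ⟨V, Z', y, z, k, β, hy1, hy2, hz1,
    prop_of_comp_cover hP hPs iX iY iZ f g hLoc z hz1 y k β hℓg1 x h α hℓf1
      (prop_of_with_overMap _ good_flat.loc h c1) (prop_of_with_overMap _ good_lfp.loc h c2)
      (prop_of_with_overMap _ good_surjective.loc h c3)⟩

end Groth.Agent.H65.LocQDesc
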