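import Groth.Agent.H65.SpMaps
import Groth.Agent.H32.DiagDescent
import Groth.Agent.H32.AlgStackFp
import Groth.Agent.H65.AffComp
import Groth.Agent.H52.FibProd

/-!
# Properties of morphisms of algebraic stacks read on smooth chart squares (helper65)
-/

set_option autoImplicit false
open CategoryTheory CategoryTheory.Limits AlgebraicGeometry Opposite
universe u

namespace Groth.Agent.H65.LocQ

open FibCat Stk Groth.Agent.H32.FibProd Groth.Agent.H32.Fp2 Groth.Agent.H32.Fp3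
  Groth.Agent.H32.Fp4 Groth.Agent.H32.SpBridge Groth.Agent.H32.PFacts
  Groth.Agent.H32.AlgStackEquiv Groth.Agent.H32.AtlasRep Groth.Agent.H32.SpComp
  Groth.Agent.H32.StackOps Groth.Agent.H32.SectSt Groth.Agent.H32.Repr Groth.Agent.H32.SpTrack
  Groth.Agent.H32.PshFp Groth.Agent.H32.Sect Groth.Agent.H32.DiagDescent
  Groth.Agent.H65.QC Groth.Agent.H65.SpMaps

variable {S : Scheme.{u}} {𝒳 𝒴 : AlgSt.Cat S}

/-- `exists_isPullback_baseChange` of helper32, with the compatibility of the comparison map with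
the second projections. -/
theorem exists_isPullback_baseChange' (f : 𝒳 ⥤ᵇ 𝒴) {G F G' F' : AlgSp.PSp S}
    (h : Stk.ofPsh G ⥤ᵇ 𝒴) (eF : Stk.ofPsh F ⥤ᵇ fp h f) (heF : IsEquivOver eF)
    (k : G' ⟶ G) (eF' : Stk.ofPsh F' ⥤ᵇ fp (BasedFunctor.comp (Stk.ofPshMap k) h) f)
    (heF' : IsEquivOver eF') :
    ∃ q : F' ⟶ F, IsPullback q
      (pshMapOf (BasedFunctor.comp eF' (fpFst (BasedFunctor.comp (Stk.ofPshMap k) h) f)))
      (pshMapOf (BasedFunctor.comp eF (fpFst h f))) k ∧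
      ∀ (Q : AlgSp.PSp S) (T : 𝒳 ⥤ᵇ Stk.ofPsh Q),
        q ≫ pshMapOf (BasedFunctor.comp eF (BasedFunctor.comp (fpSnd h f) T)) =
          pshMapOf (BasedFunctor.comp eF'
            (BasedFunctor.comp (fpSnd (BasedFunctor.comp (Stk.ofPshMap k) h) f) T)) := by
  obtain ⟨α⟩ := ofPshMap_pshMapOf (BasedFunctor.comp eF (fpFst h f))
  obtain ⟨E2, hE2, -, ⟨ε2⟩⟩ := exists_inv_isEquivOver
    (pasteMidR_isEquivOver (Stk.ofPshMap k) eF (fpFst h f) heF)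
  obtain ⟨E, hEdef⟩ : ∃ E : Stk.ofPsh F' ⥤ᵇ fp (Stk.ofPshMap k)
      (Stk.ofPshMap (pshMapOf (BasedFunctor.comp eF (fpFst h f)))),
      E = BasedFunctor.comp eF' (BasedFunctor.comp (paste (Stk.ofPshMap k) h f)
        (BasedFunctor.comp E2 (congrRight (Stk.ofPshMap k) α.symm))) := ⟨_, rfl⟩
  have hE : IsEquivOver E := by
    rw [hEdef]
    exact isEquivOver_comp _ _ heF' (isEquivOver_comp _ _ (paste_isEquivOver _ _ _)
      (isEquivOver_comp _ _ hE2 (congrRight_isEquivOver _ _)))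
  have sq := isPullback_of_equiv (pshMapOf (BasedFunctor.comp eF (fpFst h f))) k E hE
  have e1 : pshMapOf (BasedFunctor.comp E (fpFst _ _)) =
      pshMapOf (BasedFunctor.comp eF' (fpFst (BasedFunctor.comp (Stk.ofPshMap k) h) f)) := by
    rw [hEdef]
    refine pshMapOf_eq_of_hom _ _ (fun a => ?_)
    exact ⟨(fpFst (Stk.ofPshMap k) (fpFst h f)).map
        (appIso ε2 ((paste (Stk.ofPshMap k) h f).obj (eF'.obj a))).hom,
      isHomLift_id_of_eq _ (eF'.w_obj a) _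
        ((BasedFunctor.isHomLift_iff (fpFst (Stk.ofPshMap k) (fpFst h f)) _ _).mpr
          (appIso_isHomLift ε2 ((paste (Stk.ofPshMap k) h f).obj (eF'.obj a))))⟩
  rw [e1] at sq
  refine ⟨_, sq, fun Q T => ?_⟩
  rw [← pshMapOf_comp, hEdef]
  apply pshMapOf_congr
  exact (whiskerLeftIso (BasedFunctor.comp eF' (paste (Stk.ofPshMap k) h f))
    (whiskerRightIso ε2 (BasedFunctor.comp (fpSnd (Stk.ofPshMap k) (fpFst h f))
      (BasedFunctor.comp (fpSnd h f) T)))).hom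

theorem hw_aux {D : Type*} [Category D] {a b c : D} (m : a ⟶ a) (X : a ⟶ b) (Y : b ⟶ c)
    (Z : a ⟶ c) (hm : m = 𝟙 a) (hZ : Z = X ≫ Y) : m ≫ Z = X ≫ Y := by
  subst hm hZ; simp

/-- every functor into a 2-fibre product is a lift of its projections, the second one taken up to
a 2-isomorphism. -/
def liftIso {𝒯 𝒜 ℬ 𝒞 : AlgSt.Cat S} (F : 𝒜 ⥤ᵇ 𝒞) (G : ℬ ⥤ᵇ 𝒞) (A : 𝒯 ⥤ᵇ fp F G)
    (b' : 𝒯 ⥤ᵇ ℬ) (β : BasedFunctor.comp A (fpSnd F G) ≅ b') :
    A ≅ FibCat.fpLift (F := F) (G := G) (BasedFunctor.comp A (fpFst F G)) b'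
      (whiskerLeftIso A (fpIso F G) ≪≫ whiskerRightIso β G) :=
  fpIsoMk _ _ (fun t => Iso.refl _) (fun t => appIso β t)
    (fun t => isHomLift_id_of_eq 𝒜.p ((BasedFunctor.comp A (fpFst F G)).w_obj t) _
      (IsHomLift.id rfl))
    (fun t => hw_aux _ _ _ _ (F.toFunctor.map_id _) rfl)
    (fun _ => id_nat_aux _ _ rfl) (fun k => appIso_naturality β k)

theorem rep1_of_with {P : MorphismProperty (AlgSp.Sp S)} {𝒜 ℬ : AlgSt.Cat S} {f : 𝒜 ⥤ᵇ ℬ}
    (hf : AlgSt.RepByAlgSpWith P f) : AlgSt.RepByAlgSp1 f := fun U y => by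
  obtain ⟨F, e, he, -⟩ := hf U y
  exact ⟨F, e, he⟩

/-- the key comparison of two smooth chart squares of a morphism `f` of stacks: if `P` (smooth
local on the source-and-target) holds on a reference square whose chart of the source is
surjective, then it holds on every square whose induced morphism to the fibre product is
smooth. -/
theorem prop_of_squares {P : MorphismProperty (AlgSp.Sp S)} (hP : AlgSp.IsSmoothLocalST P)
    (iX : IsFibGrpd 𝒳.p) (iY : IsFibGrpd 𝒴.p) (f : 𝒳 ⥤ᵇ 𝒴)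
    {U₀ V₀ : Over S} (x₀ : FibCat.overCat U₀ ⥤ᵇ 𝒳) (y₀ : FibCat.overCat V₀ ⥤ᵇ 𝒴) (h₀ : U₀ ⟶ V₀)
    (α₀ : BasedFunctor.comp x₀ f ≅ BasedFunctor.comp (AlgSt.overMap h₀) y₀)
    (hx₀1 : AlgSt.RepByAlgSpWith (AlgSp.LocP @Smooth) x₀)
    (hx₀2 : AlgSt.RepByAlgSpWith AlgSp.IsSurjectiveMor x₀)
    (hy₀ : AlgSt.RepByAlgSpWith (AlgSp.LocP @Smooth) y₀) (hh₀ : P ((AlgSp.yon S).map h₀))
    {U V : Over S} (x : FibCat.overCat U ⥤ᵇ 𝒳) (y : FibCat.overCat V ⥤ᵇ 𝒴) (h : U ⟶ V)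
    (α : BasedFunctor.comp x f ≅ BasedFunctor.comp (AlgSt.overMap h) y)
    (hy : AlgSt.RepByAlgSpWith (AlgSp.LocP @Smooth) y)
    (hℓ : AlgSt.RepByAlgSpWith (AlgSp.LocP @Smooth) (FibCat.fpLift x (AlgSt.overMap h) α)) :
    P ((AlgSp.yon S).map h) := by
  have iU := Groth.Agent.S6411.over_isFibGrpd U
  have iV := Groth.Agent.S6411.over_isFibGrpd V
  have iU₀ := Groth.Agent.S6411.over_isFibGrpd U₀
  have iV₀ := Groth.Agent.S6411.over_isFibGrpd V₀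
  have iU₀' : IsFibGrpd (AlgSt.ofSp ((AlgSp.yon S).obj U₀)).p := ofSp_isFibGrpd _
  have iV₀' : IsFibGrpd (AlgSt.ofSp ((AlgSp.yon S).obj V₀)).p := ofSp_isFibGrpd _
  have iP : IsFibGrpd (fp f y).p := fp_isFibGrpd _ _ iX iV iY
  have hy1 : AlgSt.RepByAlgSp1 y := rep1_of_with hy
  have hℓ1 : AlgSt.RepByAlgSp1 (FibCat.fpLift x (AlgSt.overMap h) α) := rep1_of_with hℓ
  -- the legs from the sheaves of `U₀` and `V₀`
  obtain ⟨t₀, ht₀def⟩ : ∃ t₀ : AlgSt.ofSp ((AlgSp.yon S).obj V₀) ⥤ᵇ 𝒴,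
      t₀ = BasedFunctor.comp (AlgSt.toOverCat V₀) y₀ := ⟨_, rfl⟩
  have ht₀ : AlgSt.RepByAlgSpWith (AlgSp.LocP @Smooth) t₀ := by
    rw [ht₀def]
    exact with_precomp_equiv _ iV₀' iV₀ iY (AlgSt.toOverCat V₀) (toOverCat_isEquivOver V₀) y₀ hy₀
  obtain ⟨x₀', hx₀'def⟩ : ∃ x₀' : AlgSt.ofSp ((AlgSp.yon S).obj U₀) ⥤ᵇ 𝒳,
      x₀' = BasedFunctor.comp (AlgSt.toOverCat U₀) x₀ := ⟨_, rfl⟩
  have hx₀'1 : AlgSt.RepByAlgSpWith (AlgSp.LocP @Smooth) x₀' := by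
    rw [hx₀'def]
    exact with_precomp_equiv _ iU₀' iU₀ iX (AlgSt.toOverCat U₀) (toOverCat_isEquivOver U₀) x₀ hx₀1
  have hx₀'2 : AlgSt.RepByAlgSpWith AlgSp.IsSurjectiveMor x₀' := by
    rw [hx₀'def]
    exact with_precomp_equiv _ iU₀' iU₀ iX (AlgSt.toOverCat U₀) (toOverCat_isEquivOver U₀) x₀ hx₀2
  -- the spaces `V'' = V₀ ×_𝒴 V` and `Z' = U₀ ×_𝒴 V`
  obtain ⟨V'', eV, heV⟩ := Groth.Agent.H32.SpBoot.repByAlgSp_fp_ofSp iV iY
    ⟨(AlgSp.yon S).obj V₀, AlgSp.IsAlgSpace.yon_obj V₀⟩ t₀ y hy1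
  obtain ⟨Z', eZ, heZ⟩ := Groth.Agent.H32.SpBoot.repByAlgSp_fp_ofSp iV iY
    ⟨(AlgSp.yon S).obj U₀, AlgSp.IsAlgSpace.yon_obj U₀⟩
    (BasedFunctor.comp (Stk.ofPshMap ((AlgSp.yon S).map h₀).hom) t₀) y hy1
  obtain ⟨q, sqZ, hq⟩ := exists_isPullback_baseChange' y t₀ eV heV ((AlgSp.yon S).map h₀).hom
    eZ heZ
  have sqZ' : IsPullback (ObjectProperty.homMk q : Z'.obj ⟶ V''.obj)
      (ObjectProperty.homMk (pshMapOf (BasedFunctor.comp eZ (fpFst (BasedFunctor.comp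
        (Stk.ofPshMap ((AlgSp.yon S).map h₀).hom) t₀) y))) : Z'.obj ⟶ (AlgSp.yon S).obj U₀)
      (ObjectProperty.homMk (pshMapOf (BasedFunctor.comp eV (fpFst t₀ y))) :
        V''.obj ⟶ (AlgSp.yon S).obj V₀) ((AlgSp.yon S).map h₀) :=
    IsPullback.of_map_of_faithful (sheafToPresheaf (AlgSp.J S) (Type (u + 1))) sqZ
  have hβ₂ : AlgSp.LocP @Smooth (ObjectProperty.homMk
      (pshMapOf (BasedFunctor.comp eV (fpFst t₀ y))) : V''.obj ⟶ (AlgSp.yon S).obj V₀) :=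
    P_baseChange (AlgSp.LocP @Smooth) good_smooth.loc y hy
      ⟨(AlgSp.yon S).obj V₀, AlgSp.IsAlgSpace.yon_obj V₀⟩ V'' t₀ eV heV
  have hPq : P (ObjectProperty.homMk q : Z'.obj ⟶ V''.obj) :=
    hP.baseChange (AlgSp.IsAlgSpace.yon_obj U₀) (AlgSp.IsAlgSpace.yon_obj V₀) Z'.property
      V''.property _ _ _ _ sqZ'.flip hβ₂ hh₀
  -- `b : V'' ⟶ V`
  have iFV : IsFibGrpd (fp t₀ y).p := fp_isFibGrpd _ _ iV₀' iV iY
  have hb : AlgSp.LocP @Smooth (ObjectProperty.homMk (pshMapOf (BasedFunctor.comp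
      (BasedFunctor.comp eV (fpSnd t₀ y)) (AlgSt.ofOverCat V))) :
        V''.obj ⟶ (AlgSp.yon S).obj V) :=
    prop_pshMapOf_over _ good_smooth.loc V'' V _
      (with_precomp_equiv _ (ofSp_isFibGrpd V''.obj) iFV iV eV heV _
        (repByAlgSpWith_fpSnd _ t₀ y ht₀))
  -- the morphism `ζ : Z' ⟶ 𝒳 ×_𝒴 V`
  obtain ⟨α₀', hα₀'⟩ : ∃ α₀' : BasedFunctor.comp x₀' f ≅
      BasedFunctor.comp (Stk.ofPshMap ((AlgSp.yon S).map h₀).hom) t₀,
      α₀' = α₀' := by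
    rw [hx₀'def, ht₀def]
    exact ⟨whiskerLeftIso (AlgSt.toOverCat U₀) α₀, rfl⟩
  obtain ⟨ζ, hζdef⟩ : ∃ ζ : AlgSt.ofSp Z'.obj ⥤ᵇ fp f y,
      ζ = BasedFunctor.comp eZ (BasedFunctor.comp (congrLeft α₀'.symm y) (pasteMid x₀' f y)) :=
    ⟨_, rfl⟩
  have iZ1 : IsFibGrpd (fp (BasedFunctor.comp (Stk.ofPshMap ((AlgSp.yon S).map h₀).hom) t₀) y).p :=
    fp_isFibGrpd _ _ iU₀' iV iY
  have iZ2 : IsFibGrpd (fp (BasedFunctor.comp x₀' f) y).p := fp_isFibGrpd _ _ iU₀' iV iY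
  have hζ1 : AlgSt.RepByAlgSpWith (AlgSp.LocP @Smooth) ζ := by
    rw [hζdef]
    exact with_precomp_equiv _ (ofSp_isFibGrpd Z'.obj) iZ1 iP eZ heZ _
      (with_precomp_equiv _ iZ1 iZ2 iP _ (congrLeft_isEquivOver α₀'.symm y) _
        (with_pasteMid _ iU₀' iX iY iV x₀' f y hx₀'1))
  have hζ2 : AlgSt.RepByAlgSpWith AlgSp.IsSurjectiveMor ζ := by
    rw [hζdef]
    exact with_precomp_equiv _ (ofSp_isFibGrpd Z'.obj) iZ1 iP eZ heZ _
      (with_precomp_equiv _ iZ1 iZ2 iP _ (congrLeft_isEquivOver α₀'.symm y) _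
        (with_pasteMid _ iU₀' iX iY iV x₀' f y hx₀'2))
  -- the space `W = Z' ×_{𝒳 ×_𝒴 V} U`
  obtain ⟨W, eW, heW⟩ := Groth.Agent.H32.SpBoot.repByAlgSp_fp_ofSp iU iP Z' ζ
    (FibCat.fpLift x (AlgSt.overMap h) α) hℓ1
  have iW : IsFibGrpd (fp ζ (FibCat.fpLift x (AlgSt.overMap h) α)).p :=
    fp_isFibGrpd _ _ (ofSp_isFibGrpd Z'.obj) iU iP
  have hm : AlgSp.LocP @Smooth (ObjectProperty.homMk (pshMapOf (BasedFunctor.comp eW
      (fpFst ζ (FibCat.fpLift x (AlgSt.overMap h) α)))) : W.obj ⟶ Z'.obj) :=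
    P_baseChange (AlgSp.LocP @Smooth) good_smooth.loc _ hℓ Z' W ζ eW heW
  have ha1 : AlgSp.LocP @Smooth (ObjectProperty.homMk (pshMapOf (BasedFunctor.comp
      (BasedFunctor.comp eW (fpSnd ζ (FibCat.fpLift x (AlgSt.overMap h) α)))
      (AlgSt.ofOverCat U))) : W.obj ⟶ (AlgSp.yon S).obj U) :=
    prop_pshMapOf_over _ good_smooth.loc W U _
      (with_precomp_equiv _ (ofSp_isFibGrpd W.obj) iW iU eW heW _
        (repByAlgSpWith_fpSnd _ ζ _ hζ1))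
  have ha2 : AlgSp.IsSurjectiveMor (ObjectProperty.homMk (pshMapOf (BasedFunctor.comp
      (BasedFunctor.comp eW (fpSnd ζ (FibCat.fpLift x (AlgSt.overMap h) α)))
      (AlgSt.ofOverCat U))) : W.obj ⟶ (AlgSp.yon S).obj U) :=
    prop_pshMapOf_over _ good_surjective.loc W U _
      (with_precomp_equiv _ (ofSp_isFibGrpd W.obj) iW iU eW heW _
        (repByAlgSpWith_fpSnd _ ζ _ hζ2))
  -- the equation
  have heq : pshMapOf (BasedFunctor.comp (BasedFunctor.comp eW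
        (fpSnd ζ (FibCat.fpLift x (AlgSt.overMap h) α))) (AlgSt.ofOverCat U)) ≫
      ((AlgSp.yon S).map h).hom =
      (pshMapOf (BasedFunctor.comp eW (fpFst ζ (FibCat.fpLift x (AlgSt.overMap h) α))) ≫ q) ≫
        pshMapOf (BasedFunctor.comp (BasedFunctor.comp eV (fpSnd t₀ y)) (AlgSt.ofOverCat V)) := by
    have e1 : pshMapOf (BasedFunctor.comp (BasedFunctor.comp eW
          (fpSnd ζ (FibCat.fpLift x (AlgSt.overMap h) α))) (AlgSt.ofOverCat U)) ≫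
        ((AlgSp.yon S).map h).hom =
        pshMapOf (BasedFunctor.comp (BasedFunctor.comp (BasedFunctor.comp eW
          (fpSnd ζ (FibCat.fpLift x (AlgSt.overMap h) α))) (AlgSt.ofOverCat U))
          (Stk.ofPshMap ((AlgSp.yon S).map h).hom)) := by
      rw [pshMapOf_comp, pshMapOf_ofPshMap]
    rw [e1, Category.assoc]
    have e2 := hq _ (AlgSt.ofOverCat V)
    have e2' : q ≫ pshMapOf (BasedFunctor.comp (BasedFunctor.comp eV (fpSnd t₀ y))
        (AlgSt.ofOverCat V)) = pshMapOf (BasedFunctor.comp eZ (BasedFunctor.comp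
          (fpSnd (BasedFunctor.comp (Stk.ofPshMap ((AlgSp.yon S).map h₀).hom) t₀) y)
          (AlgSt.ofOverCat V))) := e2
    rw [e2', ← pshMapOf_comp]
    subst hζdef
    apply pshMapOf_congr
    exact (whiskerLeftIso eW (whiskerRightIso
      (fpIso _ (FibCat.fpLift x (AlgSt.overMap h) α)).symm
      (BasedFunctor.comp (fpSnd f y) (AlgSt.ofOverCat V)))).hom
  -- locality
  refine (hP.locality (AlgSp.IsAlgSpace.yon_obj U) (AlgSp.IsAlgSpace.yon_obj V)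
    ((AlgSp.yon S).map h)).mpr (fun u => ?_)
  obtain ⟨v, hv⟩ := ha2 u
  refine ⟨W.obj, V''.obj, _, _, (ObjectProperty.homMk (pshMapOf (BasedFunctor.comp eW
      (fpFst ζ (FibCat.fpLift x (AlgSt.overMap h) α)))) : W.obj ⟶ Z'.obj) ≫
      (ObjectProperty.homMk q : Z'.obj ⟶ V''.obj), v, W.property, V''.property, ha1, hb, ?_, hv,
    hP.precomp W.property Z'.property V''.property _ _ hm hPq⟩
  apply ObjectProperty.hom_ext
  exact heq

theorem isAlgStack_overCat (V : Over S) :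
    AlgSt.IsAlgStack Scheme.fppfPrecoverage (FibCat.overCat V) :=
  isAlgStack_of_equiv (AlgSt.toOverCat V) (toOverCat_isEquivOver V)
    (isAlgStack_ofSp ⟨(AlgSp.yon S).obj V, AlgSp.IsAlgSpace.yon_obj V⟩)

/-- for a smooth surjective chart `y` of the target there is a 2-commutative square of smooth
charts whose chart of the source is surjective and whose induced morphism to the fibre product is
smooth (and surjective). -/
theorem exists_square (h𝒳 : AlgSt.IsAlgStack Scheme.fppfPrecoverage 𝒳)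
    (h𝒴 : AlgSt.IsAlgStack Scheme.fppfPrecoverage 𝒴) (f : 𝒳 ⥤ᵇ 𝒴) {V : Over S}
    (y : FibCat.overCat V ⥤ᵇ 𝒴) (hy1 : AlgSt.RepByAlgSpWith (AlgSp.LocP @Smooth) y)
    (hy2 : AlgSt.RepByAlgSpWith AlgSp.IsSurjectiveMor y) :
    ∃ (U : Over S) (x : FibCat.overCat U ⥤ᵇ 𝒳) (h : U ⟶ V)
      (α : BasedFunctor.comp x f ≅ BasedFunctor.comp (AlgSt.overMap h) y),
      AlgSt.RepByAlgSpWith (AlgSp.LocP @Smooth) x ∧ AlgSt.RepByAlgSpWith AlgSp.IsSurjectiveMor x ∧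
      AlgSt.RepByAlgSpWith (AlgSp.LocP @Smooth) (FibCat.fpLift x (AlgSt.overMap h) α) ∧
      AlgSt.RepByAlgSpWith AlgSp.IsSurjectiveMor (FibCat.fpLift x (AlgSt.overMap h) α) := by
  have iX := h𝒳.isStack.1
  have iY := h𝒴.isStack.1
  have iV := Groth.Agent.S6411.over_isFibGrpd V
  have iP : IsFibGrpd (fp f y).p := fp_isFibGrpd _ _ iX iV iY
  have h𝒫 : AlgSt.IsAlgStack Scheme.fppfPrecoverage (fp f y) :=
    Groth.Agent.H32.AlgStackFp.isAlgStack_fp iY h𝒴.diag h𝒳 (isAlgStack_overCat V) f y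
  obtain ⟨U, u, hu1, hu2⟩ := h𝒫.atlas
  have iU := Groth.Agent.S6411.over_isFibGrpd U
  obtain ⟨h, ⟨β⟩⟩ := Groth.Agent.H65.OverYoneda.exists_overMap_iso
    (BasedFunctor.comp u (fpSnd f y))
  have p1 : AlgSt.RepByAlgSpWith (AlgSp.LocP @Smooth) (fpFst f y) :=
    Groth.Agent.S12779.result iV iY iX _ y f hy1
  have p2 : AlgSt.RepByAlgSpWith AlgSp.IsSurjectiveMor (fpFst f y) :=
    Groth.Agent.S12779.result iV iY iX _ y f hy2
  refine ⟨U, BasedFunctor.comp u (fpFst f y), h,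
    whiskerLeftIso u (fpIso f y) ≪≫ whiskerRightIso β y,
    with_comp good_smooth iU iP iX _ _ hu1 p1, with_comp good_surjective iU iP iX _ _ hu2 p2,
    with_of_iso _ iU iP (liftIso f y u (AlgSt.overMap h) β).symm hu1,
    with_of_iso _ iU iP (liftIso f y u (AlgSt.overMap h) β).symm hu2⟩

/-- a morphism of algebraic spaces with a property stable under base change is representable with
that property, as a 1-morphism. -/
theorem with_ofPshMap_of_prop (Q : MorphismProperty (AlgSp.Sp S))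
    (hQ : ∀ ⦃X₁ Y₁ X₂ Y₂ : AlgSp.Sp S⦄, AlgSp.IsAlgSpace X₁ → AlgSp.IsAlgSpace Y₁ →
      AlgSp.IsAlgSpace X₂ → AlgSp.IsAlgSpace Y₂ → ∀ (a : X₁ ⟶ Y₁) (b : Y₂ ⟶ Y₁) (a' : X₂ ⟶ Y₂)
      (b' : X₂ ⟶ X₁), IsPullback b' a' a b → Q a → Q a')
    (F G : AlgSp.Space S) (a : F.obj ⟶ G.obj) (ha : Q a) :
    AlgSt.RepByAlgSpWith Q (Stk.ofPshMap a.hom) := by
  -- the property `Q` restricted to algebraic spaces respects isomorphisms
  let Q' : MorphismProperty (AlgSp.Sp S) := fun X Y f =>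
    AlgSp.IsAlgSpace X ∧ AlgSp.IsAlgSpace Y ∧ Q f
  have hQ' : Q'.RespectsIso := by
    refine MorphismProperty.RespectsIso.mk _ ?_ ?_
    · rintro X X' Y e f ⟨hX', hY, hf⟩
      have hX : AlgSp.IsAlgSpace X := hX'.of_iso e.symm
      refine ⟨hX, hY, hQ hX' hY hX hY f (𝟙 Y) (e.hom ≫ f) e.hom
        (IsPullback.of_horiz_isIso ⟨by simp⟩) hf⟩
    · rintro X Y Y' e f ⟨hX, hY, hf⟩
      have hY' : AlgSp.IsAlgSpace Y' := hY.of_iso e
      refine ⟨hX, hY', hQ hX hY hX hY' f e.inv (f ≫ e.hom) (𝟙 X)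
        (IsPullback.of_horiz_isIso ⟨by simp⟩) hf⟩
  have hrep : AlgSp.RepBySp a.hom := repBySp_of_algSpaces a F.property G.property
  have h1 : AlgSp.RepBySpWith Q' a.hom := by
    rw [AlgSp.repBySpWith_hom_iff]
    intro U ξ F' fst snd sq
    have hF' : AlgSp.IsAlgSpace F' :=
      Groth.Agent.H52.isAlgSpace_of_isPullback sq G.property.diag F.property
        (AlgSp.IsAlgSpace.yon_obj U)
    exact ⟨hF', hF', AlgSp.IsAlgSpace.yon_obj U,
      hQ F.property G.property hF' (AlgSp.IsAlgSpace.yon_obj U) a ξ snd fst sq ha⟩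
  have h2 := (Groth.Agent.S12778.result Q' a.hom hrep).mp h1
  exact Groth.Agent.H65.AffComp.with_mono (fun _ _ _ h => h.2.2) _ h2

/-- the morphism of schemes of a functor `(Sch/T) ⟶ (Sch/V)` isomorphic to a composition
functor. -/
theorem yon_map_eq_of_iso {T V : Over S} (H : FibCat.overCat T ⥤ᵇ FibCat.overCat V) (a : T ⟶ V)
    (β : H ≅ AlgSt.overMap a) :
    ((AlgSp.yon S).map a).hom = pshMapOf (BasedFunctor.comp (AlgSt.toOverCat T)
      (BasedFunctor.comp H (AlgSt.ofOverCat V))) := by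
  have e1 : pshMapOf (BasedFunctor.comp (AlgSt.toOverCat T)
      (BasedFunctor.comp (AlgSt.overMap a) (AlgSt.ofOverCat V))) = ((AlgSp.yon S).map a).hom :=
    pshMapOf_ofPshMap ((AlgSp.yon S).map a).hom
  rw [← e1]
  apply pshMapOf_congr
  exact (whiskerLeftIso (AlgSt.toOverCat T) (whiskerRightIso β (AlgSt.ofOverCat V))).inv

/-- if `f` has `P` on one square of smooth charts then the base change of `f` to a smooth chart
of the target, when representable, has `P`. -/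
theorem prop_of_locQ_rep {P : MorphismProperty (AlgSp.Sp S)} (hP : AlgSp.IsSmoothLocalST P)
    (iX : IsFibGrpd 𝒳.p) (iY : IsFibGrpd 𝒴.p) (f : 𝒳 ⥤ᵇ 𝒴) (hLoc : AlgSt.LocQ P f)
    {V : Over S} (y : FibCat.overCat V ⥤ᵇ 𝒴)
    (hy : AlgSt.RepByAlgSpWith (AlgSp.LocP @Smooth) y) (F : AlgSp.Space S)
    (e : AlgSt.ofSp F.obj ⥤ᵇ fp y f) (he : IsEquivOver e) :
    P (AlgSt.spMapOfOver (BasedFunctor.comp e (fpFst y f))) := by
  obtain ⟨U₀, V₀, x₀, y₀, h₀, α₀, hx1, hx2, hy₀, hh₀⟩ := hLoc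
  obtain ⟨U, p, hp1, hp2⟩ := F.property.atlas
  have iU := Groth.Agent.S6411.over_isFibGrpd U
  have iV := Groth.Agent.S6411.over_isFibGrpd V
  have iP : IsFibGrpd (fp f y).p := fp_isFibGrpd _ _ iX iV iY
  have i1 := locP_respectsIso (S := S) @Smooth
  have c1 : AlgSt.RepByAlgSpWith (AlgSp.LocP @Smooth) (ofPoint p.hom) :=
    repByAlgSpWith_ofPoint @Etale (AlgSp.LocP @Smooth)
      (fun F' U snd h => locP_smooth_of_repWith_etale snd h) p hp1
  have hE : IsEquivOver (BasedFunctor.comp e (swap y f)) :=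
    isEquivOver_comp _ _ he (swap_isEquivOver y f)
  obtain ⟨A, hAdef⟩ : ∃ A : FibCat.overCat U ⥤ᵇ fp f y,
      A = BasedFunctor.comp (ofPoint p.hom) (BasedFunctor.comp e (swap y f)) := ⟨_, rfl⟩
  have hA : AlgSt.RepByAlgSpWith (AlgSp.LocP @Smooth) A := by
    rw [hAdef]
    exact (with_postcomp_equiv _ iU (ofSp_isFibGrpd F.obj) iP (ofPoint p.hom) _ hE).mpr c1
  obtain ⟨h, ⟨β⟩⟩ := Groth.Agent.H65.OverYoneda.exists_overMap_iso
    (BasedFunctor.comp A (fpSnd f y))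
  have hℓ := with_of_iso _ iU iP (liftIso f y A (AlgSt.overMap h) β).symm hA
  have hPh : P ((AlgSp.yon S).map h) :=
    prop_of_squares hP iX iY f x₀ y₀ h₀ α₀ hx1 hx2 hy₀ hh₀ (BasedFunctor.comp A (fpFst f y)) y h
      _ hy hℓ
  have e1 : ((AlgSp.yon S).map h).hom =
      p.hom ≫ (AlgSt.spMapOfOver (BasedFunctor.comp e (fpFst y f))).hom := by
    have e2 : pshMapOf (BasedFunctor.comp (Stk.ofPshMap p.hom)
        (BasedFunctor.comp (BasedFunctor.comp e (fpFst y f)) (AlgSt.ofOverCat V))) =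
        p.hom ≫ (AlgSt.spMapOfOver (BasedFunctor.comp e (fpFst y f))).hom := by
      rw [pshMapOf_comp, pshMapOf_ofPshMap, spMapOfOver_hom]
    rw [← e2, yon_map_eq_of_iso _ h β, hAdef]
    rfl
  have hid : AlgSp.LocP @Smooth (𝟙 ((AlgSp.yon S).obj V)) := by
    have := etale_ci.{u}
    exact locP_smooth_of_repWith_etale _ (AlgSp.repWith_id @Etale V)
  refine (hP.locality F.property (AlgSp.IsAlgSpace.yon_obj V) _).mpr (fun z => ?_)
  obtain ⟨v, hv⟩ := Groth.Agent.H32.AtlasCover.isSurjectiveMor_of_repWith p hp2 z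
  refine ⟨(AlgSp.yon S).obj U, (AlgSp.yon S).obj V, p, 𝟙 _, (AlgSp.yon S).map h, v,
    AlgSp.IsAlgSpace.yon_obj U, AlgSp.IsAlgSpace.yon_obj V,
    locP_smooth_of_repWith_etale p hp1, hid, ?_, hv, hPh⟩
  rw [Category.comp_id]
  apply ObjectProperty.hom_ext
  exact e1.symm

end Groth.Agent.H65.LocQ
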