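import Groth.Agent.H65.LocQPts
import Groth.Agent.H32.StTop
import Groth.Agent.S12993
import Groth.Agent.S13038
import Groth.Agent.S12765

/-!
# Composites of charts with morphisms having a property on chart squares (helper65)
-/

set_option autoImplicit false
open CategoryTheory CategoryTheory.Limits AlgebraicGeometry Opposite
universe u

namespace Groth.Agent.H65.LocQRep

open FibCat Stk Groth.Agent.H32.FibProd Groth.Agent.H32.Fp2 Groth.Agent.H32.Fp3
  Groth.Agent.H32.Fp4 Groth.Agent.H32.SpBridge Groth.Agent.H32.PFacts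
  Groth.Agent.H32.AlgStackEquiv Groth.Agent.H32.AtlasRep Groth.Agent.H32.SpComp
  Groth.Agent.H32.StackOps Groth.Agent.H32.SectSt Groth.Agent.H32.Repr Groth.Agent.H32.SpTrack
  Groth.Agent.H32.PshFp Groth.Agent.H32.Sect Groth.Agent.H32.DiagDescent Groth.Agent.H32.Cover
  Groth.Agent.H32.DiagRep Groth.Agent.H32.GoodMore Groth.Agent.H32.DiagApps
  Groth.Agent.H65.QC Groth.Agent.H65.SpMaps Groth.Agent.H65.LocQ Groth.Agent.H65.DiagLfp
  Groth.Agent.H65.LocQDesc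

variable {S : Scheme.{u}} {𝒳 𝒴 𝒵 : AlgSt.Cat S}

/-- every functor from a scheme to an algebraic stack is representable by algebraic spaces. -/
theorem rep1_chart (h𝒴 : AlgSt.IsAlgStack Scheme.fppfPrecoverage 𝒴) {U : Over S}
    (t : FibCat.overCat U ⥤ᵇ 𝒴) : AlgSt.RepByAlgSp1 t :=
  (Groth.Agent.S12765.result h𝒴.isStack.1).mp h𝒴.diag U t

/-- a smooth chart has every good smooth local property implied by smoothness, on chart squares. -/
theorem locQ_chart {P : MorphismProperty (AlgSp.Sp S)} (hP : AlgSp.IsSmoothLocalST P)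
    (hG : Good P) (hsm : ∀ ⦃X Y : AlgSp.Sp S⦄ (a : X ⟶ Y), AlgSp.LocP @Smooth a → P a)
    (h𝒳 : AlgSt.IsAlgStack Scheme.fppfPrecoverage 𝒳) {U : Over S} (x : FibCat.overCat U ⥤ᵇ 𝒳)
    (hx : AlgSt.RepByAlgSpWith (AlgSp.LocP @Smooth) x) : AlgSt.LocQ P x :=
  (Groth.Agent.S12993.result S P hP hG.bc hG.loc (FibCat.overCat U) 𝒳 (isAlgStack_overCat U) h𝒳 x
    (rep1_of_with hx)).mpr (with_imp hsm hx)

/-- the composite of a smooth chart with a morphism having `P` on chart squares is representable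
with `P`. -/
theorem with_chart_comp {P : MorphismProperty (AlgSp.Sp S)} (hP : AlgSp.IsSmoothLocalST P)
    (hG : Good P) (hsm : ∀ ⦃X Y : AlgSp.Sp S⦄ (a : X ⟶ Y), AlgSp.LocP @Smooth a → P a)
    (h𝒳 : AlgSt.IsAlgStack Scheme.fppfPrecoverage 𝒳)
    (h𝒴 : AlgSt.IsAlgStack Scheme.fppfPrecoverage 𝒴) (f : 𝒳 ⥤ᵇ 𝒴) (hLoc : AlgSt.LocQ P f)
    {U : Over S} (x : FibCat.overCat U ⥤ᵇ 𝒳)
    (hx : AlgSt.RepByAlgSpWith (AlgSp.LocP @Smooth) x) :
    AlgSt.RepByAlgSpWith P (BasedFunctor.comp x f) :=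
  (Groth.Agent.S12993.result S P hP hG.bc hG.loc (FibCat.overCat U) 𝒴 (isAlgStack_overCat U) h𝒴
    (BasedFunctor.comp x f) (rep1_chart h𝒴 _)).mp
    (Groth.Agent.S13038.result S P hP hG.comp (FibCat.overCat U) 𝒳 𝒴 (isAlgStack_overCat U) h𝒳 h𝒴
      x f (locQ_chart hP hG hsm h𝒳 x hx) hLoc)

theorem flat_of_smooth ⦃X Y : AlgSp.Sp S⦄ (a : X ⟶ Y) (h : AlgSp.LocP @Smooth a) :
    AlgSp.LocP @Flat a :=
  locP_mono (fun _ _ g hg => by have : Smooth g := hg; infer_instance) a h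

theorem lfp_of_smooth ⦃X Y : AlgSp.Sp S⦄ (a : X ⟶ Y) (h : AlgSp.LocP @Smooth a) :
    AlgSp.LocP @LocallyOfFinitePresentation a :=
  locP_mono (fun _ _ g hg => by have : Smooth g := hg; infer_instance) a h

/-- a flat, locally finitely presented morphism of algebraic stacks is open on points. -/
theorem isOpenMor_of_flat_lfp (h𝒳 : AlgSt.IsAlgStack Scheme.fppfPrecoverage 𝒳)
    (h𝒴 : AlgSt.IsAlgStack Scheme.fppfPrecoverage 𝒴) (f : 𝒳 ⥤ᵇ 𝒴)
    (h1 : AlgSt.LocQ (AlgSp.LocP @Flat) f)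
    (h2 : AlgSt.LocQ (AlgSp.LocP @LocallyOfFinitePresentation) f) : AlgSt.IsOpenMor f := by
  obtain ⟨U, x, hx1, hx2⟩ := h𝒳.atlas
  exact Groth.Agent.H32.StTop.isOpenMap_of_atlas h𝒳 h𝒴 f x hx1 hx2
    (Groth.Agent.H32.StTop.with_flat_lfp
      (with_chart_comp Groth.Agent.H65.SmoothST.isSmoothLocalST_flat good_flat flat_of_smooth
        h𝒳 h𝒴 f h1 x hx1)
      (with_chart_comp Groth.Agent.H65.SmoothST.isSmoothLocalST_lfp good_lfp lfp_of_smooth
        h𝒳 h𝒴 f h2 x hx1))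

end Groth.Agent.H65.LocQRep
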