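import Groth.Agent.H65.OverYoneda

/-!
# Common refinement of two smooth scheme charts of a stack (helper65)
-/

set_option autoImplicit false
open CategoryTheory CategoryTheory.Limits AlgebraicGeometry Opposite
universe u

namespace Groth.Agent.H65.Refine

open FibCat Stk Groth.Agent.H32.FibProd Groth.Agent.H32.Fp2 Groth.Agent.H32.Fp3
  Groth.Agent.H32.Fp4 Groth.Agent.H32.SpBridge Groth.Agent.H32.PFacts
  Groth.Agent.H32.AtlasRep Groth.Agent.H32.SpComp Groth.Agent.H32.StackOps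
  Groth.Agent.H32.SectSt Groth.Agent.H32.Repr Groth.Agent.H32.SpTrack Groth.Agent.H32.PshFp
  Groth.Agent.H65.OverYoneda

variable {S : Scheme.{u}}

/-- a property of the composition functor `(Sch/T) ⟶ (Sch/U)` of `a : T ⟶ U`, as a 1-morphism
representable by algebraic spaces, is a property of the morphism of sheaves `h_a`. -/
theorem prop_of_with_overMap (Q : MorphismProperty (AlgSp.Sp S)) [Q.RespectsIso] {T U : Over S}
    (a : T ⟶ U) (h : AlgSt.RepByAlgSpWith Q (AlgSt.overMap a)) : Q ((AlgSp.yon S).map a) := by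
  have i1 : IsFibGrpd (AlgSt.ofSch T).p := inferInstanceAs (IsFibGrpd (EltObj.forget _))
  have i2 : IsFibGrpd (AlgSt.ofSch U).p := inferInstanceAs (IsFibGrpd (EltObj.forget _))
  have h3 : AlgSt.RepByAlgSpWith Q (Stk.ofPshMap ((AlgSp.yon S).map a).hom) :=
    (Groth.Agent.S12782.result i1 i2 (Groth.Agent.S6411.over_isFibGrpd T)
      (Groth.Agent.S6411.over_isFibGrpd U) Q
      (Stk.ofPshMap ((AlgSp.yon S).map a).hom) (AlgSt.overMap a) (AlgSt.ofOverCat T)
      (AlgSt.ofOverCat U) (ofOverCat_isEquivOver T) (ofOverCat_isEquivOver U) (Iso.refl _)).mpr h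
  have hrep : AlgSp.RepBySp ((AlgSp.yon S).map a).hom :=
    repBySp_of_algSpaces _ (AlgSp.IsAlgSpace.yon_obj T) (AlgSp.IsAlgSpace.yon_obj U)
  have h4 := (Groth.Agent.S12778.result Q _ hrep).mpr h3
  rw [AlgSp.repBySpWith_hom_iff] at h4
  exact (h4 (𝟙 _) (𝟙 _) ((AlgSp.yon S).map a) (IsPullback.of_horiz_isIso ⟨by simp⟩)).2

theorem smooth_of_with_overMap {T U : Over S} (a : T ⟶ U)
    (h : AlgSt.RepByAlgSpWith (AlgSp.LocP @Smooth) (AlgSt.overMap a)) : Smooth a.left := by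
  have := locP_respectsIso (S := S) @Smooth
  exact AlgSp.locP_yon_map (prop_of_with_overMap _ a h)

theorem surjective_of_with_overMap {T U : Over S} (a : T ⟶ U)
    (h : AlgSt.RepByAlgSpWith AlgSp.IsSurjectiveMor (AlgSt.overMap a)) : Surjective a.left := by
  have := isSurjectiveMor_respectsIso (S := S)
  have h1 : Function.Surjective (AlgSp.Points.map ((AlgSp.yon S).map a)) :=
    prop_of_with_overMap _ a h
  rw [AlgSp.Points.map_yon_map_eq] at h1
  refine ⟨fun u => ?_⟩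
  obtain ⟨t, ht⟩ := h1 (AlgSp.Points.schemeHomeo U u)
  refine ⟨(AlgSp.Points.schemeHomeo T).symm t, ?_⟩
  exact (AlgSp.Points.schemeHomeo U).injective ht

/-- two smooth scheme charts `x`, `x₀` of `𝒳`, the second surjective, have a common refinement by a
scheme `T`, smooth over both and surjective over the source of `x`. -/
theorem exists_refinement {𝒳 : AlgSt.Cat S} (h𝒳 : IsFibGrpd 𝒳.p) {U U₀ : Over S}
    (x : FibCat.overCat U ⥤ᵇ 𝒳) (x₀ : FibCat.overCat U₀ ⥤ᵇ 𝒳)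
    (hx : AlgSt.RepByAlgSpWith (AlgSp.LocP @Smooth) x)
    (hx₀1 : AlgSt.RepByAlgSpWith (AlgSp.LocP @Smooth) x₀)
    (hx₀2 : AlgSt.RepByAlgSpWith AlgSp.IsSurjectiveMor x₀) :
    ∃ (T : Over S) (a : T ⟶ U) (b : T ⟶ U₀),
      Nonempty (BasedFunctor.comp (AlgSt.overMap a) x ≅ BasedFunctor.comp (AlgSt.overMap b) x₀) ∧
      Smooth a.left ∧ Surjective a.left ∧ Smooth b.left := by
  have hUg := Groth.Agent.S6411.over_isFibGrpd U
  have hU₀g := Groth.Agent.S6411.over_isFibGrpd U₀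
  have hfp : IsFibGrpd (fp x x₀).p := fp_isFibGrpd x x₀ hUg hU₀g h𝒳
  have p1 : AlgSt.RepByAlgSpWith (AlgSp.LocP @Smooth) (fpFst x x₀) :=
    Groth.Agent.S12779.result hU₀g h𝒳 hUg _ x₀ x hx₀1
  have p2 : AlgSt.RepByAlgSpWith AlgSp.IsSurjectiveMor (fpFst x x₀) :=
    Groth.Agent.S12779.result hU₀g h𝒳 hUg _ x₀ x hx₀2
  have p3 : AlgSt.RepByAlgSpWith (AlgSp.LocP @Smooth) (fpSnd x x₀) :=
    repByAlgSpWith_fpSnd _ x x₀ hx
  obtain ⟨F, e, he, -⟩ := hx₀1 U x
  obtain ⟨⟨T, x₁, ht1, ht2⟩, -⟩ := hasAtlas_ofSp F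
  have hTg := Groth.Agent.S6411.over_isFibGrpd T
  have hF := ofSp_isFibGrpd F.obj
  have A1 : AlgSt.RepByAlgSpWith (AlgSp.LocP @Smooth)
      (BasedFunctor.comp x₁ (BasedFunctor.comp e (fpFst x x₀))) :=
    with_comp good_smooth hTg hF hUg _ _ ht1 (with_precomp_equiv _ hF hfp hUg e he _ p1)
  have A2 : AlgSt.RepByAlgSpWith AlgSp.IsSurjectiveMor
      (BasedFunctor.comp x₁ (BasedFunctor.comp e (fpFst x x₀))) :=
    with_comp good_surjective hTg hF hUg _ _ ht2 (with_precomp_equiv _ hF hfp hUg e he _ p2)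
  have B1 : AlgSt.RepByAlgSpWith (AlgSp.LocP @Smooth)
      (BasedFunctor.comp x₁ (BasedFunctor.comp e (fpSnd x x₀))) :=
    with_comp good_smooth hTg hF hU₀g _ _ ht1 (with_precomp_equiv _ hF hfp hU₀g e he _ p3)
  obtain ⟨a, ⟨βa⟩⟩ := exists_overMap_iso (BasedFunctor.comp x₁ (BasedFunctor.comp e (fpFst x x₀)))
  obtain ⟨b, ⟨βb⟩⟩ := exists_overMap_iso (BasedFunctor.comp x₁ (BasedFunctor.comp e (fpSnd x x₀)))
  refine ⟨T, a, b, ⟨?_⟩, smooth_of_with_overMap a (with_of_iso _ hTg hUg βa.symm A1),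
    surjective_of_with_overMap a (with_of_iso _ hTg hUg βa.symm A2),
    smooth_of_with_overMap b (with_of_iso _ hTg hU₀g βb.symm B1)⟩
  exact (whiskerRightIso βa.symm x) ≪≫ (whiskerLeftIso (BasedFunctor.comp x₁ e) (fpIso x x₀)) ≪≫
    (whiskerRightIso βb x₀)

end Groth.Agent.H65.Refine
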