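import Groth.Agent.H65.QC
import Groth.Agent.H65.Refine
import Groth.Agent.H32.AlgStackFp
import Groth.Agent.H32.SpBoot
import Groth.Agent.H52.QC
import Groth.Agent.S10180

/-!
# Quasi-compact stacks and quasi-compact morphisms (helper65)
-/

set_option autoImplicit false
open CategoryTheory CategoryTheory.Limits AlgebraicGeometry Opposite
universe u

namespace Groth.Agent.H65.QCMor

open FibCat Stk Groth.Agent.H32.FibProd Groth.Agent.H32.Fp2 Groth.Agent.H32.Fp3
  Groth.Agent.H32.Fp4 Groth.Agent.H32.SpBridge Groth.Agent.H32.PFacts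
  Groth.Agent.H32.AlgStackEquiv Groth.Agent.H32.AtlasRep Groth.Agent.H32.SpComp
  Groth.Agent.H32.StackOps Groth.Agent.H32.SectSt Groth.Agent.H32.Repr Groth.Agent.H32.SpTrack
  Groth.Agent.H32.PshFp Groth.Agent.H32.Sect Groth.Agent.H65.QC

variable {S : Scheme.{u}}

/-- the stack of a quasi-compact algebraic space is quasi-compact. -/
theorem isQuasiCompact_ofSp (Z : AlgSp.Space S) (hZ : AlgSp.IsQuasiCompactSp Z.obj) :
    AlgSt.IsQuasiCompact (AlgSt.ofSp Z.obj) := by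
  obtain ⟨W, p, hW, hp1, hp2⟩ := (Groth.Agent.S10180.result Z).1 hZ
  have i1 := locP_respectsIso (S := S) @Smooth
  have i2 := isSurjectiveMor_respectsIso (S := S)
  exact ⟨W, ofPoint p.hom, hW,
    repByAlgSpWith_ofPoint @Etale (AlgSp.LocP @Smooth)
      (fun F' U snd h => locP_smooth_of_repWith_etale snd h) p hp1,
    repByAlgSpWith_ofPoint @Surjective AlgSp.IsSurjectiveMor
      (fun F' U snd h => isSurjectiveMor_of_repWith_to_yon snd h) p hp2⟩

/-- a surjective chart `(Sch/W) ⟶ ofSp F` induces a surjective morphism `h_W ⟶ F`. -/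
theorem surjective_pointMap (F : AlgSp.Space S) {W : Over S}
    (x : FibCat.overCat W ⥤ᵇ AlgSt.ofSp F.obj)
    (hx : AlgSt.RepByAlgSpWith AlgSp.IsSurjectiveMor x) :
    AlgSp.IsSurjectiveMor
      (ObjectProperty.homMk (pointMap x) : (AlgSp.yon S).obj W ⟶ F.obj) := by
  have hid : IsEquivOver (BasedFunctor.id (AlgSt.ofSp F.obj)) := isEquivOver_id _
  obtain ⟨E2, hE2, -, ⟨ε2⟩⟩ :=
    exists_inv_isEquivOver (fpSnd_isEquivOver (BasedFunctor.id (AlgSt.ofSp F.obj)) x hid)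
  have heF : IsEquivOver (BasedFunctor.comp (AlgSt.toOverCat W) E2) :=
    isEquivOver_comp _ _ (toOverCat_isEquivOver W) hE2
  have h := P_baseChange AlgSp.IsSurjectiveMor good_surjective.loc x hx F
    ⟨(AlgSp.yon S).obj W, AlgSp.IsAlgSpace.yon_obj W⟩ (BasedFunctor.id _)
    (BasedFunctor.comp (AlgSt.toOverCat W) E2) heF
  have e : pshMapOf (BasedFunctor.comp (BasedFunctor.comp (AlgSt.toOverCat W) E2)
      (fpFst (BasedFunctor.id (AlgSt.ofSp F.obj)) x)) = pointMap x := by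
    apply pshMapOf_congr
    exact (whiskerLeftIso (AlgSt.toOverCat W)
      ((whiskerLeftIso E2 (fpIso (BasedFunctor.id (AlgSt.ofSp F.obj)) x)) ≪≫
        whiskerRightIso ε2 x)).hom
  rw [e] at h
  exact h

/-- an algebraic space whose stack is quasi-compact is quasi-compact. -/
theorem isQuasiCompactSp_of_ofSp (F : AlgSp.Space S)
    (h : AlgSt.IsQuasiCompact (AlgSt.ofSp F.obj)) : AlgSp.IsQuasiCompactSp F.obj := by
  obtain ⟨W, x, hW, -, hx2⟩ := h
  have hs := surjective_pointMap F x hx2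
  have hc : CompactSpace ↥W.left := by
    have := hW
    infer_instance
  exact Groth.Agent.H52.isQuasiCompactSp_of_surjective _ F.property hs
    (Groth.Agent.H52.isQuasiCompactSp_yon W)

/-- the base change of a quasi-compact stack along a morphism representable by algebraic spaces
and quasi-compact is quasi-compact. -/
theorem isQuasiCompact_fp_of_qcMor {𝒳 𝒴 𝒵 : AlgSt.Cat S} (h𝒳 : IsFibGrpd 𝒳.p)
    (h𝒴 : IsFibGrpd 𝒴.p) (h𝒵 : IsFibGrpd 𝒵.p)
    (f : 𝒳 ⥤ᵇ 𝒴) (hf : AlgSt.RepByAlgSpWith AlgSp.IsQuasiCompactMor f) (g : 𝒵 ⥤ᵇ 𝒴)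
    (hqc : AlgSt.IsQuasiCompact 𝒵) : AlgSt.IsQuasiCompact (fp g f) := by
  obtain ⟨U, x, hU, hx1, hx2⟩ := hqc
  obtain ⟨F, e, he, ha⟩ := hf U (BasedFunctor.comp x g)
  have hc : CompactSpace ↥U.left := by
    have := hU
    infer_instance
  have hF : AlgSp.IsQuasiCompactSp F.obj :=
    ha (AlgSp.IsAlgSpace.yon_obj U) (Groth.Agent.H52.isQuasiCompactSp_yon U) (𝟙 _) (𝟙 _)
      (AlgSt.spMapOfOver (BasedFunctor.comp e (fpFst (BasedFunctor.comp x g) f)))
      (IsPullback.of_horiz_isIso ⟨by simp⟩)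
  obtain ⟨W, p, hW, hp1, hp2⟩ := (Groth.Agent.S10180.result F).1 hF
  have i1 := locP_respectsIso (S := S) @Smooth
  have i2 := isSurjectiveMor_respectsIso (S := S)
  have c1 : AlgSt.RepByAlgSpWith (AlgSp.LocP @Smooth) (ofPoint p.hom) :=
    repByAlgSpWith_ofPoint @Etale (AlgSp.LocP @Smooth)
      (fun F' U snd h => locP_smooth_of_repWith_etale snd h) p hp1
  have c2 : AlgSt.RepByAlgSpWith AlgSp.IsSurjectiveMor (ofPoint p.hom) :=
    repByAlgSpWith_ofPoint @Surjective AlgSp.IsSurjectiveMor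
      (fun F' U snd h => isSurjectiveMor_of_repWith_to_yon snd h) p hp2
  have hUg := Groth.Agent.S6411.over_isFibGrpd U
  have hWg := Groth.Agent.S6411.over_isFibGrpd W
  have hgf : IsFibGrpd (fp g f).p := fp_isFibGrpd g f h𝒵 h𝒳 h𝒴
  have hxgf : IsFibGrpd (fp x (fpFst g f)).p := fp_isFibGrpd _ _ hUg hgf h𝒵
  have hE : IsEquivOver (BasedFunctor.comp e (paste x g f)) :=
    isEquivOver_comp _ _ he (paste_isEquivOver x g f)
  have r1 : AlgSt.RepByAlgSpWith (AlgSp.LocP @Smooth)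
      (BasedFunctor.comp (BasedFunctor.comp e (paste x g f)) (fpSnd x (fpFst g f))) :=
    with_precomp_equiv _ (ofSp_isFibGrpd F.obj) hxgf hgf _ hE _
      (repByAlgSpWith_fpSnd _ x (fpFst g f) hx1)
  have r2 : AlgSt.RepByAlgSpWith AlgSp.IsSurjectiveMor
      (BasedFunctor.comp (BasedFunctor.comp e (paste x g f)) (fpSnd x (fpFst g f))) :=
    with_precomp_equiv _ (ofSp_isFibGrpd F.obj) hxgf hgf _ hE _
      (repByAlgSpWith_fpSnd _ x (fpFst g f) hx2)
  exact ⟨W, BasedFunctor.comp (ofPoint p.hom)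
      (BasedFunctor.comp (BasedFunctor.comp e (paste x g f)) (fpSnd x (fpFst g f))), hW,
    with_comp good_smooth hWg (ofSp_isFibGrpd F.obj) hgf _ _ c1 r1,
    with_comp good_surjective hWg (ofSp_isFibGrpd F.obj) hgf _ _ c2 r2⟩

/-- a morphism representable by algebraic spaces all of whose base changes to quasi-compact
algebraic stacks are quasi-compact is quasi-compact as a representable morphism. -/
theorem qcMor_of_isQuasiCompactMor {𝒳 𝒴 : AlgSt.Cat S} (h𝒳 : IsFibGrpd 𝒳.p) (h𝒴 : IsFibGrpd 𝒴.p)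
    (f : 𝒳 ⥤ᵇ 𝒴) (hf : AlgSt.RepByAlgSp1 f)
    (hq : AlgSt.IsQuasiCompactMor Scheme.fppfPrecoverage f) :
    AlgSt.RepByAlgSpWith AlgSp.IsQuasiCompactMor f := by
  intro U y
  obtain ⟨F, e, he⟩ := hf U y
  refine ⟨F, e, he, ?_⟩
  intro Z Z' hZ hZq g fst snd sq
  obtain ⟨eF, heFdef⟩ : ∃ eF : AlgSt.ofSp F.obj ⥤ᵇ fp (BasedFunctor.comp (AlgSt.toOverCat U) y) f,
      eF = BasedFunctor.comp e (pasteMid (AlgSt.ofOverCat U)
        (BasedFunctor.comp (AlgSt.toOverCat U) y) f) := ⟨_, rfl⟩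
  have heF : IsEquivOver eF := by
    rw [heFdef]
    exact isEquivOver_comp _ _ he (pasteMid_isEquivOver (AlgSt.ofOverCat U)
      (BasedFunctor.comp (AlgSt.toOverCat U) y) f (ofOverCat_isEquivOver U))
  have e0 : pshMapOf (BasedFunctor.comp eF (fpFst (BasedFunctor.comp (AlgSt.toOverCat U) y) f)) =
      (AlgSt.spMapOfOver (BasedFunctor.comp e (fpFst y f))).hom := by
    rw [spMapOfOver_hom, heFdef]
    rfl
  -- the quasi-compact algebraic stack of `Z`
  have hZst : AlgSt.IsAlgStack Scheme.fppfPrecoverage (AlgSt.ofSp Z) :=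
    isAlgStack_ofSp ⟨Z, hZ⟩
  have hZqc : AlgSt.IsQuasiCompact (AlgSt.ofSp Z) := isQuasiCompact_ofSp ⟨Z, hZ⟩ hZq
  have hfpqc := hq (AlgSt.ofSp Z) hZst hZqc
    (BasedFunctor.comp (Stk.ofPshMap g.hom) (BasedFunctor.comp (AlgSt.toOverCat U) y))
  obtain ⟨F', eF', heF'⟩ := Groth.Agent.H32.SpBoot.repByAlgSp_fp_ofSp h𝒳 h𝒴 ⟨Z, hZ⟩
    (BasedFunctor.comp (Stk.ofPshMap g.hom) (BasedFunctor.comp (AlgSt.toOverCat U) y)) f hf
  obtain ⟨q, sq'⟩ := exists_isPullback_baseChange f (BasedFunctor.comp (AlgSt.toOverCat U) y)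
    eF heF g.hom eF' heF'
  -- `F'` is quasi-compact
  obtain ⟨E', hE', -, -⟩ := exists_inv_isEquivOver heF'
  have hfpg : IsFibGrpd (fp (BasedFunctor.comp (Stk.ofPshMap g.hom)
      (BasedFunctor.comp (AlgSt.toOverCat U) y)) f).p :=
    fp_isFibGrpd _ _ (ofSp_isFibGrpd Z) h𝒳 h𝒴
  have hF'qc : AlgSp.IsQuasiCompactSp F'.obj :=
    isQuasiCompactSp_of_ofSp F' (isQuasiCompact_of_equiv hfpg (ofSp_isFibGrpd F'.obj) E' hE' hfpqc)
  -- compare `Z'` with `F'`
  rw [e0] at sq'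
  have sq'' : IsPullback (ObjectProperty.homMk q : F'.obj ⟶ F.obj)
      (ObjectProperty.homMk (pshMapOf (BasedFunctor.comp eF' (fpFst (BasedFunctor.comp
        (Stk.ofPshMap g.hom) (BasedFunctor.comp (AlgSt.toOverCat U) y)) f))) : F'.obj ⟶ Z)
      (AlgSt.spMapOfOver (BasedFunctor.comp e (fpFst y f))) g :=
    IsPullback.of_map_of_faithful (sheafToPresheaf (AlgSp.J S) (Type (u + 1))) sq'
  have hiso : IsIso (sq''.isoIsPullback _ _ sq).hom := inferInstance
  have hs : Function.Surjective (AlgSp.Points.map (sq''.isoIsPullback _ _ sq).hom) := by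
    have := isSurjectiveMor_respectsIso (S := S)
    have h1 : AlgSp.IsSurjectiveMor (𝟙 F'.obj) := by
      intro t
      exact ⟨t, by simp⟩
    have h2 := MorphismProperty.RespectsIso.postcomp (AlgSp.IsSurjectiveMor (S := S))
      (sq''.isoIsPullback _ _ sq).hom (𝟙 _) h1
    rwa [Category.id_comp] at h2
  exact Groth.Agent.H52.isQuasiCompactSp_of_surjective _
    (F'.property.of_iso (sq''.isoIsPullback _ _ sq)) hs hF'qc

end Groth.Agent.H65.QCMor
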