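import Groth.Agent.H65.ChartSq

/-!
# 2-Yoneda for slices: every functor `(Sch/T) ⟶ (Sch/V)` over `(Sch/S)` is a composition functor
(helper65)
-/

set_option autoImplicit false
open CategoryTheory CategoryTheory.Limits AlgebraicGeometry Opposite
universe u

namespace Groth.Agent.H65.OverYoneda

open FibCat Stk Groth.Agent.H32.FibProd Groth.Agent.H32.Fp2 Groth.Agent.H32.Fp3
  Groth.Agent.H32.Fp4 Groth.Agent.H32.SpBridge Groth.Agent.H32.PshFp Groth.Agent.H32.SpTrack

variable {S : Scheme.{u}}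

/-- every functor `(Sch/T) ⟶ (Sch/V)` over `(Sch/S)` is 2-isomorphic to composition with a
morphism `a : T ⟶ V` over `S`. -/
theorem exists_overMap_iso {T V : Over S} (H : FibCat.overCat T ⥤ᵇ FibCat.overCat V) :
    ∃ a : T ⟶ V, Nonempty (H ≅ AlgSt.overMap a) := by
  obtain ⟨a, ha⟩ : ∃ a : T ⟶ V, ((AlgSp.yon S).map a).hom =
      pointMap (BasedFunctor.comp H (AlgSt.ofOverCat V)) := by
    refine ⟨(AlgSp.yon S).preimage (ObjectProperty.homMk
      (pointMap (BasedFunctor.comp H (AlgSt.ofOverCat V))) :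
        (AlgSp.yon S).obj T ⟶ (AlgSp.yon S).obj V), ?_⟩
    rw [Functor.map_preimage]
    rfl
  obtain ⟨β₁⟩ := pointMap_iso (BasedFunctor.comp H (AlgSt.ofOverCat V))
  rw [← ha] at β₁
  exact ⟨a, ⟨(whiskerRightIso β₁ (AlgSt.toOverCat V)).symm⟩⟩

end Groth.Agent.H65.OverYoneda
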