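import Groth.Agent.H65.LocQBase

/-!
# Lifting points and objects along flat coverings of algebraic stacks (helper65)
-/

set_option autoImplicit false
open CategoryTheory CategoryTheory.Limits AlgebraicGeometry Opposite
universe u

namespace Groth.Agent.H65.LocQLift

open FibCat Stk Groth.Agent.H32.FibProd Groth.Agent.H32.Fp2 Groth.Agent.H32.Fp3
  Groth.Agent.H32.Fp4 Groth.Agent.H32.SpBridge Groth.Agent.H32.PFacts
  Groth.Agent.H32.AlgStackEquiv Groth.Agent.H32.AtlasRep Groth.Agent.H32.SpComp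
  Groth.Agent.H32.StackOps Groth.Agent.H32.SectSt Groth.Agent.H32.Repr Groth.Agent.H32.SpTrack
  Groth.Agent.H32.PshFp Groth.Agent.H32.Sect Groth.Agent.H32.DiagDescent Groth.Agent.H32.Cover
  Groth.Agent.H32.DiagRep Groth.Agent.H32.GoodMore Groth.Agent.H32.DiagApps
  Groth.Agent.H65.QC Groth.Agent.H65.SpMaps Groth.Agent.H65.LocQ Groth.Agent.H65.DiagLfp
  Groth.Agent.H65.LocQDesc Groth.Agent.H65.LocQPts Groth.Agent.H65.LocQRep
  Groth.Agent.H65.LocQCover Groth.Agent.H65.LocQIso Groth.Agent.H65.LocQBase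

variable {S : Scheme.{u}} {𝒳 𝒴 𝒵 : AlgSt.Cat S}

/-- the point of `(Sch/U)` of the image of a point under a morphism of schemes. -/
theorem ofChart_overMap_self {W U : Over S} (g : W ⟶ U) (t : ↥W.left) :
    AlgSt.Points.ofChart (AlgSt.overMap g) t = Groth.Agent.H32.StPoints.ptOf U (g.left t) := by
  have h := Groth.Agent.H32.StTop.ofChart_overMap g (BasedFunctor.id (FibCat.overCat U)) t
  rw [Groth.Agent.H32.StPoints.ofChart_eq (BasedFunctor.id (FibCat.overCat U)),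
    Groth.Agent.H32.StPoints.map_id] at h
  exact h

/-- a point of a scheme whose image in `𝒳` lies in the image of `f` lifts to every surjective
chart of the fibre product. -/
theorem exists_chart_point_lift {𝒳' : AlgSt.Cat S}
    (h𝒳' : AlgSt.IsAlgStack Scheme.fppfPrecoverage 𝒳')
    (h𝒳 : AlgSt.IsAlgStack Scheme.fppfPrecoverage 𝒳) (f : 𝒳' ⥤ᵇ 𝒳) {U W : Over S}
    (x : FibCat.overCat U ⥤ᵇ 𝒳) (a : FibCat.overCat W ⥤ᵇ fp x f)
    (ha : AlgSt.RepByAlgSpWith AlgSp.IsSurjectiveMor a) (g : W ⟶ U)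
    (β : BasedFunctor.comp a (fpFst x f) ≅ AlgSt.overMap g) (u : ↥U.left)
    (hu : AlgSt.Points.ofChart x u ∈ Set.range (AlgSt.Points.map f)) :
    ∃ t : ↥W.left, g.left t = u := by
  obtain ⟨q, hq⟩ := hu
  have hfp : AlgSt.IsAlgStack Scheme.fppfPrecoverage (fp x f) :=
    Groth.Agent.H32.AlgStackFp.isAlgStack_fp h𝒳.isStack.1 h𝒳.diag (isAlgStack_overCat U) h𝒳' x f
  obtain ⟨w, hw1, -⟩ := Groth.Agent.S12818.result h𝒳' h𝒳 (isAlgStack_overCat U) f x
    (Groth.Agent.H32.StPoints.ptOf U u) q hq.symm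
  obtain ⟨t, ht⟩ := Groth.Agent.H32.StTop.ofChart_surjective hfp a ha w
  refine ⟨t, (Groth.Agent.H32.StPoints.ptOf_bijective U).1 ?_⟩
  rw [← ofChart_overMap_self, ← Groth.Agent.H32.StTop.ofChart_congr β t,
    Groth.Agent.H32.StTop.ofChart_comp, ht, hw1]

/-- a flat, locally finitely presented morphism of algebraic stacks: every object of the target
over a scheme `U` lifts along a flat, locally finitely presented morphism `W ⟶ U` whose image
contains every point of `U` mapping into the image of `f`. -/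
theorem exists_flat_lfp_chart_lift {𝒳' : AlgSt.Cat S}
    (h𝒳' : AlgSt.IsAlgStack Scheme.fppfPrecoverage 𝒳')
    (h𝒳 : AlgSt.IsAlgStack Scheme.fppfPrecoverage 𝒳) (f : 𝒳' ⥤ᵇ 𝒳)
    (hf₁ : AlgSt.LocQ (AlgSp.LocP @Flat) f)
    (hf₂ : AlgSt.LocQ (AlgSp.LocP @LocallyOfFinitePresentation) f) {U : Over S}
    (x : FibCat.overCat U ⥤ᵇ 𝒳) :
    ∃ (W : Over S) (g : W ⟶ U) (x' : FibCat.overCat W ⥤ᵇ 𝒳'), Flat g.left ∧
      LocallyOfFinitePresentation g.left ∧
      Nonempty (BasedFunctor.comp x' f ≅ BasedFunctor.comp (AlgSt.overMap g) x) ∧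
      ∀ u : ↥U.left, AlgSt.Points.ofChart x u ∈ Set.range (AlgSt.Points.map f) →
        ∃ t : ↥W.left, g.left t = u := by
  have iX := h𝒳.isStack.1
  have iX' := h𝒳'.isStack.1
  have iU := Groth.Agent.S6411.over_isFibGrpd U
  have hfp : AlgSt.IsAlgStack Scheme.fppfPrecoverage (fp x f) :=
    Groth.Agent.H32.AlgStackFp.isAlgStack_fp iX h𝒳.diag (isAlgStack_overCat U) h𝒳' x f
  obtain ⟨W, a, ha1, ha2⟩ := hfp.atlas
  have iW := Groth.Agent.S6411.over_isFibGrpd W
  obtain ⟨g, ⟨β⟩⟩ := Groth.Agent.H65.OverYoneda.exists_overMap_iso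
    (BasedFunctor.comp a (fpFst x f))
  have b1 : AlgSt.LocQ (AlgSp.LocP @Flat) (fpFst x f) :=
    Groth.Agent.S13039.result S _ Groth.Agent.H65.SmoothST.isSmoothLocalST_flat good_flat.bc
      𝒳' 𝒳 (FibCat.overCat U) h𝒳' h𝒳 (isAlgStack_overCat U) f x hf₁
  have b2 : AlgSt.LocQ (AlgSp.LocP @LocallyOfFinitePresentation) (fpFst x f) :=
    Groth.Agent.S13039.result S _ Groth.Agent.H65.SmoothST.isSmoothLocalST_lfp good_lfp.bc
      𝒳' 𝒳 (FibCat.overCat U) h𝒳' h𝒳 (isAlgStack_overCat U) f x hf₂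
  have c1 : AlgSt.RepByAlgSpWith (AlgSp.LocP @Flat) (AlgSt.overMap g) :=
    with_of_iso _ iW iU β.symm
      (with_chart_comp Groth.Agent.H65.SmoothST.isSmoothLocalST_flat good_flat flat_of_smooth
        hfp (isAlgStack_overCat U) (fpFst x f) b1 a ha1)
  have c2 : AlgSt.RepByAlgSpWith (AlgSp.LocP @LocallyOfFinitePresentation) (AlgSt.overMap g) :=
    with_of_iso _ iW iU β.symm
      (with_chart_comp Groth.Agent.H65.SmoothST.isSmoothLocalST_lfp good_lfp lfp_of_smooth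
        hfp (isAlgStack_overCat U) (fpFst x f) b2 a ha1)
  refine ⟨W, g, BasedFunctor.comp a (fpSnd x f),
    AlgSp.locP_yon_map (prop_of_with_overMap _ good_flat.loc g c1),
    AlgSp.locP_yon_map (prop_of_with_overMap _ good_lfp.loc g c2),
    ⟨(whiskerLeftIso a (fpIso x f)).symm ≪≫ whiskerRightIso β x⟩,
    fun u hu => exists_chart_point_lift h𝒳' h𝒳 f x a ha2 g β u hu⟩

end Groth.Agent.H65.LocQLift
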