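import Mathlib

/-!
# Jacobi's formula for `det (1 - X • A)` and `det (1 - tA) = exp (-∑ tr(A^m) t^m / m)`
-/

set_option autoImplicit false

namespace Groth.Agent.H65

open Polynomial Matrix

section jacobi
variable {R : Type*} [CommRing R] {n : Type*} [Fintype n] [DecidableEq n]

/-- derivative of the determinant of a polynomial matrix: sum over columns -/
theorem derivative_det (A : Matrix n n R[X]) :
    derivative A.det = ∑ i, (A.updateCol i (fun k => derivative (A k i))).det := by
  have hR : ∀ (i : n) (σ : Equiv.Perm n),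
      ∏ j, (A.updateCol i (fun k => derivative (A k i))) (σ j) j =
        (∏ j ∈ Finset.univ.erase i, A (σ j) j) * derivative (A (σ i) i) := by
    intro i σ
    rw [← Finset.prod_erase_mul _ _ (Finset.mem_univ i), Matrix.updateCol_self]
    congr 1
    refine Finset.prod_congr rfl fun j hj => ?_
    rw [Matrix.updateCol_ne (Finset.ne_of_mem_erase hj)]
  simp only [Matrix.det_apply', map_sum, hR]
  rw [Finset.sum_comm]
  refine Finset.sum_congr rfl fun σ _ => ?_
  rw [derivative_mul, derivative_intCast, zero_mul, zero_add, derivative_prod_finset,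
    Finset.mul_sum]

theorem derivative_charpolyRev (A : Matrix n n R) :
    derivative A.charpolyRev =
      -Matrix.trace ((1 - (X : R[X]) • A.map C).adjugate * A.map C) := by
  rw [Matrix.charpolyRev, derivative_det]
  have hd : ∀ i k, derivative ((1 - (X : R[X]) • A.map C) k i) = -C (A k i) := by
    intro i k
    rw [Matrix.sub_apply, Matrix.smul_apply, Matrix.map_apply, smul_eq_mul, derivative_sub,
      derivative_mul, derivative_X, derivative_C, one_mul, mul_zero, add_zero]
    by_cases h : k = i
    · subst h; rw [Matrix.one_apply_eq, derivative_one, zero_sub]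
    · rw [Matrix.one_apply_ne h, derivative_zero, zero_sub]
  simp only [hd]
  rw [Matrix.trace, ← Finset.sum_neg_distrib]
  refine Finset.sum_congr rfl fun i _ => ?_
  rw [← Matrix.cramer_apply, Matrix.cramer_eq_adjugate_mulVec, Matrix.diag_apply,
    Matrix.mul_apply]
  simp only [Matrix.mulVec, dotProduct, Matrix.map_apply, mul_neg, Finset.sum_neg_distrib]

end jacobi

section geom
variable {R : Type*} [CommRing R] {n : Type*} [Fintype n] [DecidableEq n]

/-- geometric series matrix `∑ X^m A^m` -/
noncomputable def geomMat (A : Matrix n n R) : Matrix n n (PowerSeries R) :=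
  Matrix.of fun i j => PowerSeries.mk fun m => (A ^ m) i j

theorem geomMat_apply (A : Matrix n n R) (i j : n) :
    geomMat A i j = PowerSeries.mk fun m => (A ^ m) i j := rfl

theorem one_sub_mul_geomMat (A : Matrix n n R) :
    (1 - (PowerSeries.X : PowerSeries R) • A.map (PowerSeries.C : R →+* PowerSeries R)) *
      geomMat A = 1 := by
  rw [sub_mul, one_mul, Matrix.smul_mul]
  apply Matrix.ext
  intro i j
  apply PowerSeries.ext
  intro m
  rw [Matrix.sub_apply, Matrix.smul_apply, smul_eq_mul, map_sub, geomMat_apply,
    PowerSeries.coeff_mk]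
  cases m with
  | zero =>
    rw [PowerSeries.coeff_zero_X_mul, sub_zero, pow_zero]
    by_cases h : i = j
    · subst h; simp
    · simp [Matrix.one_apply_ne h]
  | succ m =>
    rw [PowerSeries.coeff_succ_X_mul, Matrix.mul_apply, map_sum]
    have h1 : ∀ k, PowerSeries.coeff m ((A.map (PowerSeries.C : R →+* PowerSeries R)) i k *
        geomMat A k j) = A i k * (A ^ m) k j := by
      intro k
      rw [Matrix.map_apply, PowerSeries.coeff_C_mul, geomMat_apply, PowerSeries.coeff_mk]
    simp only [h1]
    rw [pow_succ', Matrix.mul_apply, sub_self]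
    by_cases h : i = j
    · subst h; simp [PowerSeries.coeff_one]
    · simp [Matrix.one_apply_ne h]

theorem adjugate_eq_det_smul_geomMat (A : Matrix n n R) :
    (1 - (PowerSeries.X : PowerSeries R) •
        A.map (PowerSeries.C : R →+* PowerSeries R)).adjugate =
      (1 - (PowerSeries.X : PowerSeries R) •
        A.map (PowerSeries.C : R →+* PowerSeries R)).det • geomMat A := by
  have h := one_sub_mul_geomMat A
  calc (1 - (PowerSeries.X : PowerSeries R) •
        A.map (PowerSeries.C : R →+* PowerSeries R)).adjugate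
      = (1 - (PowerSeries.X : PowerSeries R) •
          A.map (PowerSeries.C : R →+* PowerSeries R)).adjugate *
        ((1 - (PowerSeries.X : PowerSeries R) •
          A.map (PowerSeries.C : R →+* PowerSeries R)) * geomMat A) := by rw [h, mul_one]
    _ = ((1 - (PowerSeries.X : PowerSeries R) •
          A.map (PowerSeries.C : R →+* PowerSeries R)).adjugate *
        (1 - (PowerSeries.X : PowerSeries R) •
          A.map (PowerSeries.C : R →+* PowerSeries R))) * geomMat A := (mul_assoc _ _ _).symm
    _ = _ := by rw [Matrix.adjugate_mul, Matrix.smul_mul, one_mul]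

theorem trace_geomMat_mul (A : Matrix n n R) :
    Matrix.trace (geomMat A * A.map (PowerSeries.C : R →+* PowerSeries R)) =
      PowerSeries.mk fun m => Matrix.trace (A ^ (m + 1)) := by
  apply PowerSeries.ext
  intro m
  rw [PowerSeries.coeff_mk, Matrix.trace, map_sum, Matrix.trace]
  refine Finset.sum_congr rfl fun i _ => ?_
  rw [Matrix.diag_apply, Matrix.diag_apply, Matrix.mul_apply, map_sum, pow_succ,
    Matrix.mul_apply]
  refine Finset.sum_congr rfl fun k _ => ?_
  rw [Matrix.map_apply, mul_comm, PowerSeries.coeff_C_mul, geomMat_apply, PowerSeries.coeff_mk,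
    mul_comm]

/-- The logarithmic derivative of `det (1 - X A)`: `P' = - P * ∑ tr(A^(m+1)) X^m`. -/
theorem coe_derivative_charpolyRev (A : Matrix n n R) :
    ((derivative A.charpolyRev : R[X]) : PowerSeries R) =
      -((A.charpolyRev : R[X]) : PowerSeries R) *
        PowerSeries.mk fun m => Matrix.trace (A ^ (m + 1)) := by
  have hmap : (Polynomial.coeToPowerSeries.ringHom : R[X] →+* PowerSeries R).mapMatrix
      (1 - (X : R[X]) • A.map C) =
      1 - (PowerSeries.X : PowerSeries R) • A.map (PowerSeries.C : R →+* PowerSeries R) := by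
    apply Matrix.ext
    intro i j
    rw [RingHom.mapMatrix_apply, Matrix.map_apply, Matrix.sub_apply, Matrix.sub_apply,
      Matrix.smul_apply, Matrix.smul_apply, Matrix.map_apply, Matrix.map_apply, map_sub,
      smul_eq_mul, smul_eq_mul, map_mul]
    congr 1
    · by_cases h : i = j
      · subst h; simp
      · simp [Matrix.one_apply_ne h]
    · simp
  have hmapA : (Polynomial.coeToPowerSeries.ringHom : R[X] →+* PowerSeries R).mapMatrix
      (A.map C) = A.map (PowerSeries.C : R →+* PowerSeries R) := by
    apply Matrix.ext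
    intro i j
    simp
  have h1 : ((derivative A.charpolyRev : R[X]) : PowerSeries R) =
      (Polynomial.coeToPowerSeries.ringHom : R[X] →+* PowerSeries R)
        (derivative A.charpolyRev) := rfl
  have h2 : ((A.charpolyRev : R[X]) : PowerSeries R) =
      (Polynomial.coeToPowerSeries.ringHom : R[X] →+* PowerSeries R) A.charpolyRev := rfl
  rw [h1, h2, derivative_charpolyRev, map_neg, Matrix.trace, map_sum]
  have h3 : ∀ i, (Polynomial.coeToPowerSeries.ringHom : R[X] →+* PowerSeries R)
      (((1 - (X : R[X]) • A.map C).adjugate * A.map C).diag i) =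
      (((1 - (PowerSeries.X : PowerSeries R) •
        A.map (PowerSeries.C : R →+* PowerSeries R)).adjugate *
        A.map (PowerSeries.C : R →+* PowerSeries R))).diag i := by
    intro i
    rw [Matrix.diag_apply, Matrix.diag_apply, ← hmap, ← hmapA, ← RingHom.map_adjugate,
      ← map_mul, RingHom.mapMatrix_apply, Matrix.map_apply]
  simp only [h3]
  rw [← Matrix.trace, adjugate_eq_det_smul_geomMat, Matrix.smul_mul, Matrix.trace_smul,
    trace_geomMat_mul, ← hmap, ← RingHom.map_det, Matrix.charpolyRev, smul_eq_mul, neg_mul]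

end geom

section ode
variable {K : Type*} [Field K] [CharZero K]

open PowerSeries

theorem ode_unique' {y₁ y₂ w : PowerSeries K} (h₁ : d⁄dX K y₁ = y₁ * w)
    (h₂ : d⁄dX K y₂ = y₂ * w) (c₁ : constantCoeff y₁ = 1) (c₂ : constantCoeff y₂ = 1) :
    y₁ = y₂ := by
  have hinv : y₂ * y₂⁻¹ = 1 := PowerSeries.mul_inv_cancel y₂ (by rw [c₂]; exact one_ne_zero)
  have hV : y₁ * y₂⁻¹ = 1 := by
    apply derivative.ext
    · rw [Derivation.leibniz, PowerSeries.derivative_inv', h₁, h₂, PowerSeries.derivative_one]
      simp only [smul_eq_mul]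
      linear_combination (-(y₁ * w * y₂⁻¹)) * hinv
    · rw [map_mul, constantCoeff_inv, c₁, c₂, map_one, inv_one, mul_one]
  calc y₁ = y₁ * (y₂ * y₂⁻¹) := by rw [hinv, mul_one]
    _ = (y₁ * y₂⁻¹) * y₂ := by ring
    _ = y₂ := by rw [hV, one_mul]

theorem constantCoeff_exp_subst {u : PowerSeries K} (hu : constantCoeff u = 0) :
    constantCoeff (PowerSeries.subst u (PowerSeries.exp K)) = 1 := by
  have hs : HasSubst u := HasSubst.of_constantCoeff_zero' hu
  have h1 : PowerSeries.subst u (PowerSeries.exp K) =
      PowerSeries.subst u (PowerSeries.exp K - 1) + 1 := by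
    have : PowerSeries.subst u (1 : PowerSeries K) = 1 := by
      rw [← coe_substAlgHom hs, map_one]
    rw [subst_sub hs, this, sub_add_cancel]
  have h2 : constantCoeff (PowerSeries.subst u (PowerSeries.exp K - 1) : PowerSeries K) = 0 :=
    constantCoeff_subst_eq_zero hu _ (by simp)
  rw [h1, map_add, h2, map_one, zero_add]

/-- `det (1 - tM) = exp (-∑ tr(M^m) t^m / m)` -/
theorem coe_charpolyRev_eq_exp {n : Type*} [Fintype n] [DecidableEq n] (M : Matrix n n K) :
    ((M.charpolyRev : Polynomial K) : PowerSeries K) =
      PowerSeries.subst (PowerSeries.mk fun m : ℕ => -(Matrix.trace (M ^ m)) / (m : K))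
        (PowerSeries.exp K) := by
  have hu : constantCoeff (PowerSeries.mk fun m : ℕ => -(Matrix.trace (M ^ m)) / (m : K)) = 0 := by
    rw [← PowerSeries.coeff_zero_eq_constantCoeff_apply, PowerSeries.coeff_mk]
    simp
  have hs : HasSubst (PowerSeries.mk fun m : ℕ => -(Matrix.trace (M ^ m)) / (m : K)) :=
    HasSubst.of_constantCoeff_zero' hu
  have hd : d⁄dX K (PowerSeries.mk fun m : ℕ => -(Matrix.trace (M ^ m)) / (m : K)) =
      -(PowerSeries.mk fun m => Matrix.trace (M ^ (m + 1))) := by
    apply PowerSeries.ext
    intro m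
    rw [PowerSeries.coeff_derivative, PowerSeries.coeff_mk, map_neg, PowerSeries.coeff_mk]
    have hm : ((m + 1 : ℕ) : K) ≠ 0 := Nat.cast_ne_zero.mpr (Nat.succ_ne_zero m)
    push_cast at hm ⊢
    field_simp
  apply ode_unique' (w := -(PowerSeries.mk fun m => Matrix.trace (M ^ (m + 1))))
  · rw [PowerSeries.derivative_coe, coe_derivative_charpolyRev]; ring
  · rw [PowerSeries.derivative_subst hs, PowerSeries.derivative_exp, hd]
  · rw [← PowerSeries.coeff_zero_eq_constantCoeff_apply, Polynomial.coeff_coe,
      Polynomial.coeff_zero_eq_eval_zero, Matrix.eval_charpolyRev]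
  · exact constantCoeff_exp_subst hu

end ode

end Groth.Agent.H65
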