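import Groth.Agent.S7490
import Groth.Agent.H51.QuotGen
import Groth.Agent.H50.Fppf

/-!
# An fppf surjection with kernel pair `(t, s)` is the fppf quotient (helper65, for helper37's S10140)
-/

set_option autoImplicit false
universe u
open CategoryTheory CategoryTheory.Limits AlgebraicGeometry

namespace Groth.Agent.H65.IQfppf

theorem isQuotient_of_fppf_kernelPair {S : Scheme.{u}} {R U M : Over S} (s t : R ⟶ U) (q : U ⟶ M)
    [Flat q.left] [LocallyOfFinitePresentation q.left] [Surjective q.left]
    (hpb : IsPullback t.left s.left q.left q.left) :
    QuotSh.IsQuotient Scheme.fppfPrecoverage s t q := by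
  have w' : t.left ≫ q.left = s.left ≫ q.left := hpb.w
  have w : s ≫ q = t ≫ q := by
    ext
    exact w'.symm
  have hflat : Flat q.left := inferInstance
  have hlfp : LocallyOfFinitePresentation q.left := inferInstance
  have hsurj : Surjective q.left := inferInstance
  refine Groth.Agent.S7490.result Scheme.fppfPrecoverage _ _ _ w w' ?_ ?_
  · apply Groth.Agent.H51.QuotGen.epi_repMap_of_local_lift
    intro T a
    have sqO := IsPullback.of_hasPullback q a
    have sqS := sqO.map (Over.forget S)
    have h1 : Flat (pullback.snd q a).left :=
      MorphismProperty.of_isPullback (P := @Flat) sqS hflat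
    have h2 : LocallyOfFinitePresentation (pullback.snd q a).left :=
      MorphismProperty.of_isPullback (P := @LocallyOfFinitePresentation) sqS hlfp
    have h3 : Surjective (pullback.snd q a).left :=
      MorphismProperty.of_isPullback (P := @Surjective) sqS hsurj
    refine ⟨Sieve.generate (Presieve.singleton (pullback.snd q a)),
      Groth.Agent.H50.mem_J_of_fppf_family (fun _ : Unit => pullback _ a)
        (fun _ => pullback.snd _ a) (fun τ => ?_) (fun _ => h1) (fun _ => h2) _
        (fun _ => Sieve.le_generate _ _ _ (Presieve.singleton.mk)), ?_⟩
    · obtain ⟨y, hy⟩ := h3.surj τ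
      exact ⟨(), y, hy⟩
    · rintro T' f ⟨Z, h, g, ⟨⟩, rfl⟩
      refine ⟨h ≫ pullback.fst _ a, ?_⟩
      rw [Category.assoc, Category.assoc, sqO.w]
  · have hθ : IsIso (pullback.lift t.left s.left w') := by
      have : pullback.lift t.left s.left w' = hpb.isoPullback.hom := by
        apply pullback.hom_ext
        · rw [pullback.lift_fst, hpb.isoPullback_hom_fst]
        · rw [pullback.lift_snd, hpb.isoPullback_hom_snd]
      rw [this]
      infer_instance
    have key : ∀ (pf : pullback.lift t.left s.left w' ≫
        (Over.mk (pullback.fst q.left q.left ≫ U.hom)).hom = R.hom),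
        Epi (QuotSh.repMap Scheme.fppfPrecoverage
          (Over.homMk (pullback.lift t.left s.left w') pf :
            R ⟶ Over.mk (pullback.fst q.left q.left ≫ U.hom))) := by
      intro pf
      haveI : IsIso ((Over.forget S).map
          (Over.homMk (pullback.lift t.left s.left w') pf :
            R ⟶ Over.mk (pullback.fst q.left q.left ≫ U.hom))) := hθ
      haveI : IsIso (Over.homMk (pullback.lift t.left s.left w') pf :
            R ⟶ Over.mk (pullback.fst q.left q.left ≫ U.hom)) :=
        isIso_of_reflects_iso _ (Over.forget S)
      infer_instance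
    exact key _

end Groth.Agent.H65.IQfppf
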