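import Groth.Agent.H18.FinPts
import Mathlib.AlgebraicGeometry.ZariskisMainTheorem

/-!
# Finite subsets of a scheme separated and locally quasi-finite over an affine scheme lie in an
affine open (helper65, for helper37's S10140)
-/

set_option autoImplicit false
universe u

open CategoryTheory CategoryTheory.Limits AlgebraicGeometry

namespace Groth.Agent.H65.ZAaffine

theorem exists_affine_of_finite_of_lqf {X A : Scheme.{u}} (f : X ⟶ A) [IsAffine A] [IsSeparated f]
    [LocallyQuasiFinite f] [LocallyOfFiniteType f] (F : Set X) (hF : F.Finite) :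
    ∃ W : X.Opens, IsAffineOpen W ∧ F ⊆ (W : Set X) := by
  classical
  -- affine opens around the points
  have hex : ∀ x : X, ∃ W : X.Opens, IsAffineOpen W ∧ x ∈ W := fun x => by
    obtain ⟨_, ⟨W, hW, rfl⟩, hx, -⟩ :=
      X.isBasis_affineOpens.exists_subset_of_mem_open (Set.mem_univ x) isOpen_univ
    exact ⟨W, hW, hx⟩
  choose Wx hWx hxWx using hex
  let X₀ : X.Opens := ⨆ x ∈ hF.toFinset, Wx x
  have hFX₀ : ∀ x ∈ F, x ∈ X₀ := fun x hx =>
    TopologicalSpace.Opens.mem_iSup.mpr ⟨x, TopologicalSpace.Opens.mem_iSup.mpr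
      ⟨(Set.Finite.mem_toFinset hF).mpr hx, hxWx x⟩⟩
  haveI : CompactSpace (X₀ : Scheme.{u}) := by
    refine (isCompact_iff_compactSpace (s := (X₀ : Set X))).mp ?_
    have : (X₀ : Set X) = ⋃ x ∈ hF.toFinset, (Wx x : Set X) := by
      ext y
      simp [X₀]
    rw [this]
    exact hF.toFinset.isCompact_biUnion (fun x _ => (hWx x).isCompact)
  let f₀ : (X₀ : Scheme.{u}) ⟶ A := X₀.ι ≫ f
  haveI : QuasiCompact f₀ := inferInstance
  haveI : IsAffine f₀.normalization := isAffine_of_isAffineHom f₀.fromNormalization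
  haveI : (X₀ : Scheme.{u}).IsQuasiAffine := Scheme.IsQuasiAffine.of_isImmersion f₀.toNormalization
  obtain ⟨g, haff, hEg, -⟩ := Groth.Agent.H18.FinPts.exists_basicOpen_of_finite
    (X := (X₀ : Scheme.{u})) ⊤ (X₀.ι ⁻¹' F)
    (hF.preimage (Set.injOn_of_injective X₀.ι.isOpenEmbedding.injective)) (fun _ _ => trivial)
  refine ⟨X₀.ι ''ᵁ ((X₀ : Scheme.{u}).basicOpen g), haff.image_of_isOpenImmersion _, ?_⟩
  intro x hx
  exact ⟨⟨x, hFX₀ x hx⟩, hEg (show X₀.ι ⟨x, hFX₀ x hx⟩ ∈ F from hx), rfl⟩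

end Groth.Agent.H65.ZAaffine
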