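import Mathlib

/-!
# (AS) for (P4) `exists_etale_split`: transport along `(X ×[Z] Y) ×[Y] W ≅ X ×[Z] W`
-/

set_option autoImplicit false
universe u
open CategoryTheory CategoryTheory.Limits AlgebraicGeometry

namespace Groth.Agent.H65.SL_P4

/-- (AS) -/
theorem assemble {U0 T T₁ Y1 : Scheme.{u}} (g : U0 ⟶ T) (e₁ : T₁ ⟶ T) (e₂ : Y1 ⟶ T₁)
    (u₁ : ↥(pullback g e₁))
    (hrad : ∀ (K : Type u) [Field K] (α β : Spec (CommRingCat.of K) ⟶ pullback g e₁),
      α ≫ pullback.snd g e₁ = β ≫ pullback.snd g e₁ → (∀ z, α z = u₁) → (∀ z, β z = u₁) → α = β)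
    (VV : (pullback (pullback.snd g e₁) e₂).Opens) (v : ↥(pullback (pullback.snd g e₁) e₂))
    (hv : v ∈ VV) (hfin : IsFinite (VV.ι ≫ pullback.snd (pullback.snd g e₁) e₂))
    (hfst : pullback.fst (pullback.snd g e₁) e₂ v = u₁)
    (huniq : ∀ v' ∈ VV, pullback.snd (pullback.snd g e₁) e₂ v' =
      pullback.snd (pullback.snd g e₁) e₂ v → v' = v) :
    ∃ (VV' : (pullback g (e₂ ≫ e₁)).Opens) (v' : ↥(pullback g (e₂ ≫ e₁))),
      v' ∈ VV' ∧ IsFinite (VV'.ι ≫ pullback.snd g (e₂ ≫ e₁)) ∧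
      pullback.fst g (e₂ ≫ e₁) v' = pullback.fst g e₁ u₁ ∧
      (∀ v'' ∈ VV', pullback.snd g (e₂ ≫ e₁) v'' = pullback.snd g (e₂ ≫ e₁) v' → v'' = v') ∧
      (∀ (K : Type u) [Field K] (α β : Spec (CommRingCat.of K) ⟶ pullback g (e₂ ≫ e₁)),
        α ≫ pullback.snd g (e₂ ≫ e₁) = β ≫ pullback.snd g (e₂ ≫ e₁) →
        (∀ z, α z = v') → (∀ z, β z = v') → α = β) := by
  let i := pullbackLeftPullbackSndIso g e₁ e₂
  have hinvhom : ∀ w, i.inv (i.hom w) = w := fun w => by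
    rw [← Scheme.Hom.comp_apply, Iso.hom_inv_id]; rfl
  have hhominv : ∀ w, i.hom (i.inv w) = w := fun w => by
    rw [← Scheme.Hom.comp_apply, Iso.inv_hom_id]; rfl
  have hsnd : i.inv ≫ pullback.snd (pullback.snd g e₁) e₂ = pullback.snd g (e₂ ≫ e₁) :=
    pullbackLeftPullbackSndIso_inv_snd_snd g e₁ e₂
  have hsnd' : i.hom ≫ pullback.snd g (e₂ ≫ e₁) = pullback.snd (pullback.snd g e₁) e₂ :=
    pullbackLeftPullbackSndIso_hom_snd g e₁ e₂
  have hfst' : i.hom ≫ pullback.fst g (e₂ ≫ e₁) =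
      pullback.fst (pullback.snd g e₁) e₂ ≫ pullback.fst g e₁ :=
    pullbackLeftPullbackSndIso_hom_fst g e₁ e₂
  refine ⟨i.inv ⁻¹ᵁ VV, i.hom v, ?_, ?_, ?_, ?_, ?_⟩
  · change i.inv (i.hom v) ∈ VV
    rw [hinvhom]; exact hv
  · rw [← hsnd, ← Category.assoc, ← morphismRestrict_ι, Category.assoc]
    haveI := hfin
    infer_instance
  · rw [← Scheme.Hom.comp_apply, hfst', Scheme.Hom.comp_apply, hfst]
  · intro v'' hv'' h
    have hw : i.inv v'' ∈ VV := hv''
    have h1 : pullback.snd (pullback.snd g e₁) e₂ (i.inv v'') =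
        pullback.snd (pullback.snd g e₁) e₂ v := by
      rw [← Scheme.Hom.comp_apply, hsnd, h, ← Scheme.Hom.comp_apply, hsnd']
    have h2 := huniq _ hw h1
    rw [← hhominv v'', h2]
  · intro K _ α β hαβ hα hβ
    have key : α ≫ i.inv = β ≫ i.inv := by
      apply pullback.hom_ext
      · apply hrad
        · simp only [Category.assoc, pullback.condition]
          rw [reassoc_of% hsnd, reassoc_of% hαβ]
        · intro z
          rw [Scheme.Hom.comp_apply, Scheme.Hom.comp_apply, hα, hinvhom, hfst]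
        · intro z
          rw [Scheme.Hom.comp_apply, Scheme.Hom.comp_apply, hβ, hinvhom, hfst]
      · rw [Category.assoc, Category.assoc, hsnd, hαβ]
    have := congrArg (· ≫ i.hom) key
    simpa using this

end Groth.Agent.H65.SL_P4
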