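import Mathlib
import Groth.Agent.H3.EtSplit7
import Groth.Agent.H31.SL_P4_RL

/-!
# Stage 1 for (P4) `exists_etale_split` (helper52's S10259 squad)
-/

set_option autoImplicit false
universe u
open CategoryTheory CategoryTheory.Limits AlgebraicGeometry TensorProduct

namespace Groth.Agent.H65.SL_P4

/-- finiteness of the residue field extension at a quasi-finite prime, for the algebra structure
given by `Ideal.ResidueField.map`. -/
theorem finite_residueField_map {A B : Type u} [CommRing A] [CommRing B] [Algebra A B]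
    (p : Ideal A) [p.IsPrime] (q : Ideal B) [q.IsPrime] (hpq : p = q.comap (algebraMap A B))
    [Algebra.QuasiFiniteAt A q] :
    (Ideal.ResidueField.map p q (algebraMap A B) hpq).Finite := by
  haveI : q.LiesOver p := ⟨hpq⟩
  letI := Localization.AtPrime.algebraOfLiesOver p q
  have h1 : Module.Finite p.ResidueField q.ResidueField := inferInstance
  have h2 : (algebraMap p.ResidueField q.ResidueField).Finite := RingHom.finite_algebraMap.mpr h1
  convert h2 using 1
  apply Ideal.ResidueField.ringHom_ext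
  ext a
  simp only [RingHom.comp_apply, Ideal.ResidueField.map_algebraMap]
  rw [← IsScalarTower.algebraMap_apply A p.ResidueField q.ResidueField,
    ← IsScalarTower.algebraMap_apply A B q.ResidueField]

/-- quasi-finiteness at a point of `Spec.map φ` from the ring-level statement. -/
theorem quasiFiniteAt_SpecMap {R S : CommRingCat.{u}} (φ : R ⟶ S) (x : PrimeSpectrum S)
    (h : φ.hom.QuasiFiniteAt x.asIdeal) : (Spec.map φ).QuasiFiniteAt (x : ↥(Spec S)) := by
  algebraize [φ.hom]
  let := Localization.AtPrime.algebraOfLiesOver (x.asIdeal.under R) x.asIdeal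
  have h' : Algebra.QuasiFiniteAt R x.asIdeal := h
  have : Algebra.QuasiFinite (Localization.AtPrime (x.asIdeal.under R))
      (Localization.AtPrime x.asIdeal) := .of_restrictScalars R _ _
  rw [← RingHom.quasiFinite_algebraMap] at this
  exact (RingHom.QuasiFinite.respectsIso.arrow_mk_iso_iff (Scheme.arrowStalkMapSpecIso ..)).mpr this

/-- algebra version of `quasiFiniteAt_SpecMap`. -/
theorem quasiFiniteAt_SpecMap_algebraMap {R S : Type u} [CommRing R] [CommRing S] [Algebra R S]
    (Q : Ideal S) [hQ : Q.IsPrime] [Algebra.QuasiFiniteAt R Q] :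
    (Spec.map (CommRingCat.ofHom (algebraMap R S))).QuasiFiniteAt
      ((⟨Q, hQ⟩ : PrimeSpectrum S) : ↥(Spec (CommRingCat.of S))) := by
  let := Localization.AtPrime.algebraOfLiesOver (Q.under R) Q
  have : Algebra.QuasiFinite (Localization.AtPrime (Q.under R))
      (Localization.AtPrime Q) := .of_restrictScalars R _ _
  rw [← RingHom.quasiFinite_algebraMap] at this
  exact (RingHom.QuasiFinite.respectsIso.arrow_mk_iso_iff
    (Scheme.arrowStalkMapSpecIso (CommRingCat.ofHom (algebraMap R S)) ⟨Q, hQ⟩)).mpr this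

/-- ring-level Stage 1: an étale `R₁` over `A` and a prime `Q` of `R₁ ⊗[A] B` over `q`,
quasi-finite over `R₁`, at which the fibre is radicial. -/
theorem ring_stage1 {A B : Type u} [CommRing A] [CommRing B] [Algebra A B]
    (p : Ideal A) [p.IsPrime] (q : Ideal B) [q.IsPrime] (hpq : p = q.comap (algebraMap A B))
    [Algebra.QuasiFiniteAt A q] :
    ∃ (R₁ : Type u) (_ : CommRing R₁) (_ : Algebra A R₁) (_ : Algebra.Etale A R₁)
      (Q : Ideal (R₁ ⊗[A] B)) (_ : Q.IsPrime),
      Q.comap (Algebra.TensorProduct.includeRight : B →ₐ[A] R₁ ⊗[A] B).toRingHom = q ∧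
      Algebra.QuasiFiniteAt R₁ Q ∧
      ∀ (K : Type u) [Field K] (φ ψ : R₁ ⊗[A] B →+* K), RingHom.ker φ = Q → RingHom.ker ψ = Q →
        φ.comp (algebraMap R₁ (R₁ ⊗[A] B)) = ψ.comp (algebraMap R₁ (R₁ ⊗[A] B)) → φ = ψ := by
  letI algκ : Algebra p.ResidueField q.ResidueField :=
    (Ideal.ResidueField.map p q (algebraMap A B) hpq).toAlgebra
  have hfin : Module.Finite p.ResidueField q.ResidueField :=
    RingHom.finite_algebraMap.mp (by
      rw [RingHom.algebraMap_toAlgebra]; exact finite_residueField_map p q hpq)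
  let k' := separableClosure p.ResidueField q.ResidueField
  haveI : Algebra.IsAlgebraic p.ResidueField q.ResidueField := Algebra.IsAlgebraic.of_finite _ _
  haveI : IsPurelyInseparable k' q.ResidueField := separableClosure.isPurelyInseparable _ _
  haveI : Algebra.IsSeparable p.ResidueField k' := separableClosure.isSeparable _ _
  haveI : FiniteDimensional p.ResidueField k' := IntermediateField.finiteDimensional_left _
  have htower : (algebraMap k' q.ResidueField).comp (algebraMap p.ResidueField k') =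
      Ideal.ResidueField.map p q (algebraMap A B) hpq := rfl
  obtain ⟨R₁, _, _, _, p₁, _, hp₁, ι, hι⟩ := Groth.Agent.H3.EtSplit.exists_etale_residueField p k'
  obtain ⟨Q, hQ, hQq, hQp, hrad⟩ :=
    Groth.Agent.H31.SL_P4_RL.exists_radicial_prime p q hpq p₁ hp₁ k' htower ι hι
  refine ⟨R₁, inferInstance, inferInstance, inferInstance, Q, hQ, hQq, ?_, hrad⟩
  exact Algebra.QuasiFiniteAt.baseChange q Q hQq.symm

set_option backward.defeqAttrib.useBackward true in
set_option backward.isDefEq.respectTransparency false in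
/-- Stage 1: after an étale base change (with affine source), a point over `x` at which the
base-changed morphism is quasi-finite and radicial. -/
theorem stage1 {X S : Scheme.{u}} (f : X ⟶ S) [LocallyOfFiniteType f] (x : X)
    (hx : f.QuasiFiniteAt x) :
    ∃ (T₁ : Scheme.{u}) (e : T₁ ⟶ S) (u₁ : ↥(pullback f e)), IsAffine T₁ ∧ Etale e ∧
      pullback.fst f e u₁ = x ∧ (pullback.snd f e).QuasiFiniteAt u₁ ∧
      (∀ (K : Type u) [Field K] (α β : Spec (CommRingCat.of K) ⟶ pullback f e),
        α ≫ pullback.snd f e = β ≫ pullback.snd f e → (∀ z, α z = u₁) → (∀ z, β z = u₁) →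
          α = β) := by
  obtain ⟨_, ⟨U, hU, rfl⟩, hxU, -⟩ := S.isBasis_affineOpens.exists_subset_of_mem_open
    (Set.mem_univ (f x)) isOpen_univ
  obtain ⟨_, ⟨V, hV, rfl⟩, hxV, hUV : V ≤ f ⁻¹ᵁ U⟩ :=
    X.isBasis_affineOpens.exists_subset_of_mem_open hxU (f ⁻¹ᵁ U).2
  have : (f.appLE U V hUV).hom.FiniteType := f.finiteType_appLE hU hV hUV
  algebraize [(f.appLE U V hUV).hom]
  have hlo : (hV.primeIdealOf ⟨x, hxV⟩).asIdeal.LiesOver (hU.primeIdealOf ⟨f x, hxU⟩).asIdeal := by
    suffices hU.primeIdealOf ⟨f x, hxU⟩ = Spec.map (f.appLE U V hUV) (hV.primeIdealOf ⟨x, hxV⟩) from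
      ⟨congr(($this).1)⟩
    apply hU.isoSpec.inv.homeomorph.injective
    apply Subtype.ext
    simp only [IsAffineOpen.primeIdealOf, Scheme.Hom.homeomorph_apply,
      ← Scheme.Hom.comp_apply, ← Scheme.Opens.ι_apply, IsAffineOpen.isoSpec_hom]
    simp
  have : Algebra.QuasiFiniteAt Γ(S, U) (hV.primeIdealOf ⟨x, hxV⟩).asIdeal :=
    hx.quasiFiniteAt hV hU hUV hxV
  obtain ⟨R, _, _, _, Q, hQ, hQq, hQqf, hrad⟩ :=
    ring_stage1 (hU.primeIdealOf ⟨f x, hxU⟩).asIdeal (hV.primeIdealOf ⟨x, hxV⟩).asIdeal hlo.over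
  let φ : Γ(S, U) ⟶ .of R := CommRingCat.ofHom <| algebraMap Γ(S, U) R
  have hφ : φ.hom.Etale := RingHom.etale_algebraMap.mpr ‹_›
  have : Etale (Spec.map φ) := HasRingHomProperty.Spec_iff.mpr hφ
  let e₁ : Spec (.of (R ⊗ Γ(X, V))) ≅ pullback (Spec.map (f.appLE U V hUV)) (Spec.map φ) :=
    (pullbackSpecIso _ _ _).symm ≪≫ pullbackSymmetry _ _
  have he₁ : e₁.hom ≫ pullback.fst _ _ =
      Spec.map (CommRingCat.ofHom Algebra.TensorProduct.includeRight.toRingHom) := by
    dsimp [e₁, RingHom.algebraMap_toAlgebra]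
    rw [Category.assoc, pullbackSymmetry_hom_comp_fst]
    exact pullbackSpecIso_inv_snd ..
  have he₂ : e₁.hom ≫ pullback.snd _ _ =
      Spec.map (CommRingCat.ofHom (algebraMap R (R ⊗[Γ(S, U)] Γ(X, V)))) := by
    dsimp [e₁, RingHom.algebraMap_toAlgebra]
    rw [Category.assoc, pullbackSymmetry_hom_comp_snd]
    exact pullbackSpecIso_inv_fst ..
  let g : Spec (.of (R ⊗[Γ(S, U)] Γ(X, V))) ⟶ pullback f (Spec.map φ ≫ hU.fromSpec) :=
    e₁.hom ≫ pullback.map _ _ _ _ hV.fromSpec (𝟙 _) hU.fromSpec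
      (IsAffineOpen.SpecMap_appLE_fromSpec ..) (by simp)
  have hg₂ : g ≫ pullback.snd f (Spec.map φ ≫ hU.fromSpec) =
      Spec.map (CommRingCat.ofHom (algebraMap R (R ⊗[Γ(S, U)] Γ(X, V)))) := by
    simp only [g, Category.assoc, pullback.lift_snd, pullback.map]
    rw [Category.comp_id, he₂]
  have hgQ : pullback.fst f _ (g ⟨Q, hQ⟩) = x := by
    trans hV.fromSpec ⟨Q.comap Algebra.TensorProduct.includeRight.toRingHom, inferInstance⟩
    · simp [← Scheme.Hom.comp_apply, -Scheme.Hom.comp_base, g, reassoc_of% he₁]; rfl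
    convert! hV.fromSpec_primeIdealOf ⟨x, hxV⟩
  refine ⟨Spec (.of R), Spec.map φ ≫ hU.fromSpec, g ⟨Q, hQ⟩, inferInstance, inferInstance, hgQ,
    ?_, ?_⟩
  · rw [← Scheme.Hom.quasiFiniteAt_comp_iff_of_isOpenImmersion (f := g), hg₂]
    exact quasiFiniteAt_SpecMap_algebraMap Q
  · intro K _ α β hαβ hα hβ
    have hrange : ∀ (γ : Spec (CommRingCat.of K) ⟶ pullback f (Spec.map φ ≫ hU.fromSpec)),
        (∀ z, γ z = g ⟨Q, hQ⟩) → ∃ a : R ⊗[Γ(S, U)] Γ(X, V) →+* K, RingHom.ker a = Q ∧
          γ = Spec.map (CommRingCat.ofHom a) ≫ g := by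
      intro γ hγ
      have hsub : Set.range γ ⊆ Set.range g := by
        rintro _ ⟨z, rfl⟩
        exact ⟨_, (hγ z).symm⟩
      let γ' := IsOpenImmersion.lift g γ hsub
      have hγ' : γ' ≫ g = γ := IsOpenImmersion.lift_fac _ _ _
      obtain ⟨a, ha⟩ := Spec.map_surjective γ'
      refine ⟨a.hom, ?_, ?_⟩
      · have hz : ∀ z, γ' z = ⟨Q, hQ⟩ := fun z => g.injective (by
          rw [← Scheme.Hom.comp_apply, hγ']; exact hγ z)
        have h0 := hz ⟨⊥, Ideal.isPrime_bot⟩
        rw [← ha] at h0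
        exact congrArg PrimeSpectrum.asIdeal h0
      · rw [← hγ', ← ha]
        rfl
    obtain ⟨a, hka, rfl⟩ := hrange α hα
    obtain ⟨b, hkb, rfl⟩ := hrange β hβ
    have hab : a.comp (algebraMap R _) = b.comp (algebraMap R _) := by
      have h1 := hαβ
      simp only [Category.assoc, hg₂, ← Spec.map_comp] at h1
      have h2 := Spec.map_injective h1
      exact congrArg CommRingCat.Hom.hom h2
    rw [hrad K a b hka hkb hab]

end Groth.Agent.H65.SL_P4
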