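import Mathlib
import Groth.Agent.H65.SL_P4_S1
import Groth.Agent.H65.SL_P4_AS
import Groth.Agent.H2.SL_P4_SA

/-!
# (P4) `exists_etale_split` for helper52's S10259 squad

Strong étale localisation at a quasi-finite point of a separated morphism locally of finite type:
after an étale base change `e : Y1 ⟶ T` (with `Y1` affine) there is an open `VV` of the base
change, finite over `Y1`, containing a point `v` over `u0` which is the only point of `VV` in its
fibre and at which the base change is radicial.

Stage 1 (`SL_P4_S1.stage1`, using `H3.EtSplit.exists_etale_residueField` and helper31's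
`exists_radicial_prime`) makes the residue field extension purely inseparable; Stage 2 is
helper2's `exists_etale_finite_unique`; `SL_P4_AS.assemble` pastes the two base changes.
-/

set_option autoImplicit false
universe u
open CategoryTheory CategoryTheory.Limits AlgebraicGeometry

namespace Groth.Agent.H65.SL_P4

theorem exists_etale_split {U0 T : Scheme.{u}} [IsAffine T] (g : U0 ⟶ T) [IsSeparated g]
    [LocallyOfFiniteType g] (u0 : ↥U0) (hqf : g.QuasiFiniteAt u0) :
    ∃ (Y1 : Scheme.{u}) (e : Y1 ⟶ T) (VV : (pullback g e).Opens) (v : ↥(pullback g e)),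
      IsAffine Y1 ∧ Etale e ∧ v ∈ VV ∧ IsFinite (VV.ι ≫ pullback.snd g e) ∧
      pullback.fst g e v = u0 ∧
      (∀ v' ∈ VV, pullback.snd g e v' = pullback.snd g e v → v' = v) ∧
      (∀ (K : Type u) [Field K] (α β : Spec (CommRingCat.of K) ⟶ pullback g e),
        α ≫ pullback.snd g e = β ≫ pullback.snd g e → (∀ z, α z = v) → (∀ z, β z = v) →
          α = β) := by
  obtain ⟨T₁, e₁, u₁, _, _, hu₁, hqf₁, hrad⟩ := stage1 g u0 hqf
  obtain ⟨Y1, e₂, VV, v, hY1, he₂, hv, hfin, hfst, huniq⟩ :=
    Groth.Agent.H2.SLP4SA.exists_etale_finite_unique (pullback.snd g e₁) u₁ hqf₁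
  obtain ⟨VV', v', hv', hfin', hfst', huniq', hrad'⟩ :=
    assemble g e₁ e₂ u₁ hrad VV v hv hfin hfst huniq
  exact ⟨Y1, e₂ ≫ e₁, VV', v', hY1, inferInstance, hv', hfin', hfst'.trans hu₁, huniq', hrad'⟩

end Groth.Agent.H65.SL_P4
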