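import Mathlib

set_option autoImplicit false
open Polynomial ComplexConjugate

namespace Groth.Agent.H65.WeilCoef

/-- Functional equation of a monic integer polynomial all of whose complex roots have
absolute value `√q` (adapted from the proof of S17983 by helper94, without the non-real
hypothesis). -/
theorem weil_coef (P : Polynomial ℤ) (hP : P.Monic) (q : ℝ) (hq : 0 < q)
    (hweil : ∀ z ∈ P.aroots ℂ, ‖z‖ = Real.sqrt q) :
    ∀ k ≤ P.natDegree,
      ((P.coeff (P.natDegree - k) : ℤ) : ℂ) * (q : ℂ) ^ (P.natDegree - k) =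
        ((P.coeff 0 : ℤ) : ℂ) * ((P.coeff k : ℤ) : ℂ) := by
  obtain ⟨PC, hPC⟩ : ∃ PC : Polynomial ℂ, PC = P.map (algebraMap ℤ ℂ) := ⟨_, rfl⟩
  have hPCm : PC.Monic := by rw [hPC]; exact hP.map _
  have hdeg : PC.natDegree = P.natDegree := by rw [hPC]; exact hP.natDegree_map _
  have hsplit : PC.Splits := IsAlgClosed.splits PC
  obtain ⟨R, hR⟩ : ∃ R : Multiset ℂ, R = PC.roots := ⟨_, rfl⟩
  have hRa : R = P.aroots ℂ := by rw [hR, hPC, Polynomial.aroots_def]
  have hcard : R.card = P.natDegree := by rw [hR, ← hsplit.natDegree_eq_card_roots, hdeg]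
  have hc : ∀ j, PC.coeff j = ((P.coeff j : ℤ) : ℂ) := fun j => by
    rw [hPC, coeff_map, eq_intCast]
  have heval : ∀ x : ℂ, PC.eval x = (R.map (fun z => x - z)).prod := by
    intro x
    rw [hsplit.eval_eq_prod_roots, hPCm.leadingCoeff, one_mul, hR]
  have hqC : ∀ z ∈ R, z * conj z = (q : ℂ) := by
    intro z hz
    rw [Complex.mul_conj, Complex.normSq_eq_norm_sq, hweil z (hRa ▸ hz), Real.sq_sqrt hq.le]
  have hconjP : PC.map (starRingEnd ℂ) = PC := by
    rw [hPC, Polynomial.map_map]
    congr 1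
    exact RingHom.ext_int _ _
  have hconjR : R.map (starRingEnd ℂ) = R := by
    rw [hR, ← hsplit.roots_map (starRingEnd ℂ), hconjP]
  -- main identity
  have hI : ∀ x : ℂ, x ≠ 0 →
      x ^ P.natDegree * PC.eval ((q : ℂ) / x) = PC.eval 0 * PC.eval x := by
    intro x hx
    have e1 : (R.map (fun z => x - z)).prod = (R.map (fun z => x - conj z)).prod := by
      have : (R.map (starRingEnd ℂ)).map (fun z => x - z) = R.map (fun z => x - conj z) := by
        rw [Multiset.map_map]; rfl
      rw [← this, hconjR]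
    have e2 : x ^ R.card * (R.map (fun z => (q : ℂ) / x - z)).prod =
        (R.map (fun z => x * ((q : ℂ) / x - z))).prod := by
      rw [Multiset.prod_map_mul, Multiset.map_const', Multiset.prod_replicate]
    have e3 : (R.map (fun z => (0 : ℂ) - z)).prod * (R.map (fun z => x - conj z)).prod =
        (R.map (fun z => ((0 : ℂ) - z) * (x - conj z))).prod := by
      rw [Multiset.prod_map_mul]
    have e4 : R.map (fun z => x * ((q : ℂ) / x - z)) =
        R.map (fun z => ((0 : ℂ) - z) * (x - conj z)) := by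
      apply Multiset.map_congr rfl
      intro z hz
      have hz' := hqC z hz
      have h5 : x * ((q : ℂ) / x - z) = (q : ℂ) - x * z := by
        rw [mul_sub, mul_div_assoc', mul_comm x (q : ℂ), mul_div_assoc, div_self hx, mul_one]
      rw [h5, ← hz']
      ring
    rw [heval ((q : ℂ) / x), heval 0, heval x, ← hcard, e2, e1, e3, e4]
  -- the reversed polynomial
  obtain ⟨QC, hQC⟩ : ∃ QC : Polynomial ℂ, QC = ∑ j ∈ Finset.range (P.natDegree + 1),
      C (PC.coeff j * (q : ℂ) ^ j) * X ^ (P.natDegree - j) := ⟨_, rfl⟩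
  have hQeval : ∀ x : ℂ, x ≠ 0 →
      QC.eval x = x ^ P.natDegree * PC.eval ((q : ℂ) / x) := by
    intro x hx
    rw [hQC, Polynomial.eval_finsetSum, Polynomial.eval_eq_sum_range, hdeg, Finset.mul_sum]
    apply Finset.sum_congr rfl
    intro j hj
    have hj' : j ≤ P.natDegree := Nat.lt_succ_iff.mp (Finset.mem_range.mp hj)
    have hxj : x ^ j ≠ 0 := pow_ne_zero _ hx
    rw [eval_mul, eval_C, eval_pow, eval_X, div_pow]
    have h6 : x ^ P.natDegree = x ^ (P.natDegree - j) * x ^ j := by
      rw [← pow_add, Nat.sub_add_cancel hj']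
    have h7 : x ^ j * (PC.coeff j * ((q : ℂ) ^ j / x ^ j)) = PC.coeff j * (q : ℂ) ^ j := by
      rw [mul_div_assoc', mul_div_assoc', div_eq_iff hxj]
      ring
    rw [h6]
    linear_combination (-(x ^ (P.natDegree - j))) * h7
  have hpoly : QC = C (PC.eval 0) * PC := by
    apply Polynomial.eq_of_infinite_eval_eq
    apply Set.Infinite.mono (s := ({0} : Set ℂ)ᶜ)
    · intro x hx
      have hx' : x ≠ 0 := hx
      show QC.eval x = (C (PC.eval 0) * PC).eval x
      rw [hQeval x hx', hI x hx', eval_mul, eval_C]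
    · exact (Set.finite_singleton (0 : ℂ)).infinite_compl
  have hcoef : ∀ k ≤ P.natDegree,
      PC.coeff (P.natDegree - k) * (q : ℂ) ^ (P.natDegree - k) = PC.eval 0 * PC.coeff k := by
    intro k hk
    have h := congrArg (fun f => Polynomial.coeff f k) hpoly
    simp only [coeff_C_mul] at h
    rw [← h, hQC, Polynomial.finsetSum_coeff]
    rw [Finset.sum_eq_single (P.natDegree - k)]
    · rw [coeff_C_mul_X_pow, if_pos]
      omega
    · intro j hj hne
      rw [coeff_C_mul_X_pow, if_neg]
      have := Finset.mem_range.mp hj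
      omega
    · intro h'
      exfalso
      apply h'
      rw [Finset.mem_range]
      omega
  intro k hk
  simp only [← hc]
  rw [hcoef k hk, Polynomial.coeff_zero_eq_eval_zero]

/-- Integer consequences. -/
theorem weil_int (P : Polynomial ℤ) (hP : P.Monic) (q : ℤ) (hq : 0 < q) (D : ℕ)
    (hdeg : P.natDegree = 2 * D)
    (hweil : ∀ z ∈ P.aroots ℂ, ‖z‖ = Real.sqrt ((q : ℤ) : ℝ)) :
    (P.coeff 0 = q ^ D ∨ P.coeff 0 = -q ^ D) ∧ ∀ k, q ^ (D - k) ∣ P.coeff k := by
  have H := weil_coef P hP ((q : ℤ) : ℝ) (by exact_mod_cast hq) hweil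
  have hI : ∀ k ≤ 2 * D, P.coeff (2 * D - k) * q ^ (2 * D - k) = P.coeff 0 * P.coeff k := by
    intro k hk
    have h1 := H k (by omega)
    rw [hdeg] at h1
    exact_mod_cast h1
  have hlead : P.coeff (2 * D) = 1 := by
    rw [← hdeg]; exact hP.coeff_natDegree
  have hq0 : q ≠ 0 := hq.ne'
  have h0 : P.coeff 0 = q ^ D ∨ P.coeff 0 = -q ^ D := by
    have h1 := hI 0 (by omega)
    rw [Nat.sub_zero, hlead, one_mul] at h1
    apply mul_self_eq_mul_self_iff.mp
    rw [← h1, ← pow_add]
    congr 1
    omega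
  refine ⟨h0, ?_⟩
  intro k
  by_cases hk : k ≤ D
  · have e := hI k (by omega)
    have e2 : 2 * D - k = (D - k) + D := by omega
    rw [e2, pow_add] at e
    rcases h0 with h | h
    · rw [h] at e
      have e3 : q ^ D * (P.coeff (D - k + D) * q ^ (D - k)) = q ^ D * P.coeff k := by
        rw [← e]; ring
      have e4 := mul_left_cancel₀ (pow_ne_zero D hq0) e3
      exact ⟨P.coeff (D - k + D), by rw [← e4]; ring⟩
    · rw [h] at e
      have e3 : q ^ D * (-(P.coeff (D - k + D) * q ^ (D - k))) = q ^ D * P.coeff k := by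
        linear_combination -e
      have e4 := mul_left_cancel₀ (pow_ne_zero D hq0) e3
      exact ⟨-P.coeff (D - k + D), by rw [← e4]; ring⟩
  · rw [Nat.sub_eq_zero_of_le (by omega), pow_zero]
    exact one_dvd _

end Groth.Agent.H65.WeilCoef
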