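import Mathlib
import Groth.Agent.H68.TopInv
import Groth.Agent.S9436

/-!
# Lifting étale schemes along thickenings: lifts, transition maps, the affine case
-/

set_option autoImplicit false
open CategoryTheory CategoryTheory.Limits AlgebraicGeometry Opposite
universe u

namespace Groth.Agent.H65.ThickLift

open Groth.Agent.H68

/-- A lift of the `S₀`-scheme `q : W ⟶ S₀` to an étale `S`-scheme. -/
structure Lift {S S₀ : Scheme.{u}} (i : S₀ ⟶ S) (W : Scheme.{u}) (q : W ⟶ S₀) where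
  L : Scheme.{u}
  p : L ⟶ S
  a : W ⟶ L
  etale : Etale p
  pb : IsPullback a q p i

section Trans

variable {S S₀ : Scheme.{u}} {i : S₀ ⟶ S} [IsClosedImmersion i] [Surjective i]

theorem Lift.isClosedImmersion_a {W : Scheme.{u}} {q : W ⟶ S₀} (ℓ : Lift i W q) :
    IsClosedImmersion ℓ.a :=
  MorphismProperty.of_isPullback (P := @IsClosedImmersion) ℓ.pb.flip inferInstance

theorem Lift.surjective_a {W : Scheme.{u}} {q : W ⟶ S₀} (ℓ : Lift i W q) :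
    Surjective ℓ.a :=
  MorphismProperty.of_isPullback (P := @Surjective) ℓ.pb.flip inferInstance

theorem exists_trans {W W' : Scheme.{u}} {q : W ⟶ S₀} {q' : W' ⟶ S₀} (ℓ : Lift i W q)
    (ℓ' : Lift i W' q') (g : W ⟶ W') (hg : g ≫ q' = q) :
    ∃ t : ℓ.L ⟶ ℓ'.L, t ≫ ℓ'.p = ℓ.p ∧ ℓ.a ≫ t = g ≫ ℓ'.a := by
  haveI := ℓ'.etale
  haveI : IsClosedImmersion ℓ.a := ℓ.isClosedImmersion_a
  haveI : Surjective ℓ.a := ℓ.surjective_a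
  refine TopInv.surj ℓ'.p ℓ.p ℓ.a (g ≫ ℓ'.a) ?_
  rw [Category.assoc, ℓ'.pb.w, ← Category.assoc, hg, ℓ.pb.w]

theorem trans_unique {W W' : Scheme.{u}} {q : W ⟶ S₀} {q' : W' ⟶ S₀} (ℓ : Lift i W q)
    (ℓ' : Lift i W' q') (t t' : ℓ.L ⟶ ℓ'.L) (h1 : t ≫ ℓ'.p = t' ≫ ℓ'.p)
    (h2 : ℓ.a ≫ t = ℓ.a ≫ t') : t = t' := by
  haveI := ℓ'.etale
  haveI : Surjective ℓ.a := ℓ.surjective_a
  exact TopInv.inj ℓ'.p ℓ.a t t' h1 h2

theorem mono_of_trans {W W' : Scheme.{u}} {q : W ⟶ S₀} {q' : W' ⟶ S₀} (ℓ : Lift i W q)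
    (ℓ' : Lift i W' q') (g : W ⟶ W') [Mono g] (t : ℓ.L ⟶ ℓ'.L) (h1 : t ≫ ℓ'.p = ℓ.p)
    (h2 : ℓ.a ≫ t = g ≫ ℓ'.a) : Mono t := by
  haveI := ℓ.etale
  haveI : IsClosedImmersion ℓ'.a := ℓ'.isClosedImmersion_a
  refine ⟨fun {T} x y hxy => ?_⟩
  have hp : x ≫ ℓ.p = y ≫ ℓ.p := by
    rw [← h1, ← Category.assoc, hxy, Category.assoc]
  let b : pullback (x ≫ ℓ.p) i ⟶ T := pullback.fst _ _
  let c : pullback (x ≫ ℓ.p) i ⟶ S₀ := pullback.snd _ _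
  haveI : Surjective b := inferInstanceAs (Surjective (pullback.fst (x ≫ ℓ.p) i))
  have hbc : (b ≫ x) ≫ ℓ.p = c ≫ i := by
    rw [Category.assoc]; exact pullback.condition
  have hbc' : (b ≫ y) ≫ ℓ.p = c ≫ i := by
    rw [Category.assoc, ← hp]; exact pullback.condition
  let x₀ : pullback (x ≫ ℓ.p) i ⟶ W := ℓ.pb.lift (b ≫ x) c hbc
  let y₀ : pullback (x ≫ ℓ.p) i ⟶ W := ℓ.pb.lift (b ≫ y) c hbc'
  have hx₀ : x₀ ≫ ℓ.a = b ≫ x := ℓ.pb.lift_fst _ _ _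
  have hy₀ : y₀ ≫ ℓ.a = b ≫ y := ℓ.pb.lift_fst _ _ _
  have h3 : (x₀ ≫ g) ≫ ℓ'.a = (y₀ ≫ g) ≫ ℓ'.a := by
    rw [Category.assoc, Category.assoc, ← h2, ← Category.assoc, ← Category.assoc, hx₀, hy₀,
      Category.assoc, Category.assoc, hxy]
  have h4 : x₀ = y₀ := (cancel_mono g).mp ((cancel_mono ℓ'.a).mp h3)
  have h5 : b ≫ x = b ≫ y := by rw [← hx₀, ← hy₀, h4]
  exact TopInv.inj ℓ.p b x y hp h5

theorem isOpenImmersion_of_trans {W W' : Scheme.{u}} {q : W ⟶ S₀} {q' : W' ⟶ S₀}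
    (ℓ : Lift i W q) (ℓ' : Lift i W' q') (g : W ⟶ W') [Mono g] (t : ℓ.L ⟶ ℓ'.L)
    (h1 : t ≫ ℓ'.p = ℓ.p) (h2 : ℓ.a ≫ t = g ≫ ℓ'.a) : IsOpenImmersion t := by
  haveI := ℓ.etale
  haveI := ℓ'.etale
  haveI : Mono t := mono_of_trans ℓ ℓ' g t h1 h2
  haveI : Etale (t ≫ ℓ'.p) := by rw [h1]; infer_instance
  haveI : Etale t := Etale.of_comp t ℓ'.p
  exact IsOpenImmersion.of_flat_of_mono t

end Trans

end Groth.Agent.H65.ThickLift
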