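import Mathlib
import Groth.Agent.H65.ThickLift

/-!
# Lifting étale schemes along thickenings: the affine case
-/

set_option autoImplicit false
open CategoryTheory CategoryTheory.Limits AlgebraicGeometry Opposite
universe u

namespace Groth.Agent.H65.ThickLift

open TensorProduct in
theorem ring_lift {A A₀ B₀ : CommRingCat.{u}} (φ : A ⟶ A₀) (hφ : Function.Surjective φ.hom)
    (ψ₀ : A₀ ⟶ B₀) (hψ : ψ₀.hom.Etale) :
    ∃ (B : CommRingCat.{u}) (ψ : A ⟶ B) (α : B ⟶ B₀), ψ.hom.Etale ∧ IsPushout φ ψ ψ₀ α := by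
  let I : Ideal A := RingHom.ker φ.hom
  let e : A ⧸ I ≃+* A₀ := RingHom.quotientKerEquivOfSurjective hφ
  letI alg : Algebra (A ⧸ I) B₀ := (ψ₀.hom.comp e.toRingHom).toAlgebra
  haveI : Algebra.Etale (A ⧸ I) B₀ := by
    have h1 : (ψ₀.hom.comp e.toRingHom).Etale :=
      RingHom.Etale.stableUnderComposition _ _ (RingHom.Etale.of_bijective e.bijective) hψ
    exact h1
  obtain ⟨B, _, _, hB, ⟨e'⟩⟩ := Groth.Agent.S9436.result A I B₀
  refine ⟨CommRingCat.of B, CommRingCat.ofHom (algebraMap A B),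
    CommRingCat.ofHom (e'.toAlgHom.toRingHom.comp
      (Algebra.TensorProduct.includeRight (R := A) (A := A ⧸ I) (B := B)).toRingHom), ?_, ?_⟩
  · exact (RingHom.etale_algebraMap (R := A) (S := B)).mpr hB
  · refine (CommRingCat.isPushout_tensorProduct A (A ⧸ I) B).of_iso (Iso.refl _)
      e.toCommRingCatIso (Iso.refl _) e'.toRingEquiv.toCommRingCatIso ?_ ?_ ?_ ?_
    · ext x
      simp [e, RingHom.quotientKerEquivOfSurjective]
      rfl
    · ext x
      simp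
    · ext x
      have := e'.commutes x
      simp [RingHom.algebraMap_toAlgebra] at this ⊢
      exact this
    · ext x
      simp


theorem exists_lift_affine {S S₀ W : Scheme.{u}} [IsAffine S] [IsAffine W] (i : S₀ ⟶ S)
    [IsClosedImmersion i] (q : W ⟶ S₀) [Etale q] : Nonempty (Lift i W q) := by
  haveI : IsAffine S₀ := isAffine_of_isAffineHom i
  have hφ : Function.Surjective i.appTop.hom := i.app_surjective ⊤ (isAffineOpen_top S)
  have hψ : q.appTop.hom.Etale := (HasRingHomProperty.iff_of_isAffine (P := @Etale)).mp inferInstance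
  obtain ⟨B, ψ, α, hψB, hpo⟩ := ring_lift i.appTop hφ q.appTop hψ
  have hpb : IsPullback (Spec.map α) (Spec.map q.appTop) (Spec.map ψ) (Spec.map i.appTop) :=
    (isPullback_SpecMap_of_isPushout _ _ _ _ hpo).flip
  haveI : Etale (Spec.map ψ) := (HasRingHomProperty.Spec_iff (P := @Etale)).mpr hψB
  refine ⟨⟨Spec B, Spec.map ψ ≫ S.isoSpec.inv, W.isoSpec.hom ≫ Spec.map α, inferInstance, ?_⟩⟩
  refine hpb.of_iso W.isoSpec.symm (Iso.refl _) S₀.isoSpec.symm S.isoSpec.symm ?_ ?_ ?_ ?_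
  · simp
  · simp [Scheme.isoSpec_inv_naturality]
  · simp
  · simp [Scheme.isoSpec_inv_naturality]

theorem exists_lift_good {S S₀ V₀ : Scheme.{u}} (i : S₀ ⟶ S) [IsClosedImmersion i]
    (p₀ : V₀ ⟶ S₀) [Etale p₀] (W : V₀.Opens) (hW : IsAffineOpen W) (U : S.Opens)
    (hU : IsAffineOpen U) (hWU : W ≤ (p₀ ≫ i) ⁻¹ᵁ U) : Nonempty (Lift i W (W.ι ≫ p₀)) := by
  haveI : IsAffine (U : Scheme.{u}) := hU
  haveI : IsAffine (W : Scheme.{u}) := hW
  have hr : Set.range (W.ι ≫ p₀) ⊆ Set.range (i ⁻¹ᵁ U).ι := by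
    rintro _ ⟨w, rfl⟩
    rw [Scheme.Opens.range_ι]
    have hw : W.ι w ∈ W := by
      have : W.ι w ∈ Set.range W.ι := ⟨w, rfl⟩
      rwa [Scheme.Opens.range_ι] at this
    have := hWU hw
    simpa using this
  let q' : (W : Scheme.{u}) ⟶ ((i ⁻¹ᵁ U : S₀.Opens) : Scheme.{u}) :=
    IsOpenImmersion.lift (i ⁻¹ᵁ U).ι (W.ι ≫ p₀) hr
  have hq' : q' ≫ (i ⁻¹ᵁ U).ι = W.ι ≫ p₀ := IsOpenImmersion.lift_fac _ _ _
  haveI : Etale (q' ≫ (i ⁻¹ᵁ U).ι) := by rw [hq']; infer_instance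
  haveI : Etale q' := Etale.of_comp q' (i ⁻¹ᵁ U).ι
  obtain ⟨ℓ⟩ := exists_lift_affine (i ∣_ U) q'
  refine ⟨⟨ℓ.L, ℓ.p ≫ U.ι, ℓ.a, ?_, ?_⟩⟩
  · haveI := ℓ.etale
    infer_instance
  · have := ℓ.pb.paste_vert (isPullback_morphismRestrict i U)
    rwa [hq'] at this

end Groth.Agent.H65.ThickLift
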