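import Mathlib
import Groth.Agent.H65.ThickAff

/-!
# Lifting étale schemes along thickenings: gluing the affine lifts
-/

set_option autoImplicit false
open CategoryTheory CategoryTheory.Limits AlgebraicGeometry Opposite
universe u

namespace Groth.Agent.H65.ThickLift

section Glue

variable {S S₀ V₀ : Scheme.{u}} (i : S₀ ⟶ S) [IsClosedImmersion i] [Surjective i]
  (p₀ : V₀ ⟶ S₀) [Etale p₀]

/-- Good opens of `V₀`: affine and mapping into an affine open of `S`. -/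
def Good (W : V₀.Opens) : Prop :=
  IsAffineOpen W ∧ ∃ U : S.Opens, IsAffineOpen U ∧ W ≤ (p₀ ≫ i) ⁻¹ᵁ U

/-- The index preorder. -/
abbrev J : Type u := {W : V₀.Opens // Good i p₀ W}

omit [IsClosedImmersion i] [Surjective i] [Etale p₀] in
theorem exists_good (v : V₀) (O : V₀.Opens) (hv : v ∈ O) :
    ∃ W : J i p₀, v ∈ W.1 ∧ W.1 ≤ O := by
  obtain ⟨U, hU, hvU, -⟩ := TopologicalSpace.Opens.isBasis_iff_nbhd.mp S.isBasis_affineOpens
    (show (p₀ ≫ i) v ∈ (⊤ : S.Opens) from trivial)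
  have hv' : v ∈ O ⊓ (p₀ ≫ i) ⁻¹ᵁ U := ⟨hv, hvU⟩
  obtain ⟨W, hW, hvW, hWle⟩ :=
    TopologicalSpace.Opens.isBasis_iff_nbhd.mp V₀.isBasis_affineOpens hv'
  exact ⟨⟨W, hW, U, hU, hWle.trans inf_le_right⟩, hvW, hWle.trans inf_le_left⟩

/-- The chosen lift of a good open. -/
noncomputable def lift (W : J i p₀) : Lift i (W.1 : Scheme.{u}) (W.1.ι ≫ p₀) :=
  (exists_lift_good i p₀ W.1 W.2.1 W.2.2.choose W.2.2.choose_spec.1 W.2.2.choose_spec.2).some

theorem exists_tr {W W' : J i p₀} (h : W ≤ W') :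
    ∃ t : (lift i p₀ W).L ⟶ (lift i p₀ W').L, t ≫ (lift i p₀ W').p = (lift i p₀ W).p ∧
      (lift i p₀ W).a ≫ t = V₀.homOfLE h ≫ (lift i p₀ W').a :=
  exists_trans _ _ (V₀.homOfLE h) (by simp)

/-- The transition maps. -/
noncomputable def tr {W W' : J i p₀} (h : W ≤ W') : (lift i p₀ W).L ⟶ (lift i p₀ W').L :=
  (exists_tr i p₀ h).choose

theorem tr_p {W W' : J i p₀} (h : W ≤ W') :
    tr i p₀ h ≫ (lift i p₀ W').p = (lift i p₀ W).p := (exists_tr i p₀ h).choose_spec.1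

theorem a_tr {W W' : J i p₀} (h : W ≤ W') :
    (lift i p₀ W).a ≫ tr i p₀ h = V₀.homOfLE h ≫ (lift i p₀ W').a :=
  (exists_tr i p₀ h).choose_spec.2

theorem tr_eq {W W' : J i p₀} (h : W ≤ W') (t : (lift i p₀ W).L ⟶ (lift i p₀ W').L)
    (h1 : t ≫ (lift i p₀ W').p = (lift i p₀ W).p)
    (h2 : (lift i p₀ W).a ≫ t = V₀.homOfLE h ≫ (lift i p₀ W').a) : t = tr i p₀ h :=
  trans_unique _ _ _ _ (h1.trans (tr_p i p₀ h).symm) (h2.trans (a_tr i p₀ h).symm)

/-- The diagram of lifts. -/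
noncomputable def F : J i p₀ ⥤ Scheme.{u} where
  obj W := (lift i p₀ W).L
  map f := tr i p₀ (leOfHom f)
  map_id W := (tr_eq i p₀ _ _ (by simp) (by simp)).symm
  map_comp {W W' W''} f g := by
    refine (tr_eq i p₀ _ _ ?_ ?_).symm
    · rw [Category.assoc, tr_p, tr_p]
    · rw [← Category.assoc, a_tr, Category.assoc, a_tr, ← Category.assoc]
      simp

instance {W W' : J i p₀} (f : W ⟶ W') : IsOpenImmersion ((F i p₀).map f) :=
  isOpenImmersion_of_trans _ _ (V₀.homOfLE (leOfHom f)) _ (tr_p i p₀ _) (a_tr i p₀ _)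

theorem a_inj (W : J i p₀) : Function.Injective (lift i p₀ W).a := by
  haveI := (lift i p₀ W).isClosedImmersion_a
  exact (lift i p₀ W).a.isClosedEmbedding.injective

theorem a_surj (W : J i p₀) : Function.Surjective (lift i p₀ W).a := by
  haveI := (lift i p₀ W).surjective_a
  exact (lift i p₀ W).a.surjective

theorem tr_a_apply {W W' : J i p₀} (h : W ≤ W') (w : (W.1 : Scheme.{u})) :
    (tr i p₀ h) ((lift i p₀ W).a w) = (lift i p₀ W').a (V₀.homOfLE h w) := by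
  rw [← Scheme.Hom.comp_apply, ← Scheme.Hom.comp_apply, a_tr]

omit [IsClosedImmersion i] [Surjective i] [Etale p₀] in
theorem homOfLE_eq_of_ι_eq {W W' : J i p₀} (h : W ≤ W') (w : (W.1 : Scheme.{u}))
    (w' : (W'.1 : Scheme.{u})) (hw : W.1.ι w = W'.1.ι w') : V₀.homOfLE h w = w' := by
  apply W'.1.ι.isOpenEmbedding.injective
  rw [← Scheme.Hom.comp_apply, Scheme.homOfLE_ι]
  exact hw


omit [IsClosedImmersion i] [Surjective i] [Etale p₀] in
theorem exists_point (W : J i p₀) (v : V₀) (hv : v ∈ W.1) :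
    ∃ w : (W.1 : Scheme.{u}), W.1.ι w = v := by
  have : v ∈ Set.range W.1.ι := by rw [Scheme.Opens.range_ι]; exact hv
  exact this

omit [IsClosedImmersion i] [Surjective i] [Etale p₀] in
theorem ι_mem (W : J i p₀) (w : (W.1 : Scheme.{u})) : W.1.ι w ∈ W.1 := by
  have : W.1.ι w ∈ Set.range W.1.ι := ⟨w, rfl⟩
  rwa [Scheme.Opens.range_ι] at this

instance : ((F i p₀) ⋙ Scheme.forget).IsLocallyDirected where
  cond {Wi Wj Wk} fi fj xi xj hx := by
    obtain ⟨wi, rfl⟩ := a_surj i p₀ Wi xi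
    obtain ⟨wj, rfl⟩ := a_surj i p₀ Wj xj
    have hx' : (tr i p₀ (leOfHom fi)) ((lift i p₀ Wi).a wi) =
        (tr i p₀ (leOfHom fj)) ((lift i p₀ Wj).a wj) := hx
    rw [tr_a_apply, tr_a_apply] at hx'
    have h2 := a_inj i p₀ Wk hx'
    have h3 : Wi.1.ι wi = Wj.1.ι wj := by
      have := congrArg (Wk.1.ι) h2
      rwa [← Scheme.Hom.comp_apply, ← Scheme.Hom.comp_apply, Scheme.homOfLE_ι,
        Scheme.homOfLE_ι] at this
    have hv : Wi.1.ι wi ∈ Wi.1 ⊓ Wj.1 := ⟨ι_mem i p₀ Wi wi, h3 ▸ ι_mem i p₀ Wj wj⟩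
    obtain ⟨Wl, hvl, hle⟩ := exists_good i p₀ _ _ hv
    obtain ⟨wl, hwl⟩ := exists_point i p₀ Wl _ hvl
    have hli : Wl ≤ Wi := hle.trans inf_le_left
    have hlj : Wl ≤ Wj := hle.trans inf_le_right
    refine ⟨Wl, homOfLE hli, homOfLE hlj, (lift i p₀ Wl).a wl, ?_, ?_⟩
    · show (tr i p₀ _) ((lift i p₀ Wl).a wl) = _
      rw [tr_a_apply, homOfLE_eq_of_ι_eq i p₀ hli wl wi hwl]
    · show (tr i p₀ _) ((lift i p₀ Wl).a wl) = _
      rw [tr_a_apply, homOfLE_eq_of_ι_eq i p₀ hlj wl wj (hwl.trans h3)]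

/-- The glued scheme. -/
noncomputable def V : Scheme.{u} := colimit (F i p₀)

/-- The inclusion of a chart. -/
noncomputable def ιV (W : J i p₀) : (lift i p₀ W).L ⟶ V i p₀ := colimit.ι (F i p₀) W

instance (W : J i p₀) : IsOpenImmersion (ιV i p₀ W) :=
  inferInstanceAs (IsOpenImmersion (colimit.ι (F i p₀) W))

theorem tr_ιV {W W' : J i p₀} (h : W ≤ W') : tr i p₀ h ≫ ιV i p₀ W' = ιV i p₀ W :=
  colimit.w (F i p₀) (homOfLE h)

/-- The structure morphism of the glued scheme. -/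
noncomputable def p : V i p₀ ⟶ S :=
  colimit.desc (F i p₀) ⟨S, { app := fun W => (lift i p₀ W).p
                              naturality := fun W W' f => by
                                exact (tr_p i p₀ (leOfHom f)).trans (Category.comp_id _).symm }⟩

theorem ιV_p (W : J i p₀) : ιV i p₀ W ≫ p i p₀ = (lift i p₀ W).p :=
  colimit.ι_desc _ _

instance etale_p : Etale (p i p₀) := by
  haveI : IsZariskiLocalAtSource @Etale.{u} := HasRingHomProperty.instIsZariskiLocalAtSource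
  refine (IsZariskiLocalAtSource.iff_of_openCover (P := @Etale)
    (Scheme.IsLocallyDirected.openCover (F i p₀))).mpr ?_
  intro (W : J i p₀)
  have h : Etale (ιV i p₀ W ≫ p i p₀) := by
    rw [ιV_p]
    exact (lift i p₀ W).etale
  exact h


omit [IsClosedImmersion i] [Surjective i] [Etale p₀] in
theorem isOpenCover_J : TopologicalSpace.IsOpenCover (fun W : J i p₀ => W.1) := by
  refine TopologicalSpace.IsOpenCover.mk (eq_top_iff.mpr fun v _ => ?_)
  obtain ⟨W, hvW, -⟩ := exists_good i p₀ v ⊤ trivial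
  exact TopologicalSpace.Opens.mem_iSup.mpr ⟨W, hvW⟩

/-- The cover of `V₀` by good opens. -/
noncomputable def cov : V₀.OpenCover :=
  V₀.openCoverOfIsOpenCover (fun W : J i p₀ => W.1) (isOpenCover_J i p₀)

instance : Preorder (cov i p₀).I₀ := inferInstanceAs (Preorder (J i p₀))

noncomputable instance covLD : (cov i p₀).LocallyDirected :=
  .ofIsBasisOpensRange
    (by
      intro W W'
      show W ≤ W' ↔ (W.1.ι).opensRange ≤ (W'.1.ι).opensRange
      rw [Scheme.Opens.opensRange_ι, Scheme.Opens.opensRange_ι]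
      rfl)
    (by
      refine TopologicalSpace.Opens.isBasis_iff_nbhd.mpr ?_
      intro O v hv
      obtain ⟨W, hvW, hWO⟩ := exists_good i p₀ v O hv
      refine ⟨_, ⟨W, rfl⟩, ?_, ?_⟩
      · show v ∈ (W.1.ι).opensRange
        rw [Scheme.Opens.opensRange_ι]; exact hvW
      · show (W.1.ι).opensRange ≤ O
        rw [Scheme.Opens.opensRange_ι]; exact hWO)

theorem cov_trans {W W' : J i p₀} (f : (W : (cov i p₀).I₀) ⟶ W') :
    (cov i p₀).trans f = V₀.homOfLE (show W.1 ≤ W'.1 from leOfHom f) := by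
  apply (cancel_mono (W'.1.ι)).mp
  exact ((cov i p₀).trans_map f).trans (V₀.homOfLE_ι _).symm

theorem homOfLE_a_ιV {W W' : J i p₀} (h : W ≤ W') :
    V₀.homOfLE h ≫ (lift i p₀ W').a ≫ ιV i p₀ W' = (lift i p₀ W).a ≫ ιV i p₀ W := by
  rw [← Category.assoc, ← a_tr, Category.assoc, tr_ιV]

theorem a₀_compat {W W' : (cov i p₀).I₀} (f : W ⟶ W') :
    (cov i p₀).trans f ≫ (lift i p₀ W').a ≫ ιV i p₀ W' = (lift i p₀ W).a ≫ ιV i p₀ W := by
  have h : (W : J i p₀) ≤ W' := leOfHom f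
  have e1 : (cov i p₀).trans f = V₀.homOfLE h := cov_trans i p₀ f
  exact (congrArg (· ≫ (lift i p₀ W').a ≫ ιV i p₀ W') e1).trans (homOfLE_a_ιV i p₀ h)

/-- The glued thickening `V₀ ⟶ V`. -/
noncomputable def a₀ : V₀ ⟶ V i p₀ :=
  (cov i p₀).glueMorphismsOfLocallyDirected
    (fun W : (cov i p₀).I₀ => (lift i p₀ W).a ≫ ιV i p₀ W) (a₀_compat i p₀)

theorem ι_a₀ (W : J i p₀) : W.1.ι ≫ a₀ i p₀ = (lift i p₀ W).a ≫ ιV i p₀ W :=
  (cov i p₀).map_glueMorphismsOfLocallyDirected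
    (fun W : (cov i p₀).I₀ => (lift i p₀ W).a ≫ ιV i p₀ W) (a₀_compat i p₀) W

theorem a₀_p : a₀ i p₀ ≫ p i p₀ = p₀ ≫ i := by
  refine (cov i p₀).hom_ext _ _ fun (W : J i p₀) => ?_
  show W.1.ι ≫ a₀ i p₀ ≫ p i p₀ = W.1.ι ≫ p₀ ≫ i
  rw [← Category.assoc, ι_a₀, Category.assoc, ιV_p, (lift i p₀ W).pb.w, Category.assoc]


theorem a₀_ι_apply (W : J i p₀) (w : (W.1 : Scheme.{u})) :
    a₀ i p₀ (W.1.ι w) = ιV i p₀ W ((lift i p₀ W).a w) := by
  rw [← Scheme.Hom.comp_apply, ι_a₀, Scheme.Hom.comp_apply]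

theorem preimage_range (W : J i p₀) :
    a₀ i p₀ ⁻¹ᵁ (ιV i p₀ W).opensRange = W.1 := by
  ext v
  constructor
  · rintro ⟨x, hx⟩
    obtain ⟨W', hvW', -⟩ := exists_good i p₀ v ⊤ trivial
    obtain ⟨w', rfl⟩ := exists_point i p₀ W' v hvW'
    have hx' : colimit.ι (F i p₀) W x = colimit.ι (F i p₀) W' ((lift i p₀ W').a w') :=
      hx.trans (a₀_ι_apply i p₀ W' w')
    obtain ⟨W'', f, f', y, hy, hy'⟩ := (Scheme.IsLocallyDirected.ι_eq_ι_iff (F i p₀)).mp hx'
    obtain ⟨w'', rfl⟩ := a_surj i p₀ W'' y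
    have hy'' : (tr i p₀ (leOfHom f')) ((lift i p₀ W'').a w'') = (lift i p₀ W').a w' := hy'
    rw [tr_a_apply] at hy''
    have h2 := a_inj i p₀ W' hy''
    have h3 : W'.1.ι w' = W''.1.ι w'' := by
      rw [← h2, ← Scheme.Hom.comp_apply, Scheme.homOfLE_ι]
    show W'.1.ι w' ∈ W.1
    rw [h3]
    exact (leOfHom f) (ι_mem i p₀ W'' w'')
  · intro hv
    obtain ⟨w, rfl⟩ := exists_point i p₀ W v hv
    exact ⟨(lift i p₀ W).a w, (a₀_ι_apply i p₀ W w).symm⟩

theorem isPullback_chart (W : J i p₀) :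
    IsPullback (lift i p₀ W).a W.1.ι (ιV i p₀ W) (a₀ i p₀) :=
  IsOpenImmersion.isPullback _ _ _ _ (ι_a₀ i p₀ W)
    ((preimage_range i p₀ W).trans (Scheme.Opens.opensRange_ι W.1).symm)

theorem isPullback_a₀ : IsPullback (a₀ i p₀) p₀ (p i p₀) i := by
  refine Scheme.isPullback_of_openCover _ _ _ _
    (Scheme.IsLocallyDirected.openCover (F i p₀)) ?_
  intro (W : J i p₀)
  let e : (W.1 : Scheme.{u}) ≅ pullback (a₀ i p₀) (ιV i p₀ W) :=
    (isPullback_chart i p₀ W).flip.isoPullback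
  have e1 : e.hom ≫ pullback.fst _ _ = W.1.ι := (isPullback_chart i p₀ W).flip.isoPullback_hom_fst
  have e2 : e.hom ≫ pullback.snd _ _ = (lift i p₀ W).a :=
    (isPullback_chart i p₀ W).flip.isoPullback_hom_snd
  refine (lift i p₀ W).pb.of_iso e (Iso.refl _) (Iso.refl _) (Iso.refl _) ?_ ?_ ?_ ?_
  · exact (Category.comp_id _).trans e2.symm
  · refine (Category.comp_id _).trans ?_
    rw [← e1, Category.assoc]
    rfl
  · refine (Category.comp_id _).trans ((ιV_p i p₀ W).symm.trans (Category.id_comp _).symm)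
  · exact (Category.comp_id _).trans (Category.id_comp _).symm

end Glue

/-- **Essential surjectivity**: every étale `S₀`-scheme lifts along a thickening `S₀ ⟶ S`. -/
theorem exists_lift {S S₀ : Scheme.{u}} (i : S₀ ⟶ S) [IsClosedImmersion i] [Surjective i]
    (V₀ : Scheme.{u}) (p₀ : V₀ ⟶ S₀) [Etale p₀] :
    ∃ (V : Scheme.{u}) (p : V ⟶ S) (_ : Etale p) (a : V₀ ⟶ V), IsPullback a p₀ p i :=
  ⟨V i p₀, p i p₀, etale_p i p₀, a₀ i p₀, isPullback_a₀ i p₀⟩

end Groth.Agent.H65.ThickLift
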