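import Groth.Agent.H65.SpGlue
import Groth.Agent.H50.AtMor
import Groth.Agent.H50.Fppf

/-!
# Affine étale charts of an algebraic space form a covering family
-/

set_option autoImplicit false
universe u
open CategoryTheory CategoryTheory.Limits AlgebraicGeometry Opposite

namespace Groth.Agent.H65.AffCharts

open AlgSp

variable {S : Scheme.{u}} {M : AlgSp.Sp S}

/-- the Yoneda equivalence for `AlgSp.yon`. -/
noncomputable abbrev yEquiv {T : Over S} : ((yon S).obj T ⟶ M) ≃ M.obj.obj (op T) :=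
  GrothendieckTopology.uliftYonedaEquiv.{u + 1} (J S)

/-- sections of `h_U` applied to a map of sheaves, in terms of the Yoneda equivalence. -/
theorem app_up {U V : Over S} (k : (yon S).obj U ⟶ M) (a : V ⟶ U) :
    k.hom.app (op V) ⟨a⟩ = yEquiv ((yon S).map a ≫ k) := by
  rw [GrothendieckTopology.uliftYonedaEquiv_comp,
    GrothendieckTopology.uliftYonedaEquiv_uliftYoneda_map]

theorem map_equiv {T V : Over S} (v : V ⟶ T) (m : (yon S).obj T ⟶ M) :
    M.obj.map v.op (yEquiv m) = yEquiv ((yon S).map v ≫ m) :=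
  GrothendieckTopology.uliftYonedaEquiv_naturality _ m v

/-- An affine étale chart of `M`. -/
structure AffChart (M : AlgSp.Sp S) where
  U : Over S
  u : (yon S).obj U ⟶ M
  aff : IsAffine U.left
  et : RepWith @Etale u

theorem cov_affChart (hM : IsAlgSpace M) (T : Over S) (m : M.obj.obj (op T)) :
    SpGlue.covSieve (fun c : AffChart M => c.U) (fun c => c.u) T m ∈ J S T := by
  obtain ⟨V₀, p, hp1, hp2⟩ := hM.atlas
  obtain ⟨m', rfl⟩ := (yEquiv (M := M) (T := T)).surjective m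
  have hrep := hp1.rep
  let P : Over S := hrep.pullback m'
  let snd : P ⟶ T := hrep.snd m'
  let fst : P ⟶ V₀ := hrep.fst' m'
  have hw : (yon S).map fst ≫ p = (yon S).map snd ≫ m' := (hrep.isPullback' m').w
  have hsnd_et : Etale snd.left := hp1.property_snd m'
  have hsnd_surj : Surjective snd.left := hp2.property_snd m'
  let W : V₀.left.affineOpens → P.left.Opens := fun V₁ => fst.left ⁻¹ᵁ V₁.1
  let Y : V₀.left.affineOpens → Over S := fun V₁ => Over.mk ((W V₁).ι ≫ P.hom)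
  let ιW : ∀ V₁, Y V₁ ⟶ P := fun V₁ => Over.homMk (W V₁).ι rfl
  refine Groth.Agent.H50.mem_J_of_fppf_family Y (fun V₁ => ιW V₁ ≫ snd) ?_ ?_ ?_ _ ?_
  · intro τ
    obtain ⟨x, rfl⟩ := hsnd_surj.surj τ
    obtain ⟨V₁, hV₁, hx, -⟩ := exists_isAffineOpen_mem_and_subset (x := fst.left x)
      (U := ⊤) trivial
    refine ⟨⟨V₁, hV₁⟩, ⟨x, hx⟩, ?_⟩
    rfl
  · intro V₁
    show Flat ((W V₁).ι ≫ snd.left)
    infer_instance
  · intro V₁
    show LocallyOfFinitePresentation ((W V₁).ι ≫ snd.left)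
    infer_instance
  · intro V₁
    let c : AffChart M :=
      { U := Over.mk (V₁.1.ι ≫ V₀.hom)
        u := (yon S).map (Over.homMk (U := Over.mk (V₁.1.ι ≫ V₀.hom)) (V := V₀) V₁.1.ι rfl) ≫ p
        aff := V₁.2
        et := Groth.Agent.H50.repWith_etale_opens_ι_comp p hp1 V₁.1 }
    have hres : fst.left.resLE V₁.1 (W V₁) le_rfl ≫ V₁.1.ι = (W V₁).ι ≫ fst.left :=
      Scheme.Hom.resLE_comp_ι _ _
    let a : Y V₁ ⟶ c.U := Over.homMk (fst.left.resLE V₁.1 (W V₁) le_rfl) (by
      show fst.left.resLE V₁.1 (W V₁) le_rfl ≫ V₁.1.ι ≫ V₀.hom = (W V₁).ι ≫ P.hom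
      rw [← Category.assoc, hres, Category.assoc, Over.w fst])
    refine ⟨c, a, ?_⟩
    rw [app_up, map_equiv]
    congr 1
    have e1 : a ≫ (Over.homMk (U := Over.mk (V₁.1.ι ≫ V₀.hom)) (V := V₀) V₁.1.ι rfl) =
        ιW V₁ ≫ fst := by
      ext
      exact hres
    show (yon S).map a ≫ (yon S).map _ ≫ p = (yon S).map (ιW V₁ ≫ snd) ≫ m'
    rw [← Category.assoc, ← Functor.map_comp, e1, Functor.map_comp, Category.assoc, hw,
      Functor.map_comp, Category.assoc]

end Groth.Agent.H65.AffCharts
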