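import Mathlib
import Groth.Agent.H21.KPoint

/-!
# Sections of schemes locally of finite type over an algebraically closed field (helper65)
-/

set_option autoImplicit false
open CategoryTheory CategoryTheory.Limits AlgebraicGeometry Opposite
universe u

namespace Groth.Agent.H65.AlgClosedPt

/-- a scheme locally of finite type over an algebraically closed field, with a point, has a
section. -/
theorem exists_section_of_lft {Ω : Type u} [Field Ω] [IsAlgClosed Ω] {X : Scheme.{u}}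
    (g : X ⟶ Spec (CommRingCat.of Ω)) [LocallyOfFiniteType g] (x : X) :
    ∃ σ : Spec (CommRingCat.of Ω) ⟶ X, σ ≫ g = 𝟙 _ := by
  obtain ⟨V, hV, hxV⟩ : ∃ V : X.Opens, IsAffineOpen V ∧ x ∈ V := by
    obtain ⟨V, ⟨V', hV', rfl⟩, hx, -⟩ := (X.isBasis_affineOpens).exists_subset_of_mem_open
      (Set.mem_univ x) isOpen_univ
    exact ⟨V', hV', hx⟩
  obtain ⟨ψ, hψ⟩ : ∃ ψ : CommRingCat.of Ω ⟶ Γ(X, V), Spec.map ψ = hV.fromSpec ≫ g :=
    ⟨Spec.preimage (hV.fromSpec ≫ g), Spec.map_preimage _⟩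
  have hft : LocallyOfFiniteType (Spec.map ψ) := by
    rw [hψ]; infer_instance
  have hψft : ψ.hom.FiniteType := (HasRingHomProperty.Spec_iff (P := @LocallyOfFiniteType)).mp hft
  letI : Algebra Ω Γ(X, V) := ψ.hom.toAlgebra
  haveI : Algebra.FiniteType Ω Γ(X, V) := hψft
  haveI : Nontrivial Γ(X, V) := by
    have : Nonempty (Spec Γ(X, V)) := ⟨hV.isoSpec.hom.base ⟨x, hxV⟩⟩
    by_contra hn
    rw [not_nontrivial_iff_subsingleton] at hn
    exact (isEmpty_iff.mp (inferInstanceAs (IsEmpty (PrimeSpectrum Γ(X, V))))) this.some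
  obtain ⟨𝔪, h𝔪⟩ := Ideal.exists_maximal Γ(X, V)
  obtain ⟨χ, -⟩ := Groth.Agent.H21.KPoint.exists_algHom_ker_eq Ω 𝔪
  refine ⟨Spec.map (CommRingCat.ofHom χ.toRingHom) ≫ hV.fromSpec, ?_⟩
  rw [Category.assoc, ← hψ, ← Spec.map_comp]
  have : ψ ≫ CommRingCat.ofHom χ.toRingHom = 𝟙 _ := by
    ext c
    exact χ.commutes c
  rw [this, Spec.map_id]

end Groth.Agent.H65.AlgClosedPt
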