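import Mathlib
import Groth.Agent.H46.BD0

/-!
# (FREE) piece of the S1819 squad (helper65 for helper46)

Biduality for a finite free module placed in a single degree, by induction on the rank, from the
rank-one case `hA` and the two-out-of-three property `hTwo`.
-/

set_option autoImplicit false
universe u
open CategoryTheory CategoryTheory.Limits HomologicalComplex CochainComplex
open CochainComplex.HomComplex
attribute [local instance] HasDerivedCategory.standard
open Groth.Agent.H33.TensorHom Groth.Agent.H33.Bidual Groth.Agent.H46.BD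

namespace Groth.Agent.H65.BD_FREE

variable {A : Type u} [CommRing A]

/-- A complex all of whose terms are zero is a zero object. -/
lemma isZero_of_isZero_X (X : DRing.Cx A) (h : ∀ p, IsZero (X.X p)) : IsZero X := by
  rw [IsZero.iff_id_eq_zero]
  ext p : 1
  exact (h p).eq_of_src _ _

/-- Biduality is a quasi-isomorphism for a complex with zero terms. -/
lemma quasiIso_bidual_of_isZero_X (X J : DRing.Cx A) (h : ∀ p, IsZero (X.X p)) :
    QuasiIso (bidual X J) := by
  have hX : IsZero X := isZero_of_isZero_X X h
  have h1 : ∀ p, IsZero ((DRing.homCx X J).X p) := fun p =>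
    isZero_homCx_X X J p (fun p' => Or.inl (h p'))
  have hY : IsZero (DRing.homCx (DRing.homCx X J) J) :=
    isZero_of_isZero_X _ (fun q => isZero_homCx_X _ J q (fun p' => Or.inl (h1 p')))
  haveI : IsIso (bidual X J) := ⟨⟨0, hX.eq_of_src _ _, hY.eq_of_src _ _⟩⟩
  infer_instance

theorem quasiIso_bidual_single_free (J : DRing.Cx A) (hJ : ∀ q, Injective (J.X q))
    (hTwo : ∀ S : ShortComplex (DRing.Cx A), S.ShortExact → QuasiIso (bidual S.X₁ J) →
      QuasiIso (bidual S.X₃ J) → QuasiIso (bidual S.X₂ J))
    (hA : ∀ t : ℤ, QuasiIso (bidual ((HomologicalComplex.single (ModuleCat.{u} A)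
      (ComplexShape.up ℤ) t).obj (ModuleCat.of A A)) J))
    (r : ℕ) (t : ℤ) :
    QuasiIso (bidual ((HomologicalComplex.single (ModuleCat.{u} A) (ComplexShape.up ℤ) t).obj
      (ModuleCat.of A (Fin r → A))) J) := by
  induction r with
  | zero =>
    refine quasiIso_bidual_of_isZero_X _ J (fun p => ?_)
    have h0 : IsZero (ModuleCat.of A (Fin 0 → A)) :=
      ModuleCat.isZero_of_subsingleton _
    have h1 : IsZero ((HomologicalComplex.single (ModuleCat.{u} A) (ComplexShape.up ℤ) t).obj
        (ModuleCat.of A (Fin 0 → A))) :=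
      (HomologicalComplex.single (ModuleCat.{u} A) (ComplexShape.up ℤ) t).map_isZero h0
    exact (HomologicalComplex.eval (ModuleCat.{u} A) (ComplexShape.up ℤ) p).map_isZero h1
  | succ r ih =>
    let f : ModuleCat.of A A ⟶ ModuleCat.of A (Fin (r + 1) → A) :=
      ModuleCat.ofHom (LinearMap.single A (fun _ : Fin (r + 1) => A) 0)
    let g : ModuleCat.of A (Fin (r + 1) → A) ⟶ ModuleCat.of A (Fin r → A) :=
      ModuleCat.ofHom (LinearMap.funLeft A A (Fin.succ : Fin r → Fin (r + 1)))
    have w : f ≫ g = 0 := by
      apply ModuleCat.hom_ext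
      apply LinearMap.ext
      intro x
      funext i
      show (Pi.single (0 : Fin (r + 1)) x : Fin (r + 1) → A) i.succ = 0
      exact Pi.single_eq_of_ne (Fin.succ_ne_zero i) x
    let S₀ : ShortComplex (ModuleCat.{u} A) := ShortComplex.mk f g w
    have hS₀ : S₀.ShortExact := by
      have hex : S₀.Exact := by
        rw [ShortComplex.moduleCat_exact_iff]
        intro (v : Fin (r + 1) → A) hv
        have hv' : ∀ i : Fin r, v i.succ = 0 := fun i => congrFun hv i
        refine ⟨(v 0 : A), ?_⟩
        show (Pi.single (0 : Fin (r + 1)) (v 0) : Fin (r + 1) → A) = v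
        funext i
        refine Fin.cases ?_ (fun j => ?_) i
        · exact Pi.single_eq_same _ _
        · rw [hv' j]
          exact Pi.single_eq_of_ne (Fin.succ_ne_zero j) _
      have : Mono S₀.f := by
        rw [ModuleCat.mono_iff_injective]
        intro (a : A) (b : A) hab
        have h0 : (Pi.single (0 : Fin (r + 1)) a : Fin (r + 1) → A) 0
            = (Pi.single (0 : Fin (r + 1)) b : Fin (r + 1) → A) 0 := congrFun hab (0 : Fin (r + 1))
        rwa [Pi.single_eq_same, Pi.single_eq_same] at h0
      have : Epi S₀.g := by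
        rw [ModuleCat.epi_iff_surjective]
        intro (w' : Fin r → A)
        refine ⟨(Fin.cons 0 w' : Fin (r + 1) → A), ?_⟩
        funext i
        show (Fin.cons 0 w' : Fin (r + 1) → A) i.succ = w' i
        exact Fin.cons_succ _ _ _
      exact ShortComplex.ShortExact.mk hex
    have hS : (ShortComplex.mk
        ((HomologicalComplex.single (ModuleCat.{u} A) (ComplexShape.up ℤ) t).map f)
        ((HomologicalComplex.single (ModuleCat.{u} A) (ComplexShape.up ℤ) t).map g)
        (by rw [← Functor.map_comp, w, Functor.map_zero])).ShortExact :=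
      hS₀.map_of_exact (HomologicalComplex.single (ModuleCat.{u} A) (ComplexShape.up ℤ) t)
    have h2 := hTwo _ hS
    exact h2 (hA t) ih

end Groth.Agent.H65.BD_FREE
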