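import Mathlib

/-!
# Parity decomposition of `R[u,v]` over `R[u²,v²]` in characteristic 2

Tools for kernels of derivations and of maps `R[a,b,c] → R[u,v]`, `a ↦ u²`, `b ↦ v²`, `c ↦ g`.
-/

namespace Groth.Agent.H65

open MvPolynomial

section
variable {R : Type*} [CommRing R]

theorem two_eq_zero_mvPoly (h2 : (2 : R) = 0) (σ : Type*) : (2 : MvPolynomial σ R) = 0 := by
  rw [← map_ofNat (C (σ := σ) (R := R)) 2, h2, map_zero]

theorem X_mul_eq_zero {σ : Type*} (i : σ) {p : MvPolynomial σ R} (h : X i * p = 0) : p = 0 :=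
  X_mul_cancel_left_iff.mp (by rw [h, mul_zero])

theorem deriv_expand_two (h2 : (2 : R) = 0) {σ : Type*}
    (D : Derivation R (MvPolynomial σ R) (MvPolynomial σ R)) (q : MvPolynomial σ R) :
    D (expand 2 q) = 0 := by
  induction q using MvPolynomial.induction_on with
  | C r => rw [expand_C]; exact derivation_C D r
  | add p q hp hq => rw [map_add, map_add, hp, hq, add_zero]
  | mul_X p i hp =>
    have hX : D (X i ^ 2) = 0 := by
      rw [pow_two, Derivation.leibniz, ← two_smul (MvPolynomial σ R), two_eq_zero_mvPoly h2,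
        zero_smul]
    rw [map_mul, expand_X, Derivation.leibniz, hp, hX, smul_zero, smul_zero, add_zero]

theorem deriv_parity (h2 : (2 : R) = 0)
    (D : Derivation R (MvPolynomial (Fin 2) R) (MvPolynomial (Fin 2) R))
    (p₀ p₁ p₂ p₃ : MvPolynomial (Fin 2) R) :
    D (expand 2 p₀ + X 0 * expand 2 p₁ + X 1 * expand 2 p₂ + X 0 * X 1 * expand 2 p₃) =
      expand 2 p₁ * D (X 0) + expand 2 p₂ * D (X 1) +
        expand 2 p₃ * (X 0 * D (X 1) + X 1 * D (X 0)) := by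
  simp only [map_add, Derivation.leibniz, deriv_expand_two h2, smul_eq_mul]
  ring

theorem parity_decomp (p : MvPolynomial (Fin 2) R) :
    ∃ p₀ p₁ p₂ p₃ : MvPolynomial (Fin 2) R,
      p = expand 2 p₀ + X 0 * expand 2 p₁ + X 1 * expand 2 p₂ + X 0 * X 1 * expand 2 p₃ := by
  induction p using MvPolynomial.induction_on with
  | C r => exact ⟨C r, 0, 0, 0, by simp⟩
  | add p q hp hq =>
    obtain ⟨p₀, p₁, p₂, p₃, rfl⟩ := hp
    obtain ⟨q₀, q₁, q₂, q₃, rfl⟩ := hq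
    exact ⟨p₀ + q₀, p₁ + q₁, p₂ + q₂, p₃ + q₃, by simp only [map_add]; ring⟩
  | mul_X p i hp =>
    obtain ⟨p₀, p₁, p₂, p₃, rfl⟩ := hp
    have hi : i = 0 ∨ i = 1 := by fin_cases i <;> simp
    rcases hi with rfl | rfl
    · exact ⟨X 0 * p₁, p₀, X 0 * p₃, p₂, by simp only [map_mul, expand_X]; ring⟩
    · exact ⟨X 1 * p₂, X 1 * p₃, p₀, p₁, by simp only [map_mul, expand_X]; ring⟩

theorem parity_indep (h2 : (2 : R) = 0) {A B C' E : MvPolynomial (Fin 2) R}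
    (H : expand 2 A + X 0 * expand 2 B + X 1 * expand 2 C' + X 0 * X 1 * expand 2 E = 0) :
    A = 0 ∧ B = 0 ∧ C' = 0 ∧ E = 0 := by
  have hd : ∀ (i : Fin 2) (q : MvPolynomial (Fin 2) R), pderiv i (expand 2 q) = 0 :=
    fun i q => deriv_expand_two h2 (pderiv i) q
  have h01 : pderiv (0 : Fin 2) (X 1 : MvPolynomial (Fin 2) R) = 0 :=
    pderiv_X_of_ne (by decide)
  have h10 : pderiv (1 : Fin 2) (X 0 : MvPolynomial (Fin 2) R) = 0 :=
    pderiv_X_of_ne (by decide)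
  have H0 := congrArg (pderiv (0 : Fin 2)) H
  simp only [map_add, pderiv_mul, hd, pderiv_X_self, h01, map_zero, mul_zero, zero_mul,
    add_zero, zero_add, one_mul] at H0
  have H1 := congrArg (pderiv (1 : Fin 2)) H
  simp only [map_add, pderiv_mul, hd, pderiv_X_self, h10, map_zero, mul_zero, zero_mul,
    add_zero, zero_add, one_mul, mul_one] at H1
  have H01 := congrArg (pderiv (1 : Fin 2)) H0
  simp only [map_add, pderiv_mul, hd, pderiv_X_self, map_zero, mul_zero, zero_mul,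
    add_zero, zero_add, one_mul] at H01
  have hE : E = 0 := (expand_eq_zero (by norm_num)).mp H01
  rw [hE, map_zero, mul_zero, add_zero] at H0 H1
  have hB : B = 0 := (expand_eq_zero (by norm_num)).mp H0
  have hC : C' = 0 := (expand_eq_zero (by norm_num)).mp H1
  rw [hE, hB, hC, map_zero, mul_zero, mul_zero, mul_zero, add_zero, add_zero, add_zero] at H
  exact ⟨(expand_eq_zero (by norm_num)).mp H, hB, hC, hE⟩

theorem aeval_rename_castSucc (g : MvPolynomial (Fin 2) R) (q : MvPolynomial (Fin 2) R) :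
    aeval (R := R) (S₁ := MvPolynomial (Fin 2) R) ![X 0 ^ 2, X 1 ^ 2, g]
      (rename Fin.castSucc q) = expand 2 q := by
  rw [aeval_rename]
  have h : (aeval (R := R) ((![X 0 ^ 2, X 1 ^ 2, g] : Fin 3 → MvPolynomial (Fin 2) R) ∘
      Fin.castSucc) : MvPolynomial (Fin 2) R →ₐ[R] MvPolynomial (Fin 2) R) = expand 2 := by
    apply algHom_ext
    intro i
    have hi : i = 0 ∨ i = 1 := by fin_cases i <;> simp
    rcases hi with rfl | rfl <;> simp [expand_X]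
  rw [h]

theorem expand_two_mem_adjoin (s : Set (MvPolynomial (Fin 2) R))
    (h0 : (X 0 ^ 2 : MvPolynomial (Fin 2) R) ∈ s) (h1 : (X 1 ^ 2 : MvPolynomial (Fin 2) R) ∈ s)
    (q : MvPolynomial (Fin 2) R) : expand 2 q ∈ Algebra.adjoin R s := by
  induction q using MvPolynomial.induction_on with
  | C r => rw [expand_C, ← algebraMap_eq]; exact Subalgebra.algebraMap_mem _ r
  | add p q hp hq => rw [map_add]; exact Subalgebra.add_mem _ hp hq
  | mul_X p i hp =>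
    rw [map_mul, expand_X]
    refine Subalgebra.mul_mem _ hp (Algebra.subset_adjoin ?_)
    have hi : i = 0 ∨ i = 1 := by fin_cases i <;> simp
    rcases hi with rfl | rfl <;> assumption

/-- Kernel of `R[a,b,c] → R[u,v]`, `a ↦ u²`, `b ↦ v²`, `c ↦ g = u α(u²,v²) + v β + uv γ`. -/
theorem ker_aeval_eq_span (h2 : (2 : R) = 0) (α β γ : MvPolynomial (Fin 2) R)
    (hγ : ∀ p : MvPolynomial (Fin 2) R, p * γ = 0 → p = 0)
    (g : MvPolynomial (Fin 2) R)
    (hg : g = X 0 * expand 2 α + X 1 * expand 2 β + X 0 * X 1 * expand 2 γ)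
    (F : MvPolynomial (Fin 3) R)
    (hF : F = X 2 ^ 2 + rename Fin.castSucc (X 0 * α ^ 2 + X 1 * β ^ 2 + X 0 * X 1 * γ ^ 2)) :
    RingHom.ker (aeval (R := R) (S₁ := MvPolynomial (Fin 2) R) ![X 0 ^ 2, X 1 ^ 2, g]) =
      Ideal.span {F} := by
  have h2' := two_eq_zero_mvPoly h2 (Fin 2)
  have hφj := aeval_rename_castSucc g
  have hφc : aeval (R := R) (S₁ := MvPolynomial (Fin 2) R) ![X 0 ^ 2, X 1 ^ 2, g] (X 2) = g := by
    simp
  have hφF : aeval (R := R) (S₁ := MvPolynomial (Fin 2) R) ![X 0 ^ 2, X 1 ^ 2, g] F = 0 := by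
    rw [hF, map_add, map_pow, hφc, hφj, hg]
    simp only [map_add, map_mul, map_pow, expand_X]
    linear_combination (X 0 ^ 2 * expand 2 α ^ 2 + X 1 ^ 2 * expand 2 β ^ 2 +
      X 0 ^ 2 * X 1 ^ 2 * expand 2 γ ^ 2 + X 0 * expand 2 α * (X 1 * expand 2 β) +
      X 0 * expand 2 α * (X 0 * X 1 * expand 2 γ) +
      X 1 * expand 2 β * (X 0 * X 1 * expand 2 γ)) * h2'
  have hdiv : ∀ P : MvPolynomial (Fin 3) R, ∃ (Q : MvPolynomial (Fin 3) R)
      (p₀ p₁ : MvPolynomial (Fin 2) R),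
      P = Q * F + rename Fin.castSucc p₀ + rename Fin.castSucc p₁ * X 2 := by
    intro P
    induction P using MvPolynomial.induction_on with
    | C r => exact ⟨0, C r, 0, by simp⟩
    | add P P' hP hP' =>
      obtain ⟨Q, p₀, p₁, rfl⟩ := hP
      obtain ⟨Q', p₀', p₁', rfl⟩ := hP'
      exact ⟨Q + Q', p₀ + p₀', p₁ + p₁', by simp only [map_add]; ring⟩
    | mul_X P i hP =>
      obtain ⟨Q, p₀, p₁, rfl⟩ := hP
      have hi : i = 0 ∨ i = 1 ∨ i = 2 := by fin_cases i <;> simp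
      rcases hi with rfl | rfl | rfl
      · exact ⟨Q * X 0, X 0 * p₀, X 0 * p₁, by
          simp only [map_mul, rename_X, Fin.castSucc_zero]; ring⟩
      · exact ⟨Q * X 1, X 1 * p₀, X 1 * p₁, by
          simp only [map_mul, rename_X, Fin.castSucc_one]; ring⟩
      · refine ⟨Q * X 2 + rename Fin.castSucc p₁,
          -(p₁ * (X 0 * α ^ 2 + X 1 * β ^ 2 + X 0 * X 1 * γ ^ 2)), p₀, ?_⟩
        rw [hF]
        simp only [map_neg, map_mul]
        ring
  apply le_antisymm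
  · intro P hP
    rw [RingHom.mem_ker] at hP
    obtain ⟨Q, p₀, p₁, rfl⟩ := hdiv P
    rw [map_add, map_add, map_mul, map_mul, hφF, mul_zero, zero_add, hφj, hφj, hφc, hg] at hP
    have H : expand 2 p₀ + X 0 * expand 2 (p₁ * α) + X 1 * expand 2 (p₁ * β) +
        X 0 * X 1 * expand 2 (p₁ * γ) = 0 := by
      refine Eq.trans ?_ hP
      simp only [map_mul]; ring
    obtain ⟨h0, -, -, h3⟩ := parity_indep h2 H
    have h1 : p₁ = 0 := hγ p₁ h3
    rw [h0, h1, map_zero, zero_mul, add_zero, add_zero]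
    exact Ideal.mul_mem_left _ _ (Ideal.subset_span rfl)
  · rw [Ideal.span_le]
    intro x hx
    rw [Set.mem_singleton_iff] at hx
    rw [hx]
    exact hφF

theorem cusp_decomp {a : MvPolynomial (Fin 2) R}
    (ha : a ∈ Algebra.adjoin R
      ({X 0 ^ 2, X 0 ^ 3, X 1 ^ 2, X 1 ^ 3} : Set (MvPolynomial (Fin 2) R))) :
    ∃ P₀ Q₁ Q₂ Q₃ : MvPolynomial (Fin 2) R,
      a = expand 2 P₀ + X 0 ^ 3 * expand 2 Q₁ + X 1 ^ 3 * expand 2 Q₂ +
        X 0 ^ 3 * X 1 ^ 3 * expand 2 Q₃ := by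
  induction ha using Algebra.adjoin_induction with
  | mem x hx =>
    simp only [Set.mem_insert_iff, Set.mem_singleton_iff] at hx
    rcases hx with rfl | rfl | rfl | rfl
    · exact ⟨X 0, 0, 0, 0, by simp [expand_X]⟩
    · exact ⟨0, 1, 0, 0, by simp⟩
    · exact ⟨X 1, 0, 0, 0, by simp [expand_X]⟩
    · exact ⟨0, 0, 1, 0, by simp⟩
  | algebraMap r => exact ⟨C r, 0, 0, 0, by simp [MvPolynomial.algebraMap_eq]⟩
  | add x y hx hy ihx ihy =>
    obtain ⟨P₀, Q₁, Q₂, Q₃, rfl⟩ := ihx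
    obtain ⟨P₀', Q₁', Q₂', Q₃', rfl⟩ := ihy
    exact ⟨P₀ + P₀', Q₁ + Q₁', Q₂ + Q₂', Q₃ + Q₃', by simp only [map_add]; ring⟩
  | mul x y hx hy ihx ihy =>
    obtain ⟨P₀, Q₁, Q₂, Q₃, rfl⟩ := ihx
    obtain ⟨P₀', Q₁', Q₂', Q₃', rfl⟩ := ihy
    refine ⟨P₀ * P₀' + X 0 ^ 3 * Q₁ * Q₁' + X 1 ^ 3 * Q₂ * Q₂' + X 0 ^ 3 * X 1 ^ 3 * Q₃ * Q₃',
      P₀ * Q₁' + Q₁ * P₀' + X 1 ^ 3 * (Q₂ * Q₃' + Q₃ * Q₂'),
      P₀ * Q₂' + Q₂ * P₀' + X 0 ^ 3 * (Q₁ * Q₃' + Q₃ * Q₁'),
      P₀ * Q₃' + Q₃ * P₀' + Q₁ * Q₂' + Q₂ * Q₁', ?_⟩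
    simp only [map_add, map_mul, map_pow, expand_X]
    ring

end

end Groth.Agent.H65
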