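import Groth.Agent.H65.QC

/-!
# The chart square of a morphism representable by schemes over a scheme chart of the target
(helper65)
-/

set_option autoImplicit false
open CategoryTheory CategoryTheory.Limits AlgebraicGeometry Opposite
universe u

namespace Groth.Agent.H65.ChartSq

open FibCat Stk Groth.Agent.H32.FibProd Groth.Agent.H32.Fp2 Groth.Agent.H32.Fp3
  Groth.Agent.H32.Fp4 Groth.Agent.H32.SpBridge Groth.Agent.H32.PFacts
  Groth.Agent.H32.AlgStackEquiv Groth.Agent.H32.AtlasRep Groth.Agent.H32.SpComp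
  Groth.Agent.H32.StackOps Groth.Agent.H32.SectSt Groth.Agent.H32.Repr Groth.Agent.H32.PshFp
  Groth.Agent.H32.SpTrack Groth.Agent.H65.QC

variable {S : Scheme.{u}}

/-- Let `f : 𝒳 ⟶ 𝒴` be representable by schemes with `Q` (`RepByAlgSpWith (RepWith Q)`) and
`y : (Sch/V) ⟶ 𝒴` smooth (and surjective).  Then the base change of `f` to `V` is a scheme `U`
with `h : U ⟶ V` in `Q`, and `x : (Sch/U) ⟶ 𝒳` is smooth (and surjective), with a 2-commutative
square. -/
theorem exists_chart_square {𝒳 𝒴 : AlgSt.Cat S} (h𝒳 : IsFibGrpd 𝒳.p) (h𝒴 : IsFibGrpd 𝒴.p)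
    (Q : MorphismProperty Scheme.{u}) (f : 𝒳 ⥤ᵇ 𝒴)
    (hf : AlgSt.RepByAlgSpWith (AlgSp.RepWith Q) f)
    (V : Over S) (y : FibCat.overCat V ⥤ᵇ 𝒴)
    (hy1 : AlgSt.RepByAlgSpWith (AlgSp.LocP @Smooth) y)
    (hy2 : AlgSt.RepByAlgSpWith AlgSp.IsSurjectiveMor y) :
    ∃ (U : Over S) (x : FibCat.overCat U ⥤ᵇ 𝒳) (h : U ⟶ V)
      (_ : BasedFunctor.comp x f ≅ BasedFunctor.comp (AlgSt.overMap h) y),
      AlgSt.RepByAlgSpWith (AlgSp.LocP @Smooth) x ∧
        AlgSt.RepByAlgSpWith AlgSp.IsSurjectiveMor x ∧ Q h.left := by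
  obtain ⟨F, e, he, ha⟩ := hf V y
  obtain ⟨U, h, fst, sq⟩ := ha.rep (𝟙 ((AlgSp.yon S).obj V))
  have hQ : Q h.left := ha.property _ _ _ sq
  have hfst : IsIso fst := sq.isIso_fst_of_isIso
  obtain ⟨c1, c2⟩ := chart_of_isIso fst
  have hUg := Groth.Agent.S6411.over_isFibGrpd U
  have hVg := Groth.Agent.S6411.over_isFibGrpd V
  have hyf : IsFibGrpd (fp y f).p := fp_isFibGrpd y f hVg h𝒳 h𝒴
  have r1 : AlgSt.RepByAlgSpWith (AlgSp.LocP @Smooth) (BasedFunctor.comp e (fpSnd y f)) :=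
    with_precomp_equiv _ (ofSp_isFibGrpd F.obj) hyf h𝒳 e he _ (repByAlgSpWith_fpSnd _ y f hy1)
  have r2 : AlgSt.RepByAlgSpWith AlgSp.IsSurjectiveMor (BasedFunctor.comp e (fpSnd y f)) :=
    with_precomp_equiv _ (ofSp_isFibGrpd F.obj) hyf h𝒳 e he _ (repByAlgSpWith_fpSnd _ y f hy2)
  -- the 2-cell
  have key : pointMap (BasedFunctor.comp (BasedFunctor.comp (BasedFunctor.comp (ofPoint fst.hom) e)
      (fpFst y f)) (AlgSt.ofOverCat V)) = ((AlgSp.yon S).map h).hom := by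
    have h1 : pointMap (BasedFunctor.comp (BasedFunctor.comp (BasedFunctor.comp (ofPoint fst.hom) e)
        (fpFst y f)) (AlgSt.ofOverCat V)) =
        pshMapOf (BasedFunctor.comp (Stk.ofPshMap fst.hom)
          (BasedFunctor.comp (BasedFunctor.comp e (fpFst y f)) (AlgSt.ofOverCat V))) := rfl
    rw [h1, pshMapOf_comp, pshMapOf_ofPshMap, ← spMapOfOver_hom]
    have h2 : (fst ≫ AlgSt.spMapOfOver (BasedFunctor.comp e (fpFst y f))).hom =
        ((AlgSp.yon S).map h ≫ 𝟙 _).hom := congrArg (fun t => t.hom) sq.w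
    rw [Category.comp_id] at h2
    exact h2
  obtain ⟨β₁⟩ := pointMap_iso (BasedFunctor.comp (BasedFunctor.comp
    (BasedFunctor.comp (ofPoint fst.hom) e) (fpFst y f)) (AlgSt.ofOverCat V))
  rw [key] at β₁
  have β : BasedFunctor.comp (BasedFunctor.comp (ofPoint fst.hom) e) (fpFst y f) ≅
      AlgSt.overMap h := (whiskerRightIso β₁ (AlgSt.toOverCat V)).symm
  have α : BasedFunctor.comp (BasedFunctor.comp (ofPoint fst.hom) (BasedFunctor.comp e (fpSnd y f))) f ≅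
      BasedFunctor.comp (AlgSt.overMap h) y :=
    (whiskerLeftIso (BasedFunctor.comp (ofPoint fst.hom) e) (fpIso y f).symm) ≪≫
      whiskerRightIso β y
  exact ⟨U, BasedFunctor.comp (ofPoint fst.hom) (BasedFunctor.comp e (fpSnd y f)), h, α,
    with_comp good_smooth hUg (ofSp_isFibGrpd F.obj) h𝒳 _ _ c1 r1,
    with_comp good_surjective hUg (ofSp_isFibGrpd F.obj) h𝒳 _ _ c2 r2, hQ⟩

end Groth.Agent.H65.ChartSq
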