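import Groth.Agent.H65.FieldMono
import Groth.Agent.H52.RedField
import Groth.Agent.H51.Reduced

/-!
# Reduced one-point algebraic stacks and field points (helper65)
-/

set_option autoImplicit false
open CategoryTheory CategoryTheory.Limits AlgebraicGeometry Opposite
universe u

namespace Groth.Agent.H65.FieldRed

open FibCat Stk Groth.Agent.H32.FibProd Groth.Agent.H32.Fp2 Groth.Agent.H32.Fp3
  Groth.Agent.H32.Fp4 Groth.Agent.H32.SpBridge Groth.Agent.H32.PFacts
  Groth.Agent.H32.AlgStackEquiv Groth.Agent.H32.AtlasRep Groth.Agent.H32.SpComp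
  Groth.Agent.H32.StackOps Groth.Agent.H32.SectSt Groth.Agent.H32.Repr Groth.Agent.H32.SpTrack
  Groth.Agent.H32.PshFp Groth.Agent.H32.Sect Groth.Agent.H32.DiagDescent Groth.Agent.H32.Cover
  Groth.Agent.H32.DiagRep Groth.Agent.H32.GoodMore Groth.Agent.H32.DiagApps
  Groth.Agent.H65.QC Groth.Agent.H65.SpMaps Groth.Agent.H65.LocQ Groth.Agent.H65.DiagLfp
  Groth.Agent.H65.LocQDesc Groth.Agent.H65.LocQPts Groth.Agent.H65.LocQRep
  Groth.Agent.H65.LocQCover Groth.Agent.H65.LocQIso Groth.Agent.H65.LocQBase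
  Groth.Agent.H65.LocQLift Groth.Agent.H65.SmoothST Groth.Agent.H65.OverYoneda
  Groth.Agent.H32.StPoints Groth.Agent.H32.StTop Groth.Agent.H65.FieldChart
  Groth.Agent.H65.FieldMono

variable {S : Scheme.{u}} {𝒵 : AlgSt.Cat S}

/-- a smooth surjective scheme chart of the fibre product of two scheme charts of an algebraic
stack, with the two induced morphisms of schemes. -/
theorem exists_fp_chart (h𝒵 : AlgSt.IsAlgStack Scheme.fppfPrecoverage 𝒵) {U K : Over S}
    (x : FibCat.overCat U ⥤ᵇ 𝒵) (z : FibCat.overCat K ⥤ᵇ 𝒵) :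
    ∃ (V : Over S) (g₁ : V ⟶ U) (g₂ : V ⟶ K),
      (∀ (P : MorphismProperty (AlgSp.Sp S)), Good P →
        (∀ ⦃X Y : AlgSp.Sp S⦄ (a : X ⟶ Y), AlgSp.LocP @Smooth a → P a) →
        AlgSt.RepByAlgSpWith P z → P ((AlgSp.yon S).map g₁)) ∧
      (∀ (P : MorphismProperty (AlgSp.Sp S)), Good P →
        (∀ ⦃X Y : AlgSp.Sp S⦄ (a : X ⟶ Y), AlgSp.LocP @Smooth a → P a) →
        AlgSt.RepByAlgSpWith P x → P ((AlgSp.yon S).map g₂)) ∧
      (AlgSt.RepByAlgSpWith AlgSp.IsSurjectiveMor z → Surjective g₁.left) := by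
  have iZ := h𝒵.isStack.1
  have hU := Groth.Agent.H65.LocQ.isAlgStack_overCat U
  have hK := Groth.Agent.H65.LocQ.isAlgStack_overCat K
  have iU := Groth.Agent.S6411.over_isFibGrpd U
  have iK := Groth.Agent.S6411.over_isFibGrpd K
  have h𝒲 : AlgSt.IsAlgStack Scheme.fppfPrecoverage (fp x z) :=
    Groth.Agent.H32.AlgStackFp.isAlgStack_fp iZ h𝒵.diag hU hK x z
  have iW := h𝒲.isStack.1
  obtain ⟨V, a, ha1, ha2⟩ := h𝒲.atlas
  have iV := Groth.Agent.S6411.over_isFibGrpd V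
  obtain ⟨g₁, ⟨β₁⟩⟩ := exists_overMap_iso (BasedFunctor.comp a (fpFst x z))
  obtain ⟨g₂, ⟨β₂⟩⟩ := exists_overMap_iso (BasedFunctor.comp a (fpSnd x z))
  refine ⟨V, g₁, g₂, fun P hG hsm hz => ?_, fun P hG hsm hx => ?_, fun hz => ?_⟩
  · have h1 : AlgSt.RepByAlgSpWith P (fpFst x z) := Groth.Agent.S12779.result iK iZ iU P z x hz
    have h2 : AlgSt.RepByAlgSpWith P (BasedFunctor.comp a (fpFst x z)) :=
      with_comp hG iV iW iU _ _ (with_imp hsm ha1) h1
    exact prop_of_with_overMap P hG.loc g₁ (with_of_iso P iV iU β₁.symm h2)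
  · have h1 : AlgSt.RepByAlgSpWith P (fpSnd x z) := repByAlgSpWith_fpSnd P x z hx
    have h2 : AlgSt.RepByAlgSpWith P (BasedFunctor.comp a (fpSnd x z)) :=
      with_comp hG iV iW iK _ _ (with_imp hsm ha1) h1
    exact prop_of_with_overMap P hG.loc g₂ (with_of_iso P iV iK β₂.symm h2)
  · have h1 : AlgSt.RepByAlgSpWith AlgSp.IsSurjectiveMor (fpFst x z) :=
      Groth.Agent.S12779.result iK iZ iU _ z x hz
    have h2 : AlgSt.RepByAlgSpWith AlgSp.IsSurjectiveMor (BasedFunctor.comp a (fpFst x z)) :=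
      with_comp good_surjective iV iW iU _ _ ha2 h1
    exact surjective_of_isSurjectiveMor g₁
      (prop_of_with_overMap _ good_surjective.loc g₁ (with_of_iso _ iV iU β₁.symm h2))

section field
variable {k : Type u} [Field k] (a : Spec (CommRingCat.of k) ⟶ S)
  (z : FibCat.overCat (Over.mk a) ⥤ᵇ 𝒵)

/-- an algebraic stack with a flat surjective morphism from the spectrum of a field is
reduced. -/
theorem reduced_of_fieldPt (h𝒵 : AlgSt.IsAlgStack Scheme.fppfPrecoverage 𝒵)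
    (hzs : AlgSt.RepByAlgSpWith AlgSp.IsSurjectiveMor z)
    (hzf : AlgSt.RepByAlgSpWith (AlgSp.LocP @Flat) z) :
    AlgSt.SmoothLocally (fun T => IsReduced T) 𝒵 := by
  intro U x hx
  obtain ⟨V, g₁, g₂, h1, h2, h3⟩ := exists_fp_chart h𝒵 x z
  have f1 : Flat g₁.left := AlgSp.locP_yon_map (h1 _ good_flat flat_of_smooth hzf)
  have f2 : Surjective g₁.left := h3 hzs
  have f3 : Smooth g₂.left := AlgSp.locP_yon_map (h2 _ good_smooth (fun _ _ _ h => h) hx)
  have r0 : IsReduced (Over.mk a).left :=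
    inferInstanceAs (IsReduced (Spec (CommRingCat.of k)))
  have r1 : IsReduced V.left := Groth.Agent.H51.isReduced_of_smooth g₂.left
  exact Groth.Agent.H52.isReduced_of_flat_of_surjective g₁.left

/-- an algebraic stack with a flat, locally finitely presented, surjective morphism from the
spectrum of a field is locally Noetherian. -/
theorem locNoeth_of_fieldPt (h𝒵 : AlgSt.IsAlgStack Scheme.fppfPrecoverage 𝒵)
    (hzp : AlgSt.RepByAlgSpWith (AlgSp.LocP @LocallyOfFinitePresentation) z)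
    (hzs : AlgSt.RepByAlgSpWith AlgSp.IsSurjectiveMor z)
    (hzf : AlgSt.RepByAlgSpWith (AlgSp.LocP @Flat) z) :
    AlgSt.SmoothLocally (fun T => IsLocallyNoetherian T) 𝒵 := by
  intro U x hx
  obtain ⟨V, g₁, g₂, h1, h2, h3⟩ := exists_fp_chart h𝒵 x z
  have f1 : Flat g₁.left := AlgSp.locP_yon_map (h1 _ good_flat flat_of_smooth hzf)
  have f1' : LocallyOfFinitePresentation g₁.left :=
    AlgSp.locP_yon_map (h1 _ good_lfp lfp_of_smooth hzp)
  have f2 : Surjective g₁.left := h3 hzs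
  have f3 : Smooth g₂.left := AlgSp.locP_yon_map (h2 _ good_smooth (fun _ _ _ h => h) hx)
  have r0 : IsLocallyNoetherian (Over.mk a).left :=
    inferInstanceAs (IsLocallyNoetherian (Spec (CommRingCat.of k)))
  have r1 : IsLocallyNoetherian V.left := LocallyOfFiniteType.isLocallyNoetherian g₂.left
  exact Groth.Agent.H52.isLocallyNoetherian_of_flat_surjective_open g₁.left g₁.left.isOpenMap

/-- an algebraic stack with a surjective morphism from the spectrum of a field has exactly one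
point. -/
theorem onePoint_of_fieldPt (h𝒵 : AlgSt.IsAlgStack Scheme.fppfPrecoverage 𝒵)
    (hzs : AlgSt.RepByAlgSpWith AlgSp.IsSurjectiveMor z) :
    Nonempty (AlgSt.Points 𝒵) ∧ Subsingleton (AlgSt.Points 𝒵) := by
  have hA := Groth.Agent.H65.LocQ.isAlgStack_overCat (Over.mk a)
  have hzS : AlgSt.IsSurjective z :=
    (Groth.Agent.S12819.result hA h𝒵 z (rep1_chart h𝒵 z)).mpr hzs
  have := subsingleton_points_field a
  let u : ↥(Over.mk a).left := (IsLocalRing.closedPoint k : PrimeSpectrum k)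
  exact ⟨⟨AlgSt.Points.ofChart z u⟩, hzS.subsingleton⟩

end field

/-- surjectivity of a field point of a one-point stack. -/
theorem surj_of_subsingleton (h𝒵 : AlgSt.IsAlgStack Scheme.fppfPrecoverage 𝒵)
    (hsub : Subsingleton (AlgSt.Points 𝒵)) {k : Type u} [Field k]
    (a : Spec (CommRingCat.of k) ⟶ S) (z : FibCat.overCat (Over.mk a) ⥤ᵇ 𝒵) :
    AlgSt.RepByAlgSpWith AlgSp.IsSurjectiveMor z := by
  have hA := Groth.Agent.H65.LocQ.isAlgStack_overCat (Over.mk a)
  refine (Groth.Agent.S12819.result hA h𝒵 z (rep1_chart h𝒵 z)).mp (fun y => ?_)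
  let u : ↥(Over.mk a).left := (IsLocalRing.closedPoint k : PrimeSpectrum k)
  exact ⟨ptOf (Over.mk a) u, Subsingleton.elim _ _⟩

/-- a reduced algebraic stack with exactly one point receives a surjective flat morphism from the
spectrum of a field. -/
theorem exists_flat_fieldPt (h𝒵 : AlgSt.IsAlgStack Scheme.fppfPrecoverage 𝒵)
    (hred : AlgSt.SmoothLocally (fun T => IsReduced T) 𝒵)
    (hne : Nonempty (AlgSt.Points 𝒵)) (hsub : Subsingleton (AlgSt.Points 𝒵)) :
    ∃ (k : Type u) (_ : Field k) (a : Spec (CommRingCat.of k) ⟶ S)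
      (z : FibCat.overCat (Over.mk a) ⥤ᵇ 𝒵),
      AlgSt.RepByAlgSpWith AlgSp.IsSurjectiveMor z ∧ AlgSt.RepByAlgSpWith (AlgSp.LocP @Flat) z := by
  have iZ := h𝒵.isStack.1
  obtain ⟨W, c, hc1, hc2⟩ := h𝒵.atlas
  have iW := Groth.Agent.S6411.over_isFibGrpd W
  have hredW : IsReduced W.left := hred W c hc1
  obtain ⟨p⟩ := hne
  obtain ⟨t, -⟩ := ofChart_surjective h𝒵 c hc2 p
  have hneW : Nonempty ↥W.left := ⟨t⟩
  obtain ⟨k, hk, g, hg⟩ := Groth.Agent.H52.exists_flat_field_point W.left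
  let β : Over.mk (g ≫ W.hom) ⟶ W := Over.homMk g rfl
  have hβ : Flat β.left := hg
  have iK := Groth.Agent.S6411.over_isFibGrpd (Over.mk (g ≫ W.hom))
  refine ⟨k, hk, g ≫ W.hom, BasedFunctor.comp (AlgSt.overMap β) c,
    surj_of_subsingleton h𝒵 hsub _ _, ?_⟩
  exact with_comp good_flat iK iW iZ _ _
    (with_overMap_of_prop _ good_flat.bc β (Groth.Agent.H52.locP_flat_yon_map β))
    (with_imp flat_of_smooth hc1)

theorem lft_of_smooth ⦃X Y : AlgSp.Sp S⦄ (a : X ⟶ Y) (h : AlgSp.LocP @Smooth a) :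
    AlgSp.LocP @LocallyOfFiniteType a :=
  Groth.Agent.H32.StPoints.locP_mono (fun _ _ g hg => by have : Smooth g := hg; infer_instance) a h

/-- a stack with a surjective flat field point has one which is moreover locally of finite
type. -/
theorem exists_lft_fieldPt (h𝒵 : AlgSt.IsAlgStack Scheme.fppfPrecoverage 𝒵)
    {k : Type u} [Field k] (a : Spec (CommRingCat.of k) ⟶ S)
    (z : FibCat.overCat (Over.mk a) ⥤ᵇ 𝒵)
    (hzs : AlgSt.RepByAlgSpWith AlgSp.IsSurjectiveMor z)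
    (hzf : AlgSt.RepByAlgSpWith (AlgSp.LocP @Flat) z) :
    ∃ (k' : Type u) (_ : Field k') (a' : Spec (CommRingCat.of k') ⟶ S)
      (z' : FibCat.overCat (Over.mk a') ⥤ᵇ 𝒵),
      AlgSt.RepByAlgSpWith (AlgSp.LocP @LocallyOfFiniteType) z' ∧
        AlgSt.RepByAlgSpWith AlgSp.IsSurjectiveMor z' ∧
        AlgSt.RepByAlgSpWith (AlgSp.LocP @Flat) z' := by
  have iZ := h𝒵.isStack.1
  obtain ⟨W, c, hc1, hc2⟩ := h𝒵.atlas
  have iW := Groth.Agent.S6411.over_isFibGrpd W
  obtain ⟨⟨p⟩, -⟩ := onePoint_of_fieldPt a z h𝒵 hzs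
  obtain ⟨u, -⟩ := ofChart_surjective h𝒵 c hc2 p
  obtain ⟨_, ⟨V, hV, rfl⟩, huV, -⟩ :=
    W.left.isBasis_affineOpens.exists_subset_of_mem_open (Set.mem_univ u) isOpen_univ
  obtain ⟨W', rfl⟩ : ∃ W' : W.left.Opens, W' = V := ⟨V, rfl⟩
  have hVaff : IsAffine W'.toScheme := hV
  have hne : (Set.univ : Set ↥W'.toScheme).Nonempty := ⟨⟨u, huV⟩, trivial⟩
  obtain ⟨v, -, hv⟩ := IsClosed.exists_closed_singleton isClosed_univ hne
  have hci : IsClosedImmersion (W'.toScheme.fromSpecResidueField v) := by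
    apply IsClosedImmersion.of_isPreimmersion
    rw [Scheme.range_fromSpecResidueField]
    exact hv
  let φ : Spec (W'.toScheme.residueField v) ⟶ W.left :=
    W'.toScheme.fromSpecResidueField v ≫ W'.ι
  have hφ : LocallyOfFiniteType φ := inferInstance
  let β : Over.mk (φ ≫ W.hom) ⟶ W := Over.homMk φ rfl
  have hβ : LocallyOfFiniteType β.left := hφ
  have iK := Groth.Agent.S6411.over_isFibGrpd (Over.mk (φ ≫ W.hom))
  have h1 : AlgSp.LocP @LocallyOfFiniteType ((AlgSp.yon S).map β) :=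
    Groth.Agent.H50.locP_of_repWith Groth.Agent.H50.goodProp_lft.{u}.etale
      ((AlgSp.repWith_yon_map_iff _ β).2 hβ)
  have h2 : AlgSt.RepByAlgSpWith (AlgSp.LocP @LocallyOfFiniteType)
      (BasedFunctor.comp (AlgSt.overMap β) c) :=
    with_comp good_lft iK iW iZ _ _ (with_overMap_of_prop _ good_lft.bc β h1)
      (with_imp lft_of_smooth hc1)
  obtain ⟨h3, h4⟩ := surj_flat_of_fieldPt h𝒵 a z hzs hzf (φ ≫ W.hom)
    (BasedFunctor.comp (AlgSt.overMap β) c)
  exact ⟨_, inferInstance, φ ≫ W.hom, BasedFunctor.comp (AlgSt.overMap β) c, h2, h3, h4⟩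

/-- a locally Noetherian stack with a surjective flat field point has one which is moreover
locally of finite presentation. -/
theorem exists_lfp_fieldPt (h𝒵 : AlgSt.IsAlgStack Scheme.fppfPrecoverage 𝒵)
    (hnoeth : AlgSt.SmoothLocally (fun T => IsLocallyNoetherian T) 𝒵)
    {k : Type u} [Field k] (a : Spec (CommRingCat.of k) ⟶ S)
    (z : FibCat.overCat (Over.mk a) ⥤ᵇ 𝒵)
    (hzs : AlgSt.RepByAlgSpWith AlgSp.IsSurjectiveMor z)
    (hzf : AlgSt.RepByAlgSpWith (AlgSp.LocP @Flat) z) :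
    ∃ (k' : Type u) (_ : Field k') (a' : Spec (CommRingCat.of k') ⟶ S)
      (z' : FibCat.overCat (Over.mk a') ⥤ᵇ 𝒵),
      AlgSt.RepByAlgSpWith (AlgSp.LocP @LocallyOfFinitePresentation) z' ∧
        AlgSt.RepByAlgSpWith AlgSp.IsSurjectiveMor z' ∧
        AlgSt.RepByAlgSpWith (AlgSp.LocP @Flat) z' := by
  have iZ := h𝒵.isStack.1
  obtain ⟨W, c, hc1, hc2⟩ := h𝒵.atlas
  have iW := Groth.Agent.S6411.over_isFibGrpd W
  have hnW : IsLocallyNoetherian W.left := hnoeth W c hc1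
  obtain ⟨⟨p⟩, -⟩ := onePoint_of_fieldPt a z h𝒵 hzs
  obtain ⟨u, -⟩ := ofChart_surjective h𝒵 c hc2 p
  have hneW : Nonempty ↥W.left := ⟨u⟩
  obtain ⟨k', hk', g, hg⟩ := Groth.Agent.H52.exists_lfp_field_point W.left
  let β : Over.mk (g ≫ W.hom) ⟶ W := Over.homMk g rfl
  have hβ : LocallyOfFinitePresentation β.left := hg
  have iK := Groth.Agent.S6411.over_isFibGrpd (Over.mk (g ≫ W.hom))
  have h1 : AlgSp.LocP @LocallyOfFinitePresentation ((AlgSp.yon S).map β) :=
    Groth.Agent.H50.locP_of_repWith (fun _ _ g hg => by have : Etale g := hg; infer_instance)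
      ((AlgSp.repWith_yon_map_iff _ β).2 hβ)
  have h2 : AlgSt.RepByAlgSpWith (AlgSp.LocP @LocallyOfFinitePresentation)
      (BasedFunctor.comp (AlgSt.overMap β) c) :=
    with_comp good_lfp iK iW iZ _ _ (with_overMap_of_prop _ good_lfp.bc β h1)
      (with_imp lfp_of_smooth hc1)
  obtain ⟨h3, h4⟩ := surj_flat_of_fieldPt h𝒵 a z hzs hzf (g ≫ W.hom)
    (BasedFunctor.comp (AlgSt.overMap β) c)
  exact ⟨k', hk', g ≫ W.hom, BasedFunctor.comp (AlgSt.overMap β) c, h2, h3, h4⟩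

end Groth.Agent.H65.FieldRed
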