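import Groth.Agent.H65.GerbeDesc
import Groth.Agent.H65.FieldRed
import Groth.Agent.S12868
import Groth.Agent.H32.SubStk

/-!
# Surjective closed immersions into reduced algebraic stacks (helper65)
-/

set_option autoImplicit false
open CategoryTheory CategoryTheory.Limits AlgebraicGeometry Opposite
universe u

namespace Groth.Agent.H65.ClosedRed

open FibCat Stk Groth.Agent.H32.FibProd Groth.Agent.H32.Fp2 Groth.Agent.H32.Fp3
  Groth.Agent.H32.Fp4 Groth.Agent.H32.SpBridge Groth.Agent.H32.PFacts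
  Groth.Agent.H32.AlgStackEquiv Groth.Agent.H32.AtlasRep Groth.Agent.H32.SpComp
  Groth.Agent.H32.StackOps Groth.Agent.H32.SectSt Groth.Agent.H32.Repr Groth.Agent.H32.SpTrack
  Groth.Agent.H32.PshFp Groth.Agent.H32.Sect Groth.Agent.H32.DiagDescent Groth.Agent.H32.Cover
  Groth.Agent.H32.DiagRep Groth.Agent.H32.GoodMore Groth.Agent.H32.DiagApps
  Groth.Agent.H65.QC Groth.Agent.H65.SpMaps Groth.Agent.H65.LocQ Groth.Agent.H65.DiagLfp
  Groth.Agent.H65.LocQDesc Groth.Agent.H65.LocQPts Groth.Agent.H65.LocQRep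
  Groth.Agent.H65.LocQCover Groth.Agent.H65.LocQIso Groth.Agent.H65.LocQBase
  Groth.Agent.H65.LocQLift Groth.Agent.H65.SmoothST Groth.Agent.H65.OverYoneda
  Groth.Agent.H32.StPoints Groth.Agent.H32.StTop Groth.Agent.H65.FieldChart
  Groth.Agent.H65.FieldMono Groth.Agent.H65.GerbeDesc

variable {S : Scheme.{u}}

/-- a surjective closed immersion of a sheaf into a reduced scheme is an isomorphism. -/
theorem isIso_of_closedImm_surj_reduced {F : AlgSp.Sp S} {U : Over S}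
    (m : F ⟶ (AlgSp.yon S).obj U) (h1 : AlgSp.RepWith @IsClosedImmersion m)
    (h2 : AlgSp.IsSurjectiveMor m) (hU : IsReduced U.left) : IsIso m := by
  have sq := h1.rep.isPullback (𝟙 ((AlgSp.yon S).obj U))
  have hfst : IsIso (h1.rep.fst (𝟙 ((AlgSp.yon S).obj U))) := sq.isIso_fst_of_isIso
  have hci : IsClosedImmersion (h1.rep.snd (𝟙 ((AlgSp.yon S).obj U))).left :=
    h1.property_snd (𝟙 ((AlgSp.yon S).obj U))
  have hs : AlgSp.IsSurjectiveMor ((AlgSp.yon S).map (h1.rep.snd (𝟙 ((AlgSp.yon S).obj U)))) :=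
    Groth.Agent.H50.isSurjectiveMor_baseChange sq h2
  have hs' : Surjective (h1.rep.snd (𝟙 ((AlgSp.yon S).obj U))).left :=
    surjective_of_isSurjectiveMor _ hs
  have hiso : IsIso (h1.rep.snd (𝟙 ((AlgSp.yon S).obj U))).left :=
    isIso_of_isClosedImmersion_of_surjective _
  have hiso' : IsIso (h1.rep.snd (𝟙 ((AlgSp.yon S).obj U))) := by
    have h3 : IsIso ((Over.forget S).map (h1.rep.snd (𝟙 ((AlgSp.yon S).obj U)))) := hiso
    exact isIso_of_reflects_iso _ (Over.forget S)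
  have e : m = inv (h1.rep.fst (𝟙 ((AlgSp.yon S).obj U))) ≫
      (AlgSp.yon S).map (h1.rep.snd (𝟙 ((AlgSp.yon S).obj U))) := by
    rw [IsIso.eq_inv_comp]
    have := sq.w
    rw [Category.comp_id] at this
    exact this
  rw [e]
  infer_instance

theorem lift_comp {C D : Type*} [Category C] [Category D] (p : D ⥤ C) {a b c : D}
    (φ : a ⟶ b) (ψ : b ⟶ c) {R T T' : C} (f : R ⟶ T) (g : T ⟶ T') (h1 : p.IsHomLift f φ)
    (h2 : p.IsHomLift g ψ) : p.IsHomLift (f ≫ g) (φ ≫ ψ) := inferInstance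

/-- a monomorphism of algebraic stacks is an equivalence as soon as a surjective flat lfp chart of
the target lifts to the source. -/
theorem isEquivOver_of_mono_section {𝒵' 𝒵 : AlgSt.Cat S}
    (h𝒵' : AlgSt.IsAlgStack Scheme.fppfPrecoverage 𝒵')
    (h𝒵 : AlgSt.IsAlgStack Scheme.fppfPrecoverage 𝒵) (f : 𝒵' ⥤ᵇ 𝒵) (hf : AlgSt.IsMono f)
    {K : Over S} (z : FibCat.overCat K ⥤ᵇ 𝒵) (hz₁ : AlgSt.IsSurjective z)
    (hz₂ : AlgSt.LocQ (AlgSp.LocP @Flat) z)
    (hz₃ : AlgSt.LocQ (AlgSp.LocP @LocallyOfFinitePresentation) z)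
    (s : FibCat.overCat K ⥤ᵇ 𝒵') (σ : BasedFunctor.comp s f ≅ z) : FibCat.IsEquivOver f := by
  have iZ := h𝒵.isStack.1
  have iZ' := h𝒵'.isStack.1
  have hA := Groth.Agent.H65.LocQ.isAlgStack_overCat K
  obtain ⟨hfull, hfaith⟩ := Groth.Agent.S12774.result iZ' iZ f hf
  rw [Groth.Agent.S12794.result (QuotSh.J Scheme.fppfPrecoverage S) h𝒵'.isStack h𝒵.isStack f]
  intro y
  obtain ⟨W, w, y', τ, h1, h2, h3, h4⟩ := exists_fppf_lift hA h𝒵 z hz₁ hz₂ hz₃ y
  refine ⟨Sieve.generate (Presieve.singleton w), ?_, ?_⟩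
  · refine Groth.Agent.H50.mem_J_of_fppf_family (fun _ : PUnit.{1} => W) (fun _ => w)
      (fun τ' => ?_) (fun _ => h1) (fun _ => h2) _
      (fun _ => ⟨W, 𝟙 W, w, Presieve.singleton.mk, Category.id_comp w⟩)
    obtain ⟨t, ht⟩ := h3 τ'
    exact ⟨PUnit.unit, t, ht⟩
  · intro V v hv
    obtain ⟨Y, k, w', hw', rfl⟩ := hv
    cases hw'
    have hW : 𝒵'.p.obj (s.obj y') = W :=
      (s.w_obj y').trans (((z.w_obj y').symm).trans (IsHomLift.domain_eq 𝒵.p w τ))
    obtain ⟨x₁, φ₁, hφ₁⟩ := exists_lift_of_eq 𝒵'.p iZ' hW k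
    have l1 : 𝒵.p.IsHomLift k (f.map φ₁) := inferInstance
    have l2 : 𝒵.p.IsHomLift (𝟙 W) (appIso σ y').hom :=
      isHomLift_id_congr _ _ (((z.w_obj y').symm).trans (IsHomLift.domain_eq 𝒵.p w τ))
        (appIso_isHomLift σ y')
    refine ⟨x₁, f.map φ₁ ≫ (appIso σ y').hom ≫ τ, ?_⟩
    have l3 : 𝒵.p.IsHomLift w ((appIso σ y').hom ≫ τ) := lift_id_comp _ _ _ _ l2 h4
    exact lift_comp _ _ _ _ _ l1 l3

/-- a surjective closed immersion into a reduced algebraic stack is an equivalence. -/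
theorem isEquivOver_of_closedImm_surj_reduced {𝒵' 𝒴 : AlgSt.Cat S}
    (h𝒵' : AlgSt.IsAlgStack Scheme.fppfPrecoverage 𝒵')
    (h𝒴 : AlgSt.IsAlgStack Scheme.fppfPrecoverage 𝒴) (j : 𝒵' ⥤ᵇ 𝒴) (hj : AlgSt.IsClosedImm j)
    (hs : AlgSt.IsSurjective j) (hred : AlgSt.SmoothLocally (fun X => IsReduced X) 𝒴) :
    FibCat.IsEquivOver j := by
  have iY := h𝒴.isStack.1
  have iZ' := h𝒵'.isStack.1
  obtain ⟨U, u, hu1, hu2⟩ := h𝒴.atlas
  have hU : IsReduced U.left := hred U u hu1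
  have hA := Groth.Agent.H65.LocQ.isAlgStack_overCat U
  have hmono : AlgSt.IsMono j := Groth.Agent.S12868.result j
    (with_imp (fun _ _ a ha => MorphismProperty.relative_monotone
      (P := MorphismProperty.inverseImage @IsClosedImmersion (Over.forget S))
      (P' := MorphismProperty.inverseImage @IsImmersion (Over.forget S))
      (fun (X Y : Over S) (g : X ⟶ Y) (hg : IsClosedImmersion g.left) =>
        (inferInstance : IsImmersion g.left)) _ ha) hj)
  have hsurj' : AlgSt.RepByAlgSpWith AlgSp.IsSurjectiveMor j :=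
    (Groth.Agent.S12819.result h𝒵' h𝒴 j (rep1_of_with hj)).mp hs
  have both : AlgSt.RepByAlgSpWith (AlgSp.RepWith @IsClosedImmersion ⊓ AlgSp.IsSurjectiveMor) j :=
    Groth.Agent.H32.DiagDict.with_inf (fun _ _ _ i a ha => isSurjectiveMor_iso_comp i a ha) hj hsurj'
  obtain ⟨F, e, he, hCI, hSurj⟩ := both U u
  have hI := isIso_of_closedImm_surj_reduced _ hCI hSurj hU
  have hI' : IsIso (AlgSt.spMapOfOver (BasedFunctor.comp e (fpFst u j))).hom := by
    have h4 : IsIso ((sheafToPresheaf _ _).map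
      (AlgSt.spMapOfOver (BasedFunctor.comp e (fpFst u j)))) := inferInstance
    exact h4
  have hΦ : IsEquivOver (BasedFunctor.comp e (fpFst u j)) :=
    isEquivOver_of_isIso_spMapOfOver _ hI'
  obtain ⟨e', he', -, ⟨β⟩⟩ := exists_inv_isEquivOver he
  have h1 : IsEquivOver (BasedFunctor.comp e' (BasedFunctor.comp e (fpFst u j))) :=
    isEquivOver_comp e' _ he' hΦ
  have hΨ : IsEquivOver (fpFst u j) :=
    isEquivOver_of_iso (F := BasedFunctor.comp (BasedFunctor.comp e' e) (fpFst u j))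
      (whiskerRightIso β (fpFst u j)) h1
  obtain ⟨Ψ', hΨ', -, ⟨γ⟩⟩ := exists_inv_isEquivOver hΨ
  obtain ⟨s, hs'⟩ : ∃ s : FibCat.overCat U ⥤ᵇ 𝒵', s = BasedFunctor.comp Ψ' (fpSnd u j) :=
    ⟨_, rfl⟩
  have σ : BasedFunctor.comp s j ≅ u := by
    rw [hs']
    exact (whiskerLeftIso Ψ' (fpIso u j).symm) ≪≫ (whiskerRightIso γ u)
  have huS : AlgSt.IsSurjective u :=
    (Groth.Agent.S12819.result hA h𝒴 u (rep1_chart h𝒴 u)).mpr hu2
  exact isEquivOver_of_mono_section h𝒵' h𝒴 j hmono u huS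
    (locQ_chart isSmoothLocalST_flat good_flat flat_of_smooth h𝒴 u hu1)
    (locQ_chart isSmoothLocalST_lfp good_lfp lfp_of_smooth h𝒴 u hu1) s σ

end Groth.Agent.H65.ClosedRed
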