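import Groth.Agent.H65.GerbeSect
import Groth.Agent.S5139

/-!
# The automorphism group scheme of a section of a gerbe (helper65)

For a point `x : (Sch/U) ⟶ 𝒳` with a retraction `π` and a group scheme `G` over `U` representing the
automorphisms of `x`, the slice category of the total space of `G` is equivalent to `U ×_𝒳 U`.
-/

set_option autoImplicit false
open CategoryTheory CategoryTheory.Limits AlgebraicGeometry Opposite MonObj
universe u

namespace Groth.Agent.H65.GerbeAut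

open FibCat Stk Groth.Agent.H32.FibProd Groth.Agent.H32.Fp2 Groth.Agent.H32.Fp3
  Groth.Agent.H32.Fp4 Groth.Agent.H32.SpBridge Groth.Agent.H32.PFacts
  Groth.Agent.H32.SpComp Groth.Agent.H32.StackOps Groth.Agent.H32.SpTrack
  Groth.Agent.H32.PshFp Groth.Agent.H65.FieldMono

variable {S : Scheme.{u}} (U : Over S) (G : Over U.left) [GrpObj G]

/-- the total space of `G` as a scheme over `S`. -/
def GU : Over S := Over.mk (G.hom ≫ U.hom)

/-- the structure morphism of `G`, over `S`. -/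
def gU : GU U G ⟶ U := Over.homMk G.hom rfl

/-- the tautological point of `G` over an object of `(Sch/G)`. -/
def ptOf (t : (FibCat.overCat (GU U G)).obj) :
    (Gerb.ptsGrp U G).obj (op ((AlgSt.overMap (gU U G)).obj t)) :=
  (Over.homMk t.hom.left rfl :
    (Over.iteratedSliceForward U).obj ((AlgSt.overMap (gU U G)).obj t) ⟶ G)

theorem ptsGrp_map_apply {T' T : (FibCat.overCat U).obj} (h : T' ⟶ T)
    (a : (Gerb.ptsGrp U G).obj (op T)) :
    (Gerb.ptsGrp U G).map h.op a =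
      ((Over.iteratedSliceForward U).map h ≫ (a : (Over.iteratedSliceForward U).obj T ⟶ G) :
        (Over.iteratedSliceForward U).obj T' ⟶ G) := rfl

theorem ptOf_map {t' t : (FibCat.overCat (GU U G)).obj} (k : t' ⟶ t) :
    (Gerb.ptsGrp U G).map ((AlgSt.overMap (gU U G)).map k).op (ptOf U G t) = ptOf U G t' := by
  refine (ptsGrp_map_apply U G _ _).trans ?_
  apply Over.OverMorphism.ext
  have := congrArg CommaMorphism.left (Over.w k)
  exact this

variable {U G} {𝒳 : AlgSt.Cat S}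

/-- an automorphism over the identity, as an isomorphism of `𝒳`. -/
def autIso {ξ : 𝒳.obj} (α : Gerb.AutO ξ) : ξ ≅ ξ :=
  (Functor.Fiber.fiberInclusion (p := 𝒳.p) (S := 𝒳.p.obj ξ)).mapIso α

theorem autIso_isHomLift {ξ : 𝒳.obj} (α : Gerb.AutO ξ) :
    𝒳.p.IsHomLift (𝟙 (𝒳.p.obj ξ)) (autIso α).hom := α.hom.2

variable (x : FibCat.overCat U ⥤ᵇ 𝒳) (r : Gerb.AutRep x (Gerb.ptsGrp U G))

/-- the tautological automorphism of the restriction of `x` to the total space of `G`. -/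
noncomputable def tautIso : BasedFunctor.comp (AlgSt.overMap (gU U G)) x ≅
    BasedFunctor.comp (AlgSt.overMap (gU U G)) x :=
  BasedNatIso.mkNatIso
    (NatIso.ofComponents (fun t => autIso (r.iso ((AlgSt.overMap (gU U G)).obj t) (ptOf U G t)))
      (fun {t' t} k => by
        have h := r.natural ((AlgSt.overMap (gU U G)).map k) (ptOf U G t)
        have e := ptOf_map U G k
        have h' : (r.iso ((AlgSt.overMap (gU U G)).obj t') (ptOf U G t')).hom.1 ≫
            x.map ((AlgSt.overMap (gU U G)).map k) =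
            x.map ((AlgSt.overMap (gU U G)).map k) ≫
              (r.iso ((AlgSt.overMap (gU U G)).obj t) (ptOf U G t)).hom.1 := by
          rw [← e]; exact h
        exact h'.symm))
    (fun t => isHomLift_id_of_eq 𝒳.p (x.w_obj ((AlgSt.overMap (gU U G)).obj t)) _
      (autIso_isHomLift _))

/-- the comparison functor `(Sch/G) ⟶ U ×_𝒳 U`. -/
noncomputable def cmp : FibCat.overCat (GU U G) ⥤ᵇ fp x x :=
  FibCat.fpLift (AlgSt.overMap (gU U G)) (AlgSt.overMap (gU U G)) (tautIso x r)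

theorem cmp_fst : BasedFunctor.comp (cmp x r) (fpFst x x) = AlgSt.overMap (gU U G) := rfl

theorem cmp_faithful : (cmp x r).toFunctor.Faithful := by
  refine ⟨fun {t' t} k k' h => ?_⟩
  have h1 : (AlgSt.overMap (gU U G)).map k = (AlgSt.overMap (gU U G)).map k' :=
    congrArg (fun m => m.hom.fst) h
  have h2 := congrArg CommaMorphism.left h1
  exact Over.OverMorphism.ext h2

theorem cmp_full (iX : IsFibGrpd 𝒳.p) : (cmp x r).toFunctor.Full := by
  refine ⟨fun {t' t} m => ?_⟩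
  -- the two components of `m` agree
  have hfs : m.hom.fst = m.hom.snd := by
    have h1 : (FibCat.overCat U).p.IsHomLift ((fp x x).p.map m) m.hom.snd := inferInstance
    have h2 := IsHomLift.fac' (FibCat.overCat U).p ((fp x x).p.map m) m.hom.snd
    apply Over.OverMorphism.ext
    have h3 : Over.Hom.left m.hom.snd = 𝟙 _ ≫ Over.Hom.left m.hom.fst ≫ 𝟙 _ := h2
    rw [h3, Category.id_comp, Category.comp_id]
  have sc : 𝒳.p.IsStronglyCartesian ((FibCat.overCat U).p.map m.hom.fst) (x.map m.hom.fst) :=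
    sc_of_isFibGrpd 𝒳.p iX _ _
  obtain ⟨a₁, ha₁⟩ : ∃ a₁ : Gerb.AutO (x.obj ((AlgSt.overMap (gU U G)).obj t')),
      a₁ = r.iso ((AlgSt.overMap (gU U G)).obj t')
        ((Gerb.ptsGrp U G).map m.hom.fst.op (ptOf U G t)) := ⟨_, rfl⟩
  obtain ⟨a₂, ha₂⟩ : ∃ a₂ : Gerb.AutO (x.obj ((AlgSt.overMap (gU U G)).obj t')),
      a₂ = r.iso ((AlgSt.overMap (gU U G)).obj t') (ptOf U G t') := ⟨_, rfl⟩
  obtain ⟨ψ₁, hψ₁⟩ : ∃ ψ₁ : x.obj ((cmp x r).obj t').obj.fst ⟶ x.obj ((cmp x r).obj t').obj.fst,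
      ψ₁ = a₁.hom.1 := ⟨_, rfl⟩
  obtain ⟨ψ₂, hψ₂⟩ : ∃ ψ₂ : x.obj ((cmp x r).obj t').obj.fst ⟶ x.obj ((cmp x r).obj t').obj.fst,
      ψ₂ = a₂.hom.1 := ⟨_, rfl⟩
  have l₁ : 𝒳.p.IsHomLift (𝟙 ((FibCat.overCat U).p.obj ((cmp x r).obj t').obj.fst)) ψ₁ := by
    rw [hψ₁]; exact isHomLift_id_of_eq 𝒳.p (x.w_obj _) _ a₁.hom.2
  have l₂ : 𝒳.p.IsHomLift (𝟙 ((FibCat.overCat U).p.obj ((cmp x r).obj t').obj.fst)) ψ₂ := by
    rw [hψ₂]; exact isHomLift_id_of_eq 𝒳.p (x.w_obj _) _ a₂.hom.2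
  have key : ψ₁ ≫ x.map m.hom.fst = ψ₂ ≫ x.map m.hom.fst := by
    have nat : a₁.hom.1 ≫ x.map m.hom.fst = x.map m.hom.fst ≫
        (r.iso ((AlgSt.overMap (gU U G)).obj t) (ptOf U G t)).hom.1 := by
      rw [ha₁]; exact r.natural m.hom.fst (ptOf U G t)
    have hw : x.map m.hom.fst ≫ (r.iso ((AlgSt.overMap (gU U G)).obj t) (ptOf U G t)).hom.1 =
        a₂.hom.1 ≫ x.map m.hom.snd := by
      rw [ha₂]; exact m.hom.w
    rw [hψ₁, hψ₂]
    refine (nat.trans hw).trans ?_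
    exact congrArg (fun z => a₂.hom.1 ≫ x.map z) hfs.symm
  have e12 : ψ₁ = ψ₂ :=
    Functor.IsStronglyCartesian.ext 𝒳.p ((FibCat.overCat U).p.map m.hom.fst) (x.map m.hom.fst)
      (𝟙 ((FibCat.overCat U).p.obj ((cmp x r).obj t').obj.fst)) key
  have e12' : a₁ = a₂ := Aut.ext (Functor.Fiber.hom_ext (hψ₁.symm.trans (e12.trans hψ₂)))
  have epts : (Gerb.ptsGrp U G).map m.hom.fst.op (ptOf U G t) = ptOf U G t' := by
    apply (r.iso ((AlgSt.overMap (gU U G)).obj t')).injective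
    rw [← ha₁, ← ha₂]; exact e12'
  have epts' : (Over.iteratedSliceForward U).map m.hom.fst ≫
      (ptOf U G t : (Over.iteratedSliceForward U).obj ((AlgSt.overMap (gU U G)).obj t) ⟶ G) =
      ptOf U G t' := epts
  have hleft := congrArg CommaMorphism.left epts'
  obtain ⟨h, hh⟩ : ∃ h : (AlgSt.overMap (gU U G)).obj t' ⟶ (AlgSt.overMap (gU U G)).obj t,
      h = m.hom.fst := ⟨_, rfl⟩
  refine ⟨Over.homMk h.left ?_, ?_⟩
  · subst hh
    apply Over.OverMorphism.ext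
    exact hleft
  · subst hh
    apply fp_hom_ext
    · apply Over.OverMorphism.ext; rfl
    · refine Eq.trans ?_ hfs
      apply Over.OverMorphism.ext; rfl

/-- an isomorphism over the identity, as an automorphism in the fibre. -/
def autMk {ξ : 𝒳.obj} (b : ξ ≅ ξ) (hb : 𝒳.p.IsHomLift (𝟙 (𝒳.p.obj ξ)) b.hom) : Gerb.AutO ξ where
  hom := ⟨b.hom, hb⟩
  inv := ⟨b.inv, by
    have : b.inv = inv b.hom := by simp
    rw [this]; infer_instance⟩
  hom_inv_id := Functor.Fiber.hom_ext b.hom_inv_id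
  inv_hom_id := Functor.Fiber.hom_ext b.inv_hom_id

theorem autMk_hom {ξ : 𝒳.obj} (b : ξ ≅ ξ) (hb : 𝒳.p.IsHomLift (𝟙 (𝒳.p.obj ξ)) b.hom) :
    (autMk b hb).hom.1 = b.hom := rfl

/-- the object of `(Sch/G)` attached to a point of `G`. -/
def tOf (T : Over U) (a : (Over.iteratedSliceForward U).obj T ⟶ G) : Over (GU U G) :=
  Over.mk (Over.homMk a.left (by
    have h1 : a.left ≫ G.hom = T.hom.left := Over.w a
    have h2 : T.hom.left ≫ U.hom = T.left.hom := Over.w T.hom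
    change a.left ≫ G.hom ≫ U.hom = T.left.hom
    rw [← Category.assoc, h1]
    exact h2) : T.left ⟶ GU U G)

/-- the object attached to a point of `G` over `T` lies over `T`. -/
def tOfIso (T : Over U) (a : (Over.iteratedSliceForward U).obj T ⟶ G) :
    (Over.map (gU U G)).obj (tOf T a) ≅ T :=
  Over.isoMk (Iso.refl _) (by
    apply Over.OverMorphism.ext
    have h1 : a.left ≫ G.hom = T.hom.left := Over.w a
    change (𝟙 T.left ≫ T.hom).left = a.left ≫ G.hom
    rw [Category.id_comp, h1])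

theorem cmp_essSurj (iX : IsFibGrpd 𝒳.p) (π : 𝒳 ⥤ᵇ FibCat.overCat U)
    (e : BasedFunctor.comp x π ≅ BasedFunctor.id (FibCat.overCat U)) (ω : (fp x x).obj) :
    ∃ (t : (FibCat.overCat (GU U G)).obj) (j : (cmp x r).toFunctor.obj t ≅ ω),
      (fp x x).p.IsHomLift (𝟙 ((fp x x).p.obj ω)) j.hom := by
  have hβ : 𝒳.p.IsHomLift (𝟙 ((FibCat.overCat U).p.obj ω.obj.fst)) ω.obj.iso.hom :=
    fp_iso_isHomLift x x ω
  have hu : (FibCat.overCat U).p.obj ω.obj.snd = (FibCat.overCat U).p.obj ω.obj.fst :=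
    fp_snd_obj_eq x x ω
  have h1 : (FibCat.overCat U).p.IsHomLift (𝟙 ((FibCat.overCat U).p.obj ω.obj.fst))
      (appIso e ω.obj.fst).inv := appIso_isHomLift e.symm ω.obj.fst
  have h2 : (FibCat.overCat U).p.IsHomLift (𝟙 ((FibCat.overCat U).p.obj ω.obj.fst))
      (π.map ω.obj.iso.hom) := inferInstance
  have h3 : (FibCat.overCat U).p.IsHomLift (𝟙 ((FibCat.overCat U).p.obj ω.obj.fst))
      (appIso e ω.obj.snd).hom :=
    isHomLift_id_of_eq _ hu _ (appIso_isHomLift e ω.obj.snd)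
  let e₁ : π.obj (x.obj ω.obj.fst) ≅ ω.obj.fst := appIso e ω.obj.fst
  let e₂ : π.obj (x.obj ω.obj.snd) ≅ ω.obj.snd := appIso e ω.obj.snd
  obtain ⟨τ, hτdef⟩ : ∃ τ : ω.obj.fst ≅ ω.obj.snd,
      τ = e₁.symm ≪≫ π.toFunctor.mapIso ω.obj.iso ≪≫ e₂ := ⟨_, rfl⟩
  have hτ : (FibCat.overCat U).p.IsHomLift (𝟙 ((FibCat.overCat U).p.obj ω.obj.fst)) τ.hom := by
    rw [hτdef]; exact lift_id_comp _ _ _ _ h1 (lift_id_comp _ _ _ _ h2 h3)
  have hτ' : (FibCat.overCat U).p.IsHomLift (𝟙 ((FibCat.overCat U).p.obj ω.obj.fst)) τ.inv := by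
    have : τ.inv = inv τ.hom := by simp
    rw [this]; infer_instance
  have h4 : 𝒳.p.IsHomLift (𝟙 ((FibCat.overCat U).p.obj ω.obj.fst)) (x.map τ.inv) := inferInstance
  obtain ⟨b, hbdef⟩ : ∃ b : x.obj ω.obj.fst ≅ x.obj ω.obj.fst,
      b = ω.obj.iso ≪≫ (x.toFunctor.mapIso τ).symm := ⟨_, rfl⟩
  have hb : 𝒳.p.IsHomLift (𝟙 (𝒳.p.obj (x.obj ω.obj.fst))) b.hom := by
    rw [hbdef]
    exact isHomLift_id_of_eq 𝒳.p (x.w_obj ω.obj.fst).symm _ (lift_id_comp _ _ _ _ hβ h4)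
  obtain ⟨a, hadef⟩ : ∃ a : (Over.iteratedSliceForward U).obj ω.obj.fst ⟶ G,
      a = (r.iso ω.obj.fst).symm (autMk b hb) := ⟨_, rfl⟩
  have ha : r.iso ω.obj.fst a = autMk b hb := by
    rw [hadef]; exact MulEquiv.apply_symm_apply _ _
  let t : (FibCat.overCat (GU U G)).obj := tOf ω.obj.fst a
  let j₀ : (AlgSt.overMap (gU U G)).obj t ≅ ω.obj.fst := tOfIso ω.obj.fst a
  have hj₀ : (FibCat.overCat U).p.IsHomLift (𝟙 ((FibCat.overCat U).p.obj ω.obj.fst)) j₀.hom := by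
    show (FibCat.overCat U).p.IsHomLift ((FibCat.overCat U).p.map j₀.hom) j₀.hom
    infer_instance
  have hpt : (Gerb.ptsGrp U G).map j₀.hom.op a = ptOf U G t := by
    refine (ptsGrp_map_apply U G _ _).trans ?_
    apply Over.OverMorphism.ext
    change 𝟙 _ ≫ a.left = a.left
    exact Category.id_comp _
  have nat := r.natural j₀.hom a
  have nat' : (r.iso ((AlgSt.overMap (gU U G)).obj t) (ptOf U G t)).hom.1 ≫ x.map j₀.hom =
      x.map j₀.hom ≫ b.hom := by
    rw [← hpt]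
    refine nat.trans ?_
    rw [ha]
    rfl
  have hw : x.map j₀.hom ≫ ω.obj.iso.hom =
      ((cmp x r).obj t).obj.iso.hom ≫ x.map (j₀.hom ≫ τ.hom) := by
    change x.toFunctor.map j₀.hom ≫ ω.obj.iso.hom =
      (r.iso ((AlgSt.overMap (gU U G)).obj t) (ptOf U G t)).hom.1 ≫
        x.toFunctor.map (j₀.hom ≫ τ.hom)
    rw [x.toFunctor.map_comp, ← Category.assoc]
    have nat'' : (r.iso ((AlgSt.overMap (gU U G)).obj t) (ptOf U G t)).hom.1 ≫
        x.toFunctor.map j₀.hom = x.toFunctor.map j₀.hom ≫ b.hom := nat'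
    rw [nat'', hbdef]
    simp only [Iso.trans_hom, Iso.symm_hom, Functor.mapIso_inv, Category.assoc]
    rw [← x.toFunctor.map_comp, Iso.inv_hom_id, x.toFunctor.map_id, Category.comp_id]
  obtain ⟨m, hm⟩ : ∃ m : (cmp x r).obj t ⟶ ω, m = mkHom x x j₀.hom (j₀.hom ≫ τ.hom) hw :=
    ⟨_, rfl⟩
  have hml : (fp x x).p.IsHomLift (𝟙 ((fp x x).p.obj ω)) m := by
    rw [fp_isHomLift_iff, hm]
    exact hj₀
  have iU := Groth.Agent.S6411.over_isFibGrpd U
  have iF : IsFibGrpd (fp x x).p := Groth.Agent.H32.Repr.fp_isFibGrpd _ _ iU iU iX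
  have : IsIso m := isIso_of_isFibGrpd (fp x x).p iF (𝟙 ((fp x x).p.obj ω)) m
  exact ⟨t, asIso m, hml⟩

/-- for a point `x` with a retraction, the slice category of the total space of the group scheme
representing the automorphisms of `x` is equivalent to `U ×_𝒳 U`. -/
theorem cmp_isEquivOver (iX : IsFibGrpd 𝒳.p) (π : 𝒳 ⥤ᵇ FibCat.overCat U)
    (e : BasedFunctor.comp x π ≅ BasedFunctor.id (FibCat.overCat U)) : IsEquivOver (cmp x r) :=
  (Groth.Agent.S5139.result (cmp x r)).mpr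
    ⟨⟨cmp_full x r iX, cmp_faithful x r⟩, fun ω => cmp_essSurj x r iX π e ω⟩

/-- the structure morphism of the automorphism group scheme of a point `x` with a retraction
has every property (of the form `LocP Q`) which `x` has. -/
theorem locP_autGrp {Q : MorphismProperty Scheme.{u}} (iX : IsFibGrpd 𝒳.p)
    (r : Gerb.AutRep x (Gerb.ptsGrp U G)) (π : 𝒳 ⥤ᵇ FibCat.overCat U)
    (e : BasedFunctor.comp x π ≅ BasedFunctor.id (FibCat.overCat U))
    (hx : AlgSt.RepByAlgSpWith (AlgSp.LocP Q) x) : Q G.hom := by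
  obtain ⟨F, eF, heF, hF⟩ := hx U x
  obtain ⟨e₂, he₂def⟩ : ∃ e₂ : AlgSt.ofSp ((AlgSp.yon S).obj (GU U G)) ⥤ᵇ fp x x,
      e₂ = BasedFunctor.comp (AlgSt.toOverCat (GU U G)) (cmp x r) := ⟨_, rfl⟩
  have he₂ : IsEquivOver e₂ := by
    rw [he₂def]
    exact isEquivOver_comp _ _ (toOverCat_isEquivOver _) (cmp_isEquivOver x r iX π e)
  have heq : AlgSt.spMapOfOver (BasedFunctor.comp e₂ (fpFst x x)) = (AlgSp.yon S).map (gU U G) := by
    apply ObjectProperty.hom_ext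
    rw [spMapOfOver_hom, he₂def]
    exact pshMapOf_ofPshMap ((AlgSp.yon S).map (gU U G)).hom
  obtain ⟨i, hi⟩ := rep_unique_over x U x F.obj ((AlgSp.yon S).obj (GU U G)) eF e₂ heF he₂
  rw [heq] at hi
  have h1 : AlgSp.LocP Q (i.hom ≫ (AlgSp.yon S).map (gU U G)) := by rw [hi]; exact hF
  have h2 := locP_iso_comp i.symm _ h1
  rw [Iso.symm_hom, Iso.inv_hom_id_assoc] at h2
  exact AlgSp.locP_yon_map h2

end Groth.Agent.H65.GerbeAut
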