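import Groth.Agent.H65.GerbeSect
import Groth.Agent.H65.GerbeAut
import Groth.Agent.S16864
import Groth.Agent.S12993
import Groth.Agent.S13038
import Groth.Agent.H32.InertiaSt
import Groth.Agent.H84.Gerbe

/-!
# Gerbes are flat, locally of finite presentation and surjective (helper65)
-/

set_option autoImplicit false
open CategoryTheory CategoryTheory.Limits AlgebraicGeometry Opposite
universe u

namespace Groth.Agent.H65.GerbeFlat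

open FibCat Stk Groth.Agent.H32.FibProd Groth.Agent.H32.Fp2 Groth.Agent.H32.Fp3
  Groth.Agent.H32.Fp4 Groth.Agent.H32.SpBridge Groth.Agent.H32.PFacts
  Groth.Agent.H32.AlgStackEquiv Groth.Agent.H32.AtlasRep Groth.Agent.H32.SpComp
  Groth.Agent.H32.StackOps Groth.Agent.H32.SectSt Groth.Agent.H32.Repr Groth.Agent.H32.SpTrack
  Groth.Agent.H32.PshFp Groth.Agent.H32.Sect Groth.Agent.H32.DiagDescent Groth.Agent.H32.Cover
  Groth.Agent.H32.DiagRep Groth.Agent.H32.GoodMore Groth.Agent.H32.DiagApps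
  Groth.Agent.H65.QC Groth.Agent.H65.SpMaps Groth.Agent.H65.LocQ Groth.Agent.H65.DiagLfp
  Groth.Agent.H65.LocQDesc Groth.Agent.H65.LocQPts Groth.Agent.H65.LocQRep
  Groth.Agent.H65.LocQCover Groth.Agent.H65.LocQIso Groth.Agent.H65.LocQBase
  Groth.Agent.H65.LocQLift Groth.Agent.H65.SmoothST Groth.Agent.H65.OverYoneda
  Groth.Agent.H32.StPoints Groth.Agent.H32.StTop Groth.Agent.H65.FieldChart
  Groth.Agent.H65.FieldMono Groth.Agent.H65.GerbeDesc Groth.Agent.H65.ClosedRed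
  Groth.Agent.H65.GerbeHomeo Groth.Agent.H65.GerbeSect

variable {S : Scheme.{u}} {𝒳 𝒴 : AlgSt.Cat S}

/-- the diagonal of a gerbe is representable with flat / lfp, and surjective. -/
theorem diag_with (h𝒳 : AlgSt.IsAlgStack Scheme.fppfPrecoverage 𝒳)
    (h𝒴 : AlgSt.IsAlgStack Scheme.fppfPrecoverage 𝒴) (f : 𝒳 ⥤ᵇ 𝒴)
    (hf : Gerb.IsGerbeOver (QuotSh.J Scheme.fppfPrecoverage S) f) :
    AlgSt.RepByAlgSpWith (AlgSp.LocP @Flat) (FibCat.diag f) ∧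
      AlgSt.RepByAlgSpWith (AlgSp.LocP @LocallyOfFinitePresentation) (FibCat.diag f) ∧
      AlgSt.IsSurjective (FibCat.diag f) := by
  have hff := Groth.Agent.H32.InertiaSt.isAlgStack_fp_self h𝒳 h𝒴 f
  have hπ := Groth.Agent.S16864.result S 𝒳 𝒴 𝒳 h𝒳 h𝒴 h𝒳 f f hf
  have hx := Groth.Agent.H32.InertiaSt.repByAlgSp1_diag' h𝒳 h𝒴 f
  have e : BasedFunctor.comp (FibCat.diag f) (FibCat.fpFst f f) ≅ BasedFunctor.id 𝒳 := Iso.refl _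
  refine ⟨?_, ?_, ?_⟩
  · exact with_gerbe_section _ good_flat
      (fun g h hg => (Groth.Agent.S10557.result g h hg).1) (fun _ _ _ h _ => h) hff h𝒳 _ hπ.2
      _ e hx
  · exact with_gerbe_section _ good_lfp
      (fun g h hg => (Groth.Agent.S10557.result g h hg).2.2) (fun _ _ _ _ h => h) hff h𝒳 _ hπ.2
      _ e hx
  · exact isSurjective_section hff.isStack.1 h𝒳.isStack.1 _ hπ.2 _ e

section locsurj

variable {𝒜 ℬ 𝒞 : AlgSt.Cat S}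

theorem locSurjObj_of_essSurjId (iA : IsFibGrpd 𝒜.p) (F : 𝒜 ⥤ᵇ ℬ) (hF : EssSurjId F) :
    Gerb.LocSurjObj (QuotSh.J Scheme.fppfPrecoverage S) F := by
  intro y
  obtain ⟨x, m, hm⟩ := hF y
  refine ⟨⊤, (QuotSh.J Scheme.fppfPrecoverage S).top_mem _, fun V v _ => ?_⟩
  have hx : 𝒜.p.obj x = ℬ.p.obj y :=
    (F.w_obj x).symm.trans (IsHomLift.domain_eq ℬ.p (𝟙 (ℬ.p.obj y)) m)
  obtain ⟨x', φ, hφ⟩ := exists_lift_of_eq 𝒜.p iA hx v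
  have h1 : ℬ.p.IsHomLift v (F.map φ) := inferInstance
  exact ⟨x', F.map φ ≫ m, lift_comp_id _ _ _ _ h1 hm⟩

theorem locSurjObj_comp (F : 𝒜 ⥤ᵇ ℬ) (G : ℬ ⥤ᵇ 𝒞)
    (hF : Gerb.LocSurjObj (QuotSh.J Scheme.fppfPrecoverage S) F)
    (hG : Gerb.LocSurjObj (QuotSh.J Scheme.fppfPrecoverage S) G) :
    Gerb.LocSurjObj (QuotSh.J Scheme.fppfPrecoverage S) (BasedFunctor.comp F G) := by
  intro z
  obtain ⟨R, hR, H⟩ := hG z
  refine Groth.Agent.H84.cover_trans (QuotSh.J Scheme.fppfPrecoverage S)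
    (T := fun W k => ∃ (x : 𝒜.obj) (g : (BasedFunctor.comp F G).obj x ⟶ z), 𝒞.p.IsHomLift k g)
    R hR ?_
  intro V f hf
  obtain ⟨y, g, hg⟩ := H f hf
  have e : ℬ.p.obj y = V := (G.w_obj y).symm.trans (IsHomLift.domain_eq 𝒞.p f g)
  obtain ⟨R', hR', H'⟩ := hF y
  refine ⟨ℬ.p.obj y, e, R', hR', ?_⟩
  intro W k hk
  obtain ⟨x, g', hg'⟩ := H' k hk
  refine ⟨x, G.map g' ≫ g, ?_⟩
  have h1 : 𝒞.p.IsHomLift k (G.map g') := inferInstance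
  have h2 : 𝒞.p.IsHomLift (eqToHom e ≫ f) g := inferInstance
  exact IsHomLift.comp 𝒞.p k (eqToHom e ≫ f) (G.map g') g

/-- a functor between categories of presheaves whose objects lift locally induces a locally
surjective map of presheaves. -/
theorem locSurj_pshMapOf {P Q : AlgSp.PSp S} (Φ : Stk.ofPsh P ⥤ᵇ Stk.ofPsh Q)
    (hΦ : Gerb.LocSurjObj (QuotSh.J Scheme.fppfPrecoverage S) Φ) :
    Presheaf.IsLocallySurjective (QuotSh.J Scheme.fppfPrecoverage S) (pshMapOf Φ) := by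
  constructor
  intro W s
  obtain ⟨R, hR, h⟩ := hΦ ⟨W, s⟩
  refine (QuotSh.J Scheme.fppfPrecoverage S).superset_covering ?_ hR
  intro V v hv
  obtain ⟨b₀, M, hM⟩ := h v hv
  have hM' : (Stk.ofPsh Q).p.IsHomLift v M := hM
  have hb : b₀.base = V :=
    (Φ.w_obj b₀).symm.trans (IsHomLift.domain_eq (Stk.ofPsh Q).p v M)
  obtain ⟨m₁, hm₁⟩ := Groth.Agent.H32.PshStack.exists_hom_of_secAs_eq
    (⟨V, Groth.Agent.H32.PshStack.secAs b₀ hb⟩ : EltObj P) b₀ rfl hb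
    (Groth.Agent.H32.PshFp.secAs_mk _ _ _)
  have h1 : (Stk.ofPsh Q).p.IsHomLift (𝟙 V) (Φ.map m₁) :=
    (BasedFunctor.isHomLift_iff Φ _ _).mpr hm₁
  have h2 : (Stk.ofPsh Q).p.IsHomLift v (Φ.map m₁ ≫ M) := lift_id_comp _ _ _ _ h1 hM'
  refine ⟨Groth.Agent.H32.PshStack.secAs b₀ hb, ?_⟩
  have := Groth.Agent.H32.PshStack.secAs_map (Φ.map m₁ ≫ M) v h2
    (Φ.w_obj ⟨V, Groth.Agent.H32.PshStack.secAs b₀ hb⟩) rfl
  exact this.symm.trans (congrArg _ (Groth.Agent.H32.PshFp.secAs_mk _ _ _))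

/-- **Descent along a locally covering functor.**  If `ℬ ⟶ 𝒜` has objects lifting locally,
commutes with the projections to `G`, and `ℬ ⟶ G` has `P`, then `𝒜 ⟶ G` has `P`,
for `P` descending along surjections of sheaves. -/
theorem prop_of_locSurj (P : MorphismProperty (AlgSp.Sp S))
    (hdesc : ∀ {X Y Z : AlgSp.Space S} (g : X ⟶ Y) (h : Y ⟶ Z),
      Sheaf.IsLocallySurjective g.hom → P (g ≫ h).hom → P h.hom)
    (iA : IsFibGrpd 𝒜.p) (A B G : AlgSp.Space S)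
    (eA : AlgSt.ofSp A.obj ⥤ᵇ 𝒜) (heA : IsEquivOver eA)
    (eB : AlgSt.ofSp B.obj ⥤ᵇ ℬ) (heB : IsEquivOver eB)
    (qA : 𝒜 ⥤ᵇ AlgSt.ofSp G.obj) (qB : ℬ ⥤ᵇ AlgSt.ofSp G.obj) (ρ : ℬ ⥤ᵇ 𝒜)
    (hρq : BasedFunctor.comp ρ qA ≅ qB)
    (hρ : Gerb.LocSurjObj (QuotSh.J Scheme.fppfPrecoverage S) ρ)
    (hB : P (ObjectProperty.homMk (pshMapOf (BasedFunctor.comp eB qB)) : B.obj ⟶ G.obj)) :
    P (ObjectProperty.homMk (pshMapOf (BasedFunctor.comp eA qA)) : A.obj ⟶ G.obj) := by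
  obtain ⟨eA', hEA', -, ⟨κ⟩⟩ := exists_inv_isEquivOver heA
  obtain ⟨Φ, hΦdef⟩ : ∃ Φ : AlgSt.ofSp B.obj ⥤ᵇ AlgSt.ofSp A.obj,
      Φ = BasedFunctor.comp (BasedFunctor.comp eB ρ) eA' := ⟨_, rfl⟩
  have hΦ : Gerb.LocSurjObj (QuotSh.J Scheme.fppfPrecoverage S) Φ := by
    rw [hΦdef]
    refine locSurjObj_comp _ _ (locSurjObj_comp _ _
      (locSurjObj_of_essSurjId (ofSp_isFibGrpd _) eB (essSurjId_of_isEquivOver eB heB)) hρ) ?_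
    exact locSurjObj_of_essSurjId iA eA'
      (essSurjId_of_isEquivOver eA' hEA')
  let g : B ⟶ A := ObjectProperty.homMk (ObjectProperty.homMk (pshMapOf Φ))
  let h : A ⟶ G := ObjectProperty.homMk (ObjectProperty.homMk
    (pshMapOf (BasedFunctor.comp eA qA)))
  have hg : Sheaf.IsLocallySurjective g.hom := locSurj_pshMapOf Φ hΦ
  have hcomp : (g ≫ h).hom =
      (ObjectProperty.homMk (pshMapOf (BasedFunctor.comp eB qB)) : B.obj ⟶ G.obj) := by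
    apply ObjectProperty.hom_ext
    change pshMapOf Φ ≫ pshMapOf (BasedFunctor.comp eA qA) = pshMapOf (BasedFunctor.comp eB qB)
    rw [← pshMapOf_comp, hΦdef]
    apply pshMapOf_congr
    exact (whiskerLeftIso (BasedFunctor.comp eB ρ) (whiskerRightIso κ qA) ≪≫
      whiskerLeftIso eB hρq).hom
  have := hdesc g h hg (by rw [hcomp]; exact hB)
  exact this

/-- the functor `𝒜 ×_𝒳 ℬ ⟶ 𝒜 ×_𝒴 ℬ` induced by `f : 𝒳 ⟶ 𝒴` (a base change of the diagonal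
of `f`). -/
def diagBC (a : 𝒜 ⥤ᵇ 𝒳) (b : ℬ ⥤ᵇ 𝒳) (f : 𝒳 ⥤ᵇ 𝒴) :
    fp a b ⥤ᵇ fp (BasedFunctor.comp a f) (BasedFunctor.comp b f) :=
  FibCat.fpLift (fpFst a b) (fpSnd a b) (whiskerRightIso (fpIso a b) f)

theorem diagBC_fst (a : 𝒜 ⥤ᵇ 𝒳) (b : ℬ ⥤ᵇ 𝒳) (f : 𝒳 ⥤ᵇ 𝒴) :
    BasedFunctor.comp (diagBC a b f) (fpFst _ _) = fpFst a b := rfl

theorem diagBC_snd (a : 𝒜 ⥤ᵇ 𝒳) (b : ℬ ⥤ᵇ 𝒳) (f : 𝒳 ⥤ᵇ 𝒴) :
    BasedFunctor.comp (diagBC a b f) (fpSnd _ _) = fpSnd a b := rfl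

theorem diagBC_iso (a : 𝒜 ⥤ᵇ 𝒳) (b : ℬ ⥤ᵇ 𝒳) (f : 𝒳 ⥤ᵇ 𝒴) (q : (fp a b).obj) :
    ((diagBC a b f).obj q).obj.iso.hom = f.map q.obj.iso.hom := rfl

/-- objects of `𝒜 ×_𝒴 ℬ` lift locally to `𝒜 ×_𝒳 ℬ` when morphisms between images under `f`
lift locally. -/
theorem diagBC_locSurjObj (iA : IsFibGrpd 𝒜.p) (iB : IsFibGrpd ℬ.p) (iX : IsFibGrpd 𝒳.p)
    (iY : IsFibGrpd 𝒴.p) (a : 𝒜 ⥤ᵇ 𝒳) (b : ℬ ⥤ᵇ 𝒳) (f : 𝒳 ⥤ᵇ 𝒴)
    (hH : Gerb.LocSurjHom (QuotSh.J Scheme.fppfPrecoverage S) f) :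
    Gerb.LocSurjObj (QuotSh.J Scheme.fppfPrecoverage S) (diagBC a b f) := by
  have _ := iX
  have _ := iY
  intro p
  have hiso : 𝒴.p.IsHomLift (𝟙 (𝒜.p.obj p.obj.fst)) p.obj.iso.hom :=
    fp_iso_isHomLift (BasedFunctor.comp a f) (BasedFunctor.comp b f) p
  obtain ⟨R, hR, H⟩ := Groth.Agent.H84.locSurjHom_strong (QuotSh.J Scheme.fppfPrecoverage S) f hH
    (a.obj p.obj.fst) (b.obj p.obj.snd) p.obj.iso.hom
  have e : 𝒳.p.obj (a.obj p.obj.fst) = 𝒜.p.obj p.obj.fst := a.w_obj p.obj.fst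
  obtain ⟨R', hR', H'⟩ := Groth.Agent.H84.cover_transport (QuotSh.J Scheme.fppfPrecoverage S)
    e R hR
  refine ⟨R', hR', fun V v' hv => ?_⟩
  obtain ⟨v, hvv⟩ : ∃ v : V ⟶ 𝒜.p.obj p.obj.fst, v = v' := ⟨v', rfl⟩
  subst hvv
  obtain ⟨α₀, κ, hκ⟩ := exists_lift_of_eq 𝒜.p iA
    (rfl : 𝒜.p.obj p.obj.fst = 𝒜.p.obj p.obj.fst) v
  have hφ0 : 𝒳.p.IsHomLift v (a.map κ) := inferInstance
  have hφ : 𝒳.p.IsHomLift (v ≫ eqToHom e.symm) (a.map κ) :=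
    (IsHomLift.lift_comp_eqToHom_iff _ _ _ _).mpr hφ0
  obtain ⟨ψ₀, hψ₀⟩ := H _ (H' v hv) (a.obj α₀) (a.map κ) hφ
  have hfφ : 𝒴.p.IsHomLift v (f.map (a.map κ)) := inferInstance
  have hψl : 𝒳.p.IsHomLift v ψ₀ := by
    refine (BasedFunctor.isHomLift_iff f _ _).mp ?_
    rw [← hψ₀]
    exact lift_comp_id _ _ _ _ hfφ hiso
  obtain ⟨β₀, μ, hμ⟩ := exists_lift_of_eq ℬ.p iB
    (fp_snd_obj_eq (BasedFunctor.comp a f) (BasedFunctor.comp b f) p) v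
  have hbμ : 𝒳.p.IsHomLift v (b.map μ) := inferInstance
  obtain ⟨θ, hθ, hfac⟩ := Groth.Agent.H84.exists_factor 𝒳.p v (b.map μ) (𝟙 V) v (by simp) ψ₀
  have iθ : IsIso θ := isIso_of_isFibGrpd 𝒳.p iX (𝟙 V) θ
  have hV : V = 𝒜.p.obj α₀ := (IsHomLift.domain_eq 𝒜.p v κ).symm
  have hθ' : 𝒳.p.IsHomLift (𝟙 (𝒜.p.obj α₀)) (asIso θ).hom := isHomLift_id_of_eq 𝒳.p hV _ hθ
  refine ⟨mkObj a b α₀ β₀ (asIso θ) hθ', mkHom _ _ κ μ ?_, ?_⟩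
  · rw [diagBC_iso]
    change f.map (a.map κ) ≫ p.obj.iso.hom = f.map θ ≫ f.map (b.map μ)
    refine hψ₀.trans ?_
    rw [← hfac, f.map_comp]
  · exact (fp_isHomLift_iff _ _ v _).mpr hκ

theorem locSurjObj_at (f : 𝒳 ⥤ᵇ 𝒴)
    (hO : Gerb.LocSurjObj (QuotSh.J Scheme.fppfPrecoverage S) f) (y : 𝒴.obj) (T : Over S)
    (hy : 𝒴.p.obj y = T) :
    ∃ R ∈ QuotSh.J Scheme.fppfPrecoverage S T, ∀ ⦃V : Over S⦄ (v : V ⟶ T), R v →
      ∃ (x : 𝒳.obj) (g : f.obj x ⟶ y), 𝒴.p.IsHomLift v g := by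
  subst hy
  exact hO y

/-- a chart of the target of a functor whose objects lift locally lifts, locally on its source,
to the source of the functor. -/
theorem exists_cover_lift (iX : IsFibGrpd 𝒳.p) (iY : IsFibGrpd 𝒴.p) (f : 𝒳 ⥤ᵇ 𝒴)
    (hO : Gerb.LocSurjObj (QuotSh.J Scheme.fppfPrecoverage S) f) {T : Over S}
    (t : FibCat.overCat T ⥤ᵇ 𝒴) :
    ∃ R ∈ QuotSh.J Scheme.fppfPrecoverage S T, ∀ ⦃V : Over S⦄ (v : V ⟶ T), R v →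
      ∃ b : FibCat.overCat V ⥤ᵇ 𝒳,
        Nonempty (BasedFunctor.comp (AlgSt.overMap v) t ≅ BasedFunctor.comp b f) := by
  have : 𝒳.p.IsFibered := Groth.Agent.H32.Split.isFibered_of_isFibGrpd 𝒳 iX
  obtain ⟨R, hR, h⟩ := locSurjObj_at f hO (t.obj (Groth.Agent.H32.Split.T T)) T (t.w_obj _)
  refine ⟨R, hR, fun V v hv => ?_⟩
  obtain ⟨x, g, hg⟩ := h v hv
  have hx : 𝒳.p.obj x = V := (f.w_obj x).symm.trans (IsHomLift.domain_eq 𝒴.p v g)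
  obtain ⟨b, -, τ, -, hτ⟩ := Groth.Agent.H32.Yoneda2.exists_based_functor
    (Groth.Agent.H32.Split.hT V) x hx
  refine ⟨b, ?_⟩
  let k : (AlgSt.overMap v).obj (Groth.Agent.H32.Split.T V) ⟶ Groth.Agent.H32.Split.T T :=
    Over.homMk v (by change v ≫ 𝟙 _ = 𝟙 _ ≫ v; simp)
  have hk : (FibCat.overCat T).p.IsHomLift v k := by
    show (FibCat.overCat T).p.IsHomLift ((FibCat.overCat T).p.map k) k
    infer_instance
  have hμ : 𝒴.p.IsHomLift v (t.map k) := inferInstance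
  have hτ' : 𝒳.p.IsHomLift (𝟙 V) τ := hτ
  have hfτ : 𝒴.p.IsHomLift (𝟙 V) (f.map τ) := inferInstance
  have h2 : 𝒴.p.IsHomLift v (f.map τ ≫ g) := lift_id_comp _ _ _ _ hfτ hg
  obtain ⟨θ, hθ⟩ := exists_hom_id_of_lifts iY v (t.map k) (f.map τ ≫ g) hμ h2
  exact nonempty_iso_of_app iY (BasedFunctor.comp (AlgSt.overMap v) t) (BasedFunctor.comp b f) θ hθ

/-- if the chart `a` of `𝒴` lifts to `β` of `𝒳`, `f` has morphisms between images lifting locally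
and `w` has `P`, then the projection `V ×_𝒴 𝒲 ⟶ V` has `P`. -/
theorem prop_fp_of_lift (P : MorphismProperty (AlgSp.Sp S))
    (hdesc : ∀ {X Y Z : AlgSp.Space S} (g : X ⟶ Y) (h : Y ⟶ Z),
      Sheaf.IsLocallySurjective g.hom → P (g ≫ h).hom → P h.hom)
    (hP : AlgSp.IsLocalOnBase AlgSp.IsFppfCover P) (iX : IsFibGrpd 𝒳.p) (iY : IsFibGrpd 𝒴.p)
    (f : 𝒳 ⥤ᵇ 𝒴) (hH : Gerb.LocSurjHom (QuotSh.J Scheme.fppfPrecoverage S) f)
    {𝒲 : AlgSt.Cat S} (iW : IsFibGrpd 𝒲.p) (w : 𝒲 ⥤ᵇ 𝒳) (hw : AlgSt.RepByAlgSpWith P w)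
    (V : AlgSp.Space S) (a : AlgSt.ofSp V.obj ⥤ᵇ 𝒴) (β : AlgSt.ofSp V.obj ⥤ᵇ 𝒳)
    (ε : a ≅ BasedFunctor.comp β f) (A : AlgSp.Space S)
    (eA : AlgSt.ofSp A.obj ⥤ᵇ fp a (BasedFunctor.comp w f)) (heA : IsEquivOver eA) :
    P (ObjectProperty.homMk (pshMapOf (BasedFunctor.comp eA (fpFst a (BasedFunctor.comp w f)))) :
      A.obj ⟶ V.obj) := by
  obtain ⟨B, eB, heB⟩ := Groth.Agent.H32.SpBoot.repByAlgSp_fp_ofSp iW iX V β w (rep1_of_with hw)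
  have hB := P_baseChange P hP w hw V B β eB heB
  have iV : IsFibGrpd (AlgSt.ofSp V.obj).p := ofSp_isFibGrpd V.obj
  exact prop_of_locSurj P hdesc (fp_isFibGrpd _ _ iV iW iY) A B V
    (BasedFunctor.comp eA (congrLeft ε (BasedFunctor.comp w f)))
    (isEquivOver_comp _ _ heA (congrLeft_isEquivOver ε _)) eB heB
    (fpFst (BasedFunctor.comp β f) (BasedFunctor.comp w f)) (fpFst β w) (diagBC β w f) (Iso.refl _)
    (diagBC_locSurjObj iV iW iX iY β w f hH) hB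

/-- **A chart of a gerbe composed with the gerbe is representable with `P`** (for `P` descending
along surjections of sheaves). -/
theorem with_chart_gerbe (P : MorphismProperty (AlgSp.Sp S)) (hG : Good P)
    (hdesc : ∀ {X Y Z : AlgSp.Space S} (g : X ⟶ Y) (h : Y ⟶ Z),
      Sheaf.IsLocallySurjective g.hom → P (g ≫ h).hom → P h.hom)
    (h𝒳 : AlgSt.IsAlgStack Scheme.fppfPrecoverage 𝒳)
    (h𝒴 : AlgSt.IsAlgStack Scheme.fppfPrecoverage 𝒴) (f : 𝒳 ⥤ᵇ 𝒴)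
    (hf : Gerb.IsGerbeOver (QuotSh.J Scheme.fppfPrecoverage S) f)
    {W : Over S} (w : FibCat.overCat W ⥤ᵇ 𝒳) (hw : AlgSt.RepByAlgSpWith P w) :
    AlgSt.RepByAlgSpWith P (BasedFunctor.comp w f) := by
  have iX := h𝒳.isStack.1
  have iY := h𝒴.isStack.1
  have iW := Groth.Agent.S6411.over_isFibGrpd W
  have hz1 : AlgSt.RepByAlgSp1 (BasedFunctor.comp w f) := rep1_chart h𝒴 _
  intro T t
  obtain ⟨F, eF, heF⟩ := hz1 T t
  refine ⟨F, eF, heF, ?_⟩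
  obtain ⟨R, hR, hlift⟩ := exists_cover_lift iX iY f hf.1 t
  obtain ⟨V, v, hv, hcov⟩ := Groth.Agent.H32.AtlasCover.exists_family_of_mem_J hR
  have hrep : ∀ τ, AlgSt.RepByAlgSp (fp (BasedFunctor.comp
      (Stk.ofPshMap ((AlgSp.yon S).map (v τ)).hom) (BasedFunctor.comp (AlgSt.toOverCat T) t))
      (BasedFunctor.comp w f)) :=
    fun τ => Groth.Agent.H32.SpBoot.repByAlgSp_fp_ofSp iW iY
      ⟨(AlgSp.yon S).obj (V τ), AlgSp.IsAlgSpace.yon_obj (V τ)⟩ _ (BasedFunctor.comp w f) hz1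
  choose Fi ei hei using hrep
  refine P_of_cover P hG.loc (BasedFunctor.comp w f) T t F eF heF
    (fun τ => ⟨(AlgSp.yon S).obj (V τ), AlgSp.IsAlgSpace.yon_obj (V τ)⟩)
    (fun τ => (AlgSp.yon S).map (v τ)) hcov Fi ei hei (fun τ => ?_)
  obtain ⟨b, ⟨ε⟩⟩ := hlift (v τ) (hv τ)
  exact prop_fp_of_lift P hdesc hG.loc iX iY f hf.2 iW w hw
    ⟨(AlgSp.yon S).obj (V τ), AlgSp.IsAlgSpace.yon_obj (V τ)⟩ _
    (BasedFunctor.comp (AlgSt.toOverCat (V τ)) b)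
    (whiskerLeftIso (AlgSt.toOverCat (V τ)) ε) (Fi τ) (ei τ) (hei τ)

/-- **A gerbe has every good smooth-local property implied by smoothness which descends along
surjections of sheaves.** -/
theorem locQ_of_gerbe (P : MorphismProperty (AlgSp.Sp S)) (hP : AlgSp.IsSmoothLocalST P)
    (hG : Good P)
    (hdesc : ∀ {X Y Z : AlgSp.Space S} (g : X ⟶ Y) (h : Y ⟶ Z),
      Sheaf.IsLocallySurjective g.hom → P (g ≫ h).hom → P h.hom)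
    (hsm : ∀ ⦃X Y : AlgSp.Sp S⦄ (a : X ⟶ Y), AlgSp.LocP @Smooth a → P a)
    (h𝒳 : AlgSt.IsAlgStack Scheme.fppfPrecoverage 𝒳)
    (h𝒴 : AlgSt.IsAlgStack Scheme.fppfPrecoverage 𝒴) (f : 𝒳 ⥤ᵇ 𝒴)
    (hf : Gerb.IsGerbeOver (QuotSh.J Scheme.fppfPrecoverage S) f) : AlgSt.LocQ P f := by
  have iX := h𝒳.isStack.1
  obtain ⟨W, w, hw1, hw2⟩ := h𝒳.atlas
  have iW := Groth.Agent.S6411.over_isFibGrpd W
  have hz := with_chart_gerbe P hG hdesc h𝒳 h𝒴 f hf w (with_imp hsm hw1)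
  have hz1 : AlgSt.RepByAlgSp1 (BasedFunctor.comp w f) := rep1_chart h𝒴 _
  obtain ⟨U, V, x', y, h, α, hx1, hx2, hy, hPh⟩ :=
    (Groth.Agent.S12993.result S P hP hG.bc hG.loc (FibCat.overCat W) 𝒴 (Groth.Agent.H65.LocQ.isAlgStack_overCat W) h𝒴
      _ hz1).mpr hz
  have iU := Groth.Agent.S6411.over_isFibGrpd U
  exact ⟨U, V, BasedFunctor.comp x' w, y, h, α, with_comp good_smooth iU iW iX x' w hx1 hw1,
    with_comp good_surjective iU iW iX x' w hx2 hw2, hy, hPh⟩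

/-- objects lift locally along a surjective flat morphism locally of finite presentation. -/
theorem locSurjObj_of_fppf (h𝒳 : AlgSt.IsAlgStack Scheme.fppfPrecoverage 𝒳)
    (h𝒴 : AlgSt.IsAlgStack Scheme.fppfPrecoverage 𝒴) (f : 𝒳 ⥤ᵇ 𝒴)
    (hf₁ : AlgSt.IsSurjective f) (hf₂ : AlgSt.LocQ (AlgSp.LocP @Flat) f)
    (hf₃ : AlgSt.LocQ (AlgSp.LocP @LocallyOfFinitePresentation) f) :
    Gerb.LocSurjObj (QuotSh.J Scheme.fppfPrecoverage S) f := by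
  have iX := h𝒳.isStack.1
  intro y
  let R : Sieve (𝒴.p.obj y) :=
    { arrows := fun V h => ∃ (x : 𝒳.obj) (m : f.obj x ⟶ y), 𝒴.p.IsHomLift h m
      downward_closed := by
        rintro V V' h ⟨x, m, hm⟩ k
        have hx : 𝒳.p.obj x = V := (f.w_obj x).symm.trans (IsHomLift.domain_eq 𝒴.p h m)
        obtain ⟨x', φ, hφ⟩ := exists_lift_of_eq 𝒳.p iX hx k
        exact ⟨x', f.map φ ≫ m, inferInstance⟩ }
  refine ⟨R, ?_, fun V h hh => hh⟩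
  obtain ⟨x', w, τ, h1, h2, h3, h4⟩ := exists_fppf_lift' h𝒳 h𝒴 f hf₁ hf₂ hf₃ y _ rfl
  refine mem_J_of_comp w h1 h2 h3 R ⊤ ((QuotSh.J Scheme.fppfPrecoverage S).top_mem _) ?_
  intro V v _
  obtain ⟨x'', φ, hφ⟩ := exists_lift_of_eq 𝒳.p iX (rfl : 𝒳.p.obj x' = 𝒳.p.obj x') v
  exact ⟨x'', f.map φ ≫ τ, inferInstance⟩

/-- morphisms between images lift locally along a morphism whose diagonal is surjective, flat and
locally of finite presentation. -/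
theorem locSurjHom_of_diag_fppf (h𝒳 : AlgSt.IsAlgStack Scheme.fppfPrecoverage 𝒳)
    (h𝒴 : AlgSt.IsAlgStack Scheme.fppfPrecoverage 𝒴) (f : 𝒳 ⥤ᵇ 𝒴)
    (hd₁ : AlgSt.IsSurjective (FibCat.diag f))
    (hd₂ : AlgSt.LocQ (AlgSp.LocP @Flat) (FibCat.diag f))
    (hd₃ : AlgSt.LocQ (AlgSp.LocP @LocallyOfFinitePresentation) (FibCat.diag f)) :
    Gerb.LocSurjHom (QuotSh.J Scheme.fppfPrecoverage S) f := by
  have iX := h𝒳.isStack.1
  have iY := h𝒴.isStack.1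
  have hff := Groth.Agent.H32.InertiaSt.isAlgStack_fp_self h𝒳 h𝒴 f
  intro x x' b hb
  let R : Sieve (𝒳.p.obj x) :=
    { arrows := fun V h => ∃ (x₀ : 𝒳.obj) (φ : x₀ ⟶ x) (ψ : x₀ ⟶ x'),
        𝒳.p.IsHomLift h φ ∧ 𝒳.p.IsHomLift h ψ ∧ f.map φ ≫ b = f.map ψ
      downward_closed := by
        rintro V V' h ⟨x₀, φ, ψ, hφ, hψ, e⟩ k
        have hx : 𝒳.p.obj x₀ = V := IsHomLift.domain_eq 𝒳.p h φ
        obtain ⟨x₁, κ, hκ⟩ := exists_lift_of_eq 𝒳.p iX hx k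
        refine ⟨x₁, κ ≫ φ, κ ≫ ψ, inferInstance, inferInstance, ?_⟩
        rw [f.map_comp, Category.assoc, e, ← f.map_comp] }
  refine ⟨R, ?_, fun V h hh => hh⟩
  have ib : IsIso b := isIso_of_isFibGrpd 𝒴.p iY (𝟙 (𝒳.p.obj x)) b
  let ξ : (fp f f).obj := mkObj f f x x' (asIso b) hb
  obtain ⟨x₀, w, τ, h1, h2, h3, h4⟩ :=
    exists_fppf_lift' h𝒳 hff (FibCat.diag f) hd₁ hd₂ hd₃ ξ (𝒳.p.obj x) rfl
  refine mem_J_of_comp w h1 h2 h3 R ⊤ ((QuotSh.J Scheme.fppfPrecoverage S).top_mem _) ?_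
  intro V v _
  obtain ⟨x₁, κ, hκ⟩ := exists_lift_of_eq 𝒳.p iX (rfl : 𝒳.p.obj x₀ = 𝒳.p.obj x₀) v
  have hτ1 : 𝒳.p.IsHomLift w τ.hom.fst := (fp_isHomLift_iff f f w τ).mp h4
  have hτ2 : 𝒳.p.IsHomLift w τ.hom.snd := fp_isHomLift_snd' f f w τ (h := h4)
  have wτ : f.map τ.hom.fst ≫ b = 𝟙 _ ≫ f.map τ.hom.snd := τ.hom.w
  obtain ⟨c, c', hc, hc', wc⟩ : ∃ (c : x₀ ⟶ x) (c' : x₀ ⟶ x'), 𝒳.p.IsHomLift w c ∧
      𝒳.p.IsHomLift w c' ∧ f.map c ≫ b = f.map c' :=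
    ⟨τ.hom.fst, τ.hom.snd, hτ1, hτ2, wτ.trans (Category.id_comp _)⟩
  refine ⟨x₁, κ ≫ c, κ ≫ c', inferInstance, inferInstance, ?_⟩
  rw [f.map_comp, Category.assoc, wc, ← f.map_comp]

end locsurj

end Groth.Agent.H65.GerbeFlat
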