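import Groth.Agent.H65.AlgClosedPt
import Groth.Agent.H65.GerbeFlat
import Groth.Prelude.Def_StCoarse

/-!
# Coarse moduli spaces through a gerbe (helper65)
-/

set_option autoImplicit false
open CategoryTheory CategoryTheory.Limits AlgebraicGeometry Opposite
universe u

namespace Groth.Agent.H65.CoarseGerbe

open FibCat Stk Groth.Agent.H32.FibProd Groth.Agent.H32.Fp2 Groth.Agent.H32.Fp3
  Groth.Agent.H32.Fp4 Groth.Agent.H32.SpTrack Groth.Agent.H65.FieldMono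
  Groth.Agent.H65.GerbeFlat

variable {S : Scheme.{u}}

/-- every fppf covering sieve of the spectrum of an algebraically closed field contains the
identity. -/
theorem id_mem_of_mem_J {Ω : Type u} [Field Ω] [IsAlgClosed Ω] (t : Spec (CommRingCat.of Ω) ⟶ S)
    (R : Sieve (Over.mk t)) (hR : R ∈ QuotSh.J Scheme.fppfPrecoverage S (Over.mk t)) :
    R (𝟙 (Over.mk t)) := by
  obtain ⟨τ⟩ : Nonempty ↥(Over.mk t).left :=
    inferInstanceAs (Nonempty ↥(Spec (CommRingCat.of Ω)))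
  obtain ⟨T', g, hRg, -, hfp, t', -⟩ := Groth.Agent.H50.exists_fppf_of_mem_J hR τ
  have : LocallyOfFiniteType g.left := inferInstance
  obtain ⟨σ, hσ⟩ := Groth.Agent.H65.AlgClosedPt.exists_section_of_lft (Ω := Ω) g.left t'
  have hw : σ ≫ T'.hom = t := by
    have h1 : g.left ≫ (Over.mk t).hom = T'.hom := Over.w g
    rw [← h1, ← Category.assoc, hσ]
    exact Category.id_comp _
  let s : Over.mk t ⟶ T' := Over.homMk σ hw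
  have hs : s ≫ g = 𝟙 (Over.mk t) := by
    apply Over.OverMorphism.ext
    exact hσ
  rw [← hs]
  exact R.downward_closed hRg s

variable {𝒳 𝒴 : AlgSt.Cat S}

/-- an isomorphism in a fibre category from a morphism over the identity, in a category fibred in
groupoids. -/
theorem nonempty_fiber_iso (iX : IsFibGrpd 𝒳.p) {T : Over S} (x x' : 𝒳.p.Fiber T)
    (θ : x.1 ⟶ x'.1) (hθ : 𝒳.p.IsHomLift (𝟙 T) θ) : Nonempty (x ≅ x') := by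
  have iθ : IsIso θ := isIso_of_isFibGrpd 𝒳.p iX (𝟙 T) θ
  have hinv : 𝒳.p.IsHomLift (𝟙 T) (inv θ) := by
    have : 𝒳.p.IsHomLift (inv (𝟙 T)) (inv θ) := inferInstance
    simpa using this
  exact ⟨{ hom := ⟨θ, hθ⟩
           inv := ⟨inv θ, hinv⟩
           hom_inv_id := Functor.Fiber.hom_ext (IsIso.hom_inv_id θ)
           inv_hom_id := Functor.Fiber.hom_ext (IsIso.inv_hom_id θ) }⟩

/-- objects over an algebraically closed point lift along a functor whose objects lift locally. -/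
theorem exists_fiber_lift (F : 𝒳 ⥤ᵇ 𝒴)
    (hO : Gerb.LocSurjObj (QuotSh.J Scheme.fppfPrecoverage S) F) {Ω : Type u} [Field Ω]
    [IsAlgClosed Ω] (t : Spec (CommRingCat.of Ω) ⟶ S) (y : 𝒴.p.Fiber (Over.mk t)) :
    ∃ (x : 𝒳.p.Fiber (Over.mk t)) (m : F.obj x.1 ⟶ y.1), 𝒴.p.IsHomLift (𝟙 (Over.mk t)) m := by
  obtain ⟨R, hR, h⟩ := locSurjObj_at F hO y.1 _ y.2
  obtain ⟨x, g, hg⟩ := h (𝟙 _) (id_mem_of_mem_J t R hR)
  have hx : 𝒳.p.obj x = Over.mk t :=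
    (F.w_obj x).symm.trans (IsHomLift.domain_eq 𝒴.p (𝟙 (Over.mk t)) g)
  exact ⟨⟨x, hx⟩, g, hg⟩

theorem locSurjHom_at (F : 𝒳 ⥤ᵇ 𝒴)
    (hH : Gerb.LocSurjHom (QuotSh.J Scheme.fppfPrecoverage S) F) (x x' : 𝒳.obj) (T : Over S)
    (hx : 𝒳.p.obj x = T) (b : F.obj x ⟶ F.obj x') (hb : 𝒴.p.IsHomLift (𝟙 T) b) :
    ∃ R ∈ QuotSh.J Scheme.fppfPrecoverage S T, ∀ ⦃V : Over S⦄ (v : V ⟶ T), R v →
      ∃ (x₀ : 𝒳.obj) (φ : x₀ ⟶ x) (ψ : x₀ ⟶ x'),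
        𝒳.p.IsHomLift v φ ∧ 𝒳.p.IsHomLift v ψ ∧ F.map φ ≫ b = F.map ψ := by
  subst hx
  exact hH x x' b hb

/-- over an algebraically closed point, objects with isomorphic images are isomorphic, for a
functor along which morphisms between images lift locally. -/
theorem nonempty_fiber_iso_of_hom (iX : IsFibGrpd 𝒳.p) (F : 𝒳 ⥤ᵇ 𝒴)
    (hH : Gerb.LocSurjHom (QuotSh.J Scheme.fppfPrecoverage S) F) {Ω : Type u} [Field Ω]
    [IsAlgClosed Ω] (t : Spec (CommRingCat.of Ω) ⟶ S) (x x' : 𝒳.p.Fiber (Over.mk t))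
    (b : F.obj x.1 ⟶ F.obj x'.1) (hb : 𝒴.p.IsHomLift (𝟙 (Over.mk t)) b) : Nonempty (x ≅ x') := by
  obtain ⟨R, hR, h⟩ := locSurjHom_at F hH x.1 x'.1 _ x.2 b hb
  obtain ⟨x₀, φ, ψ, hφ, hψ, -⟩ := h (𝟙 _) (id_mem_of_mem_J t R hR)
  have iφ : IsIso φ := isIso_of_isFibGrpd 𝒳.p iX (𝟙 (Over.mk t)) φ
  have hinv : 𝒳.p.IsHomLift (𝟙 (Over.mk t)) (inv φ) := by
    have : 𝒳.p.IsHomLift (inv (𝟙 (Over.mk t))) (inv φ) := inferInstance
    simpa using this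
  exact nonempty_fiber_iso iX x x' (inv φ ≫ ψ) (lift_id_comp _ _ _ _ hinv hψ)

section fibSec
variable {M : AlgSp.Sp S}

theorem fibSec_eq_secAs (π : 𝒴 ⥤ᵇ AlgSt.ofSp M) {T : Over S} (y : 𝒴.p.Fiber T) :
    AlgSt.fibSec π y =
      Groth.Agent.H32.PshStack.secAs (π.obj y.1) ((π.w_obj y.1).trans y.2) := rfl

theorem fibSec_eq_of_hom (π : 𝒴 ⥤ᵇ AlgSt.ofSp M) {T : Over S} (y y' : 𝒴.p.Fiber T)
    (m : y.1 ⟶ y'.1) (hm : 𝒴.p.IsHomLift (𝟙 T) m) : AlgSt.fibSec π y = AlgSt.fibSec π y' := by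
  rw [fibSec_eq_secAs, fibSec_eq_secAs]
  have h1 : (AlgSt.ofSp M).p.IsHomLift (𝟙 T) (π.map m) :=
    (BasedFunctor.isHomLift_iff π _ _).mpr hm
  exact Groth.Agent.H32.PshStack.secAs_eq_of_hom (π.map m) h1 _ _

theorem fibSec_eq_of_iso (π : 𝒴 ⥤ᵇ AlgSt.ofSp M) {T : Over S} (y y' : 𝒴.p.Fiber T)
    (e : Nonempty (y ≅ y')) : AlgSt.fibSec π y = AlgSt.fibSec π y' := by
  obtain ⟨e⟩ := e
  exact fibSec_eq_of_hom π y y' e.hom.1 e.hom.2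

theorem fibSec_comp (F : 𝒳 ⥤ᵇ 𝒴) (π : 𝒴 ⥤ᵇ AlgSt.ofSp M) {T : Over S} (x : 𝒳.p.Fiber T) :
    AlgSt.fibSec (BasedFunctor.comp F π) x =
      AlgSt.fibSec π ⟨F.obj x.1, (F.w_obj x.1).trans x.2⟩ := rfl

theorem fibSec_congr {π π' : 𝒴 ⥤ᵇ AlgSt.ofSp M} (e : π ≅ π') {T : Over S} (y : 𝒴.p.Fiber T) :
    AlgSt.fibSec π y = AlgSt.fibSec π' y := by
  rw [fibSec_eq_secAs, fibSec_eq_secAs]
  have h1 : (AlgSt.ofSp M).p.IsHomLift (𝟙 T) (appIso e y.1).hom :=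
    isHomLift_id_of_eq (AlgSt.ofSp M).p y.2 _ (appIso_isHomLift e y.1)
  exact Groth.Agent.H32.PshStack.secAs_eq_of_hom (appIso e y.1).hom h1 _ _

end fibSec

section main
variable (F : 𝒳 ⥤ᵇ 𝒴)

/-- the coarse moduli map of the target of a gerbe-like functor through which maps to algebraic
spaces factor composes to a coarse moduli map of the source. -/
theorem isCoarseModuli_comp (iX : IsFibGrpd 𝒳.p)
    (hF : Gerb.IsGerbeOver (QuotSh.J Scheme.fppfPrecoverage S) F)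
    (huniv : ∀ (N : AlgSp.Sp S), AlgSp.IsAlgSpace N → ∀ φ : 𝒳 ⥤ᵇ AlgSt.ofSp N,
      ∃ ψ : 𝒴 ⥤ᵇ AlgSt.ofSp N, Nonempty (BasedFunctor.comp F ψ ≅ φ) ∧
        ∀ ψ' : 𝒴 ⥤ᵇ AlgSt.ofSp N, Nonempty (BasedFunctor.comp F ψ' ≅ φ) → Nonempty (ψ' ≅ ψ))
    (M : AlgSp.Sp S) (π : 𝒴 ⥤ᵇ AlgSt.ofSp M) (hπ : AlgSt.IsCoarseModuli π) :
    AlgSt.IsCoarseModuli (BasedFunctor.comp F π) := by
  obtain ⟨⟨hM, hcat⟩, hgeo⟩ := hπ
  refine ⟨⟨hM, ?_⟩, ?_⟩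
  · intro N hN φ
    obtain ⟨ψ, ⟨e⟩, huq⟩ := huniv N hN φ
    obtain ⟨g, ⟨eg⟩, guq⟩ := hcat N hN ψ
    refine ⟨g, ⟨whiskerLeftIso F eg ≪≫ e⟩, ?_⟩
    rintro g' ⟨e'⟩
    apply guq g'
    exact huq (BasedFunctor.comp π (AlgSt.ofSpMap g')) ⟨e'⟩
  · intro Ω _ _ t
    obtain ⟨h1, h2⟩ := hgeo Ω t
    refine ⟨?_, ?_⟩
    · intro m
      obtain ⟨y, hy⟩ := h1 m
      obtain ⟨x, mm, hmm⟩ := exists_fiber_lift F hF.1 t y
      refine ⟨x, ?_⟩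
      rw [fibSec_comp, ← hy]
      exact fibSec_eq_of_hom π _ y mm hmm
    · intro x x' hxx
      rw [fibSec_comp, fibSec_comp] at hxx
      obtain ⟨e⟩ := h2 _ _ hxx
      exact nonempty_fiber_iso_of_hom iX F hF.2 t x x' e.hom.1 e.hom.2

/-- conversely a coarse moduli map of the source descends to one of the target. -/
theorem isCoarseModuli_of_comp (iY : IsFibGrpd 𝒴.p)
    (hF : Gerb.IsGerbeOver (QuotSh.J Scheme.fppfPrecoverage S) F)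
    (huniv : ∀ (N : AlgSp.Sp S), AlgSp.IsAlgSpace N → ∀ φ : 𝒳 ⥤ᵇ AlgSt.ofSp N,
      ∃ ψ : 𝒴 ⥤ᵇ AlgSt.ofSp N, Nonempty (BasedFunctor.comp F ψ ≅ φ) ∧
        ∀ ψ' : 𝒴 ⥤ᵇ AlgSt.ofSp N, Nonempty (BasedFunctor.comp F ψ' ≅ φ) → Nonempty (ψ' ≅ ψ))
    (M : AlgSp.Sp S) (π' : 𝒳 ⥤ᵇ AlgSt.ofSp M) (hπ : AlgSt.IsCoarseModuli π') :
    ∃ ψ : 𝒴 ⥤ᵇ AlgSt.ofSp M, AlgSt.IsCoarseModuli ψ := by
  obtain ⟨⟨hM, hcat⟩, hgeo⟩ := hπ
  obtain ⟨ψ, ⟨e⟩, -⟩ := huniv M hM π'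
  refine ⟨ψ, ⟨hM, ?_⟩, ?_⟩
  · intro N hN φ
    obtain ⟨g, ⟨eg⟩, guq⟩ := hcat N hN (BasedFunctor.comp F φ)
    obtain ⟨ψ₀, -, huq₀⟩ := huniv N hN (BasedFunctor.comp F φ)
    obtain ⟨a⟩ := huq₀ (BasedFunctor.comp ψ (AlgSt.ofSpMap g))
      ⟨whiskerRightIso e (AlgSt.ofSpMap g) ≪≫ eg⟩
    obtain ⟨b⟩ := huq₀ φ ⟨Iso.refl _⟩
    refine ⟨g, ⟨a ≪≫ b.symm⟩, ?_⟩
    rintro g' ⟨e'⟩
    apply guq g'
    exact ⟨(whiskerRightIso e (AlgSt.ofSpMap g')).symm ≪≫ whiskerLeftIso F e'⟩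
  · intro Ω _ _ t
    obtain ⟨h1, h2⟩ := hgeo Ω t
    refine ⟨?_, ?_⟩
    · intro m
      obtain ⟨x, hx⟩ := h1 m
      refine ⟨⟨F.obj x.1, (F.w_obj x.1).trans x.2⟩, ?_⟩
      rw [← hx, ← fibSec_congr e x]
      rfl
    · intro y y' hyy
      obtain ⟨x, mm, hmm⟩ := exists_fiber_lift F hF.1 t y
      obtain ⟨x', mm', hmm'⟩ := exists_fiber_lift F hF.1 t y'
      have e1 : AlgSt.fibSec π' x = AlgSt.fibSec ψ y := by
        rw [← fibSec_congr e x, fibSec_comp]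
        exact fibSec_eq_of_hom ψ _ y mm hmm
      have e2 : AlgSt.fibSec π' x' = AlgSt.fibSec ψ y' := by
        rw [← fibSec_congr e x', fibSec_comp]
        exact fibSec_eq_of_hom ψ _ y' mm' hmm'
      obtain ⟨ex⟩ := h2 x x' (e1.trans (hyy.trans e2.symm))
      have imm : IsIso mm := isIso_of_isFibGrpd 𝒴.p iY (𝟙 (Over.mk t)) mm
      have hinv : 𝒴.p.IsHomLift (𝟙 (Over.mk t)) (inv mm) := by
        have : 𝒴.p.IsHomLift (inv (𝟙 (Over.mk t))) (inv mm) := inferInstance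
        simpa using this
      have hFe : 𝒴.p.IsHomLift (𝟙 (Over.mk t)) (F.map ex.hom.1) :=
        (BasedFunctor.isHomLift_iff F _ _).mpr ex.hom.2
      exact nonempty_fiber_iso iY y y' (inv mm ≫ F.map ex.hom.1 ≫ mm')
        (lift_id_comp _ _ _ _ hinv (lift_id_comp _ _ _ _ hFe hmm'))

end main

end Groth.Agent.H65.CoarseGerbe
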