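import Mathlib

/-!
# Colon ideals: localization away from an element, and the local computation for
two principal ideals whose sum is principal (all generators nonzerodivisors).
-/

set_option autoImplicit false

namespace Groth.Agent.H65.ColonRing

open Submodule

/-- Colon ideals by a finitely generated ideal commute with localization away from an element. -/
theorem map_colon_away {A S : Type*} [CommRing A] [CommRing S] [Algebra A S] (f : A)
    [IsLocalization.Away f S] (I E : Ideal A) (hE : E.FG) :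
    (I.colon (E : Set A)).map (algebraMap A S) =
      (I.map (algebraMap A S)).colon ((E.map (algebraMap A S) : Ideal S) : Set S) := by
  apply le_antisymm
  · rw [Ideal.map_le_iff_le_comap]
    intro a ha
    rw [Ideal.mem_comap]
    have h1 : (I.map (algebraMap A S)).colon ((E.map (algebraMap A S) : Ideal S) : Set S) =
        (I.map (algebraMap A S)).colon ((algebraMap A S) '' (E : Set A)) :=
      Ideal.colon_span (I := I.map (algebraMap A S)) (S := (algebraMap A S) '' (E : Set A))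
    rw [h1, mem_colon]
    rintro _ ⟨e, he, rfl⟩
    rw [smul_eq_mul, ← map_mul]
    exact Ideal.mem_map_of_mem _ (by simpa using (mem_colon.mp ha) e he)
  · intro b hb
    obtain ⟨s, rfl⟩ := hE
    obtain ⟨⟨a', ⟨_, N, rfl⟩⟩, hab⟩ := IsLocalization.surj (Submonoid.powers f) b
    simp only at hab
    -- for each generator an exponent
    have key : ∀ e ∈ s, ∃ m : ℕ, f ^ m * (a' * e) ∈ I := by
      intro e he
      have he' : algebraMap A S e ∈ ((Ideal.span (s : Set A)).map (algebraMap A S) : Ideal S) :=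
        Ideal.mem_map_of_mem _ (Ideal.subset_span he)
      have h2 : b * algebraMap A S e ∈ I.map (algebraMap A S) := by
        simpa using (mem_colon.mp hb) _ he'
      have h3 : algebraMap A S (a' * e) ∈ I.map (algebraMap A S) := by
        rw [map_mul, ← hab]
        have : b * algebraMap A S (f ^ N) * algebraMap A S e =
            algebraMap A S (f ^ N) * (b * algebraMap A S e) := by ring
        rw [this]
        exact Ideal.mul_mem_left _ _ h2
      rw [IsLocalization.mem_map_algebraMap_iff (Submonoid.powers f)] at h3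
      obtain ⟨⟨⟨c, hc⟩, ⟨_, m, rfl⟩⟩, h4⟩ := h3
      simp only at h4
      rw [← map_mul, IsLocalization.eq_iff_exists (Submonoid.powers f)] at h4
      obtain ⟨⟨_, k, rfl⟩, h5⟩ := h4
      simp only at h5
      refine ⟨k + m, ?_⟩
      have : f ^ (k + m) * (a' * e) = f ^ k * (a' * e * f ^ m) := by ring
      rw [this, h5]
      exact Ideal.mul_mem_left _ _ hc
    choose! m hm using key
    classical
    set M := s.sup m with hM
    have hmem : f ^ M * a' ∈ I.colon ((Ideal.span (s : Set A) : Ideal A) : Set A) := by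
      rw [Ideal.colon_span, mem_colon]
      intro e he
      have hle : m e ≤ M := Finset.le_sup (f := m) he
      obtain ⟨d, hd⟩ := Nat.exists_eq_add_of_le hle
      have : (f ^ M * a') • e = f ^ d * (f ^ m e * (a' * e)) := by
        rw [smul_eq_mul, hd, pow_add]; ring
      rw [this]
      exact Ideal.mul_mem_left _ _ (hm e he)
    rw [IsLocalization.mem_map_algebraMap_iff (Submonoid.powers f)]
    refine ⟨⟨⟨f ^ M * a', hmem⟩, ⟨f ^ (M + N), M + N, rfl⟩⟩, ?_⟩
    simp only
    rw [map_mul, ← hab, pow_add, map_mul]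
    ring

/-- The local computation: `(f₁) + (f₂) = (g)` with all three generators nonzerodivisors. -/
theorem local_structure {A : Type*} [CommRing A] (f₁ f₂ g : A)
    (hf₁ : f₁ ∈ nonZeroDivisors A) (hf₂ : f₂ ∈ nonZeroDivisors A) (hg : g ∈ nonZeroDivisors A)
    (h : Ideal.span {f₁} ⊔ Ideal.span {f₂} = Ideal.span {g}) :
    ∃ a₁ a₂ : A, a₁ ∈ nonZeroDivisors A ∧ a₂ ∈ nonZeroDivisors A ∧ f₁ = a₁ * g ∧ f₂ = a₂ * g ∧
      Ideal.span {a₁} ⊔ Ideal.span {a₂} = ⊤ ∧
      (Ideal.span {f₁}).colon ((Ideal.span {g} : Ideal A) : Set A) = Ideal.span {a₁} ∧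
      (Ideal.span {f₂}).colon ((Ideal.span {g} : Ideal A) : Set A) = Ideal.span {a₂} ∧
      Ideal.span {f₁} ⊓ Ideal.span {f₂} ≤ Ideal.span {a₁ * a₂ * g} := by
  have h1 : f₁ ∈ Ideal.span {g} := h ▸ (le_sup_left : Ideal.span {f₁} ≤ _) (Ideal.mem_span_singleton_self f₁)
  have h2 : f₂ ∈ Ideal.span {g} := h ▸ (le_sup_right : Ideal.span {f₂} ≤ _) (Ideal.mem_span_singleton_self f₂)
  obtain ⟨a₁, ha₁⟩ := Ideal.mem_span_singleton'.mp h1
  obtain ⟨a₂, ha₂⟩ := Ideal.mem_span_singleton'.mp h2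
  have h3 : g ∈ Ideal.span {f₁} ⊔ Ideal.span {f₂} := h ▸ Ideal.mem_span_singleton_self g
  obtain ⟨y₁, hy₁, y₂, hy₂, hyy⟩ := Submodule.mem_sup.mp h3
  obtain ⟨b₁, hb₁⟩ := Ideal.mem_span_singleton'.mp hy₁
  obtain ⟨b₂, hb₂⟩ := Ideal.mem_span_singleton'.mp hy₂
  have hone : b₁ * a₁ + b₂ * a₂ = 1 := by
    have : (b₁ * a₁ + b₂ * a₂ - 1) * g = 0 := by
      have : (b₁ * a₁ + b₂ * a₂ - 1) * g = b₁ * (a₁ * g) + b₂ * (a₂ * g) - g := by ring
      rw [this, ha₁, ha₂, hb₁, hb₂, hyy, sub_self]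
    have := (mem_nonZeroDivisors_iff.mp hg).2 _ this
    exact sub_eq_zero.mp this
  have hcancel : ∀ x y : A, x * g = y * g → x = y := by
    intro x y hxy
    have : (x - y) * g = 0 := by rw [sub_mul, hxy, sub_self]
    exact sub_eq_zero.mp ((mem_nonZeroDivisors_iff.mp hg).2 _ this)
  have hna₁ : a₁ ∈ nonZeroDivisors A := by
    rw [mem_nonZeroDivisors_iff]
    refine ⟨fun x hx => ?_, fun x hx => ?_⟩
    · apply (mem_nonZeroDivisors_iff.mp hf₁).1
      rw [← ha₁]
      calc a₁ * g * x = (a₁ * x) * g := by ring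
        _ = 0 := by rw [hx, zero_mul]
    · apply (mem_nonZeroDivisors_iff.mp hf₁).2
      rw [← ha₁, ← mul_assoc, hx, zero_mul]
  have hna₂ : a₂ ∈ nonZeroDivisors A := by
    rw [mem_nonZeroDivisors_iff]
    refine ⟨fun x hx => ?_, fun x hx => ?_⟩
    · apply (mem_nonZeroDivisors_iff.mp hf₂).1
      rw [← ha₂]
      calc a₂ * g * x = (a₂ * x) * g := by ring
        _ = 0 := by rw [hx, zero_mul]
    · apply (mem_nonZeroDivisors_iff.mp hf₂).2
      rw [← ha₂, ← mul_assoc, hx, zero_mul]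
  have hcolon : ∀ (a f : A), a * g = f →
      (Ideal.span {f}).colon ((Ideal.span {g} : Ideal A) : Set A) = Ideal.span {a} := by
    intro a f haf
    ext r
    rw [Ideal.mem_colon_span_singleton, Ideal.mem_span_singleton', Ideal.mem_span_singleton']
    constructor
    · rintro ⟨c, hc⟩
      refine ⟨c, hcancel _ _ ?_⟩
      rw [← hc, ← haf]; ring
    · rintro ⟨c, rfl⟩
      exact ⟨c, by rw [← haf]; ring⟩
  refine ⟨a₁, a₂, hna₁, hna₂, ha₁.symm, ha₂.symm, ?_, hcolon a₁ f₁ ha₁, hcolon a₂ f₂ ha₂, ?_⟩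
  · rw [Ideal.eq_top_iff_one, ← hone]
    exact Submodule.add_mem_sup (Ideal.mul_mem_left _ _ (Ideal.mem_span_singleton_self a₁))
      (Ideal.mul_mem_left _ _ (Ideal.mem_span_singleton_self a₂))
  · rintro d ⟨hd₁, hd₂⟩
    obtain ⟨c₁, hc₁⟩ := Ideal.mem_span_singleton'.mp hd₁
    obtain ⟨c₂, hc₂⟩ := Ideal.mem_span_singleton'.mp hd₂
    rw [Ideal.mem_span_singleton']
    refine ⟨c₂ * b₁ + c₁ * b₂, ?_⟩
    calc (c₂ * b₁ + c₁ * b₂) * (a₁ * a₂ * g)
        = (c₂ * (a₂ * g)) * (b₁ * a₁) + (c₁ * (a₁ * g)) * (b₂ * a₂) := by ring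
      _ = d * (b₁ * a₁) + d * (b₂ * a₂) := by rw [ha₁, ha₂, hc₁, hc₂]
      _ = d := by rw [← mul_add, hone, mul_one]

end Groth.Agent.H65.ColonRing
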