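import Mathlib
import Groth.Prelude.Def_BlowUp2
import Groth.Agent.H65.ColonRing

/-!
# Colon ideal sheaves `(I : E)` for `E` locally principal, and common principal charts.
-/

set_option autoImplicit false

universe u

open CategoryTheory AlgebraicGeometry TopologicalSpace

namespace Groth.Agent.H65.ColonSheaf

variable {X : Scheme.{u}}

/-- `I` is generated by a nonzerodivisor on the affine open `U`. -/
def PrincOn (I : X.IdealSheafData) (U : X.affineOpens) : Prop :=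
  ∃ f : Γ(X, U.1), f ∈ nonZeroDivisors Γ(X, U.1) ∧ I.ideal U = Ideal.span {f}

lemma PrincOn.basicOpen {I : X.IdealSheafData} {U : X.affineOpens} (h : PrincOn I U)
    (r : Γ(X, U.1)) : PrincOn I (X.affineBasicOpen r) := by
  obtain ⟨f, hf, hI⟩ := h
  haveI := U.2.isLocalization_basicOpen r
  refine ⟨(X.presheaf.map (homOfLE (X.basicOpen_le r)).op).hom f, ?_, ?_⟩
  · exact IsLocalization.map_nonZeroDivisors_le (Submonoid.powers r) Γ(X, X.basicOpen r)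
      (Submonoid.mem_map_of_mem _ hf)
  · rw [← I.map_ideal_basicOpen U r, hI, Ideal.map_span, Set.image_singleton]
    rfl

lemma exists_common₂ {I J : X.IdealSheafData} (hI : BlowUp.IsEffCartierIdeal I)
    (hJ : BlowUp.IsEffCartierIdeal J) (x : X) :
    ∃ W : X.affineOpens, x ∈ W.1 ∧ PrincOn I W ∧ PrincOn J W := by
  obtain ⟨U, hxU, f, hf, hfI⟩ := hI x
  obtain ⟨V, hxV, g, hg, hgJ⟩ := hJ x
  obtain ⟨r, s, hrs, hxr⟩ := exists_basicOpen_le_affine_inter U.2 V.2 x ⟨hxU, hxV⟩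
  have e : X.affineBasicOpen r = X.affineBasicOpen s := Subtype.ext hrs
  refine ⟨X.affineBasicOpen r, hxr, PrincOn.basicOpen ⟨f, hf, hfI⟩ r, ?_⟩
  rw [e]
  exact PrincOn.basicOpen ⟨g, hg, hgJ⟩ s

lemma exists_common₃ {I J K : X.IdealSheafData} (hI : BlowUp.IsEffCartierIdeal I)
    (hJ : BlowUp.IsEffCartierIdeal J) (hK : BlowUp.IsEffCartierIdeal K) (x : X) :
    ∃ W : X.affineOpens, x ∈ W.1 ∧ PrincOn I W ∧ PrincOn J W ∧ PrincOn K W := by
  obtain ⟨U, hxU, hIU, hJU⟩ := exists_common₂ hI hJ x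
  obtain ⟨V, hxV, g, hg, hgK⟩ := hK x
  obtain ⟨r, s, hrs, hxr⟩ := exists_basicOpen_le_affine_inter U.2 V.2 x ⟨hxU, hxV⟩
  have e : X.affineBasicOpen r = X.affineBasicOpen s := Subtype.ext hrs
  refine ⟨X.affineBasicOpen r, hxr, hIU.basicOpen r, hJU.basicOpen r, ?_⟩
  rw [e]
  exact PrincOn.basicOpen ⟨g, hg, hgK⟩ s

/-- The ideal of an effective Cartier ideal sheaf is finitely generated on every affine open. -/
theorem ideal_fg (E : X.IdealSheafData) (hE : BlowUp.IsEffCartierIdeal E) (U : X.affineOpens) :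
    (E.ideal U).FG := by
  choose W hxW g _ hgE using hE
  have hW : (⨆ x, (W x : X.Opens)) = ⊤ :=
    top_le_iff.mp fun x _ => Opens.mem_iSup.mpr ⟨x, hxW x⟩
  refine of_affine_open_cover (P := fun U => (E.ideal U).FG) W hW U ?_ ?_ ?_
  · intro U f hU
    rw [← E.map_ideal_basicOpen U f]
    exact hU.map _
  · intro U s hs H
    apply Ideal.fg_of_localizationSpan (s : Set Γ(X, U.1)) hs
    rintro ⟨r, hr⟩
    haveI := U.2.isLocalization_basicOpen r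
    let e : Γ(X, X.basicOpen r) ≃ₐ[Γ(X, U.1)] Localization.Away r :=
      IsLocalization.algEquiv (Submonoid.powers r) _ _
    have h1 : (E.ideal U).map (algebraMap Γ(X, U.1) (Localization.Away r)) =
        ((E.ideal U).map (algebraMap Γ(X, U.1) Γ(X, X.basicOpen r))).map
          (e : Γ(X, X.basicOpen r) →+* Localization.Away r) := by
      rw [Ideal.map_map]
      congr 1
      ext a
      simp [e]
    rw [h1]
    apply Ideal.FG.map
    have h2 := H ⟨r, hr⟩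
    rw [← E.map_ideal_basicOpen U r] at h2
    exact h2
  · intro x
    rw [hgE x]
    exact ⟨{g x}, by simp⟩

/-- The colon ideal sheaf `(I : E)` for `E` of finite type. -/
noncomputable def colon (I E : X.IdealSheafData) (hE : ∀ U, (E.ideal U).FG) :
    X.IdealSheafData where
  ideal U := (I.ideal U).colon ((E.ideal U : Ideal Γ(X, U.1)) : Set Γ(X, U.1))
  map_ideal_basicOpen U f := by
    haveI := U.2.isLocalization_basicOpen f
    have h := ColonRing.map_colon_away (S := Γ(X, X.basicOpen f)) f (I.ideal U) (E.ideal U) (hE U)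
    rw [← I.map_ideal_basicOpen U f, ← E.map_ideal_basicOpen U f]
    exact h

@[simp] lemma colon_ideal (I E : X.IdealSheafData) (hE : ∀ U, (E.ideal U).FG)
    (U : X.affineOpens) :
    (colon I E hE).ideal U =
      (I.ideal U).colon ((E.ideal U : Ideal Γ(X, U.1)) : Set Γ(X, U.1)) := rfl

/-- `D₁ - E`, `D₂ - E` for effective Cartier divisors `D₁`, `D₂` with `E = D₁ ∩ D₂` effective
Cartier. -/
theorem main (I₁ I₂ : X.IdealSheafData)
    (h₁ : BlowUp.IsEffCartierIdeal I₁) (h₂ : BlowUp.IsEffCartierIdeal I₂)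
    (hE : BlowUp.IsEffCartierIdeal (I₁ ⊔ I₂)) :
    ∃ I₁' I₂' : X.IdealSheafData, BlowUp.IsEffCartierIdeal I₁' ∧ BlowUp.IsEffCartierIdeal I₂' ∧
      I₁ = I₁' * (I₁ ⊔ I₂) ∧ I₂ = I₂' * (I₁ ⊔ I₂) ∧ I₁' ⊔ I₂' = ⊤ ∧
      ∀ D : X.IdealSheafData, BlowUp.IsEffCartierIdeal D → D ≤ I₁ → D ≤ I₂ →
        D ≤ I₁' * I₂' * (I₁ ⊔ I₂) := by
  have hfg := ideal_fg (I₁ ⊔ I₂) hE
  have key : ∀ x : X, ∃ W : X.affineOpens, x ∈ W.1 ∧ ∃ a₁ a₂ g : Γ(X, W.1),
      a₁ ∈ nonZeroDivisors Γ(X, W.1) ∧ a₂ ∈ nonZeroDivisors Γ(X, W.1) ∧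
      I₁.ideal W = Ideal.span {a₁ * g} ∧ I₂.ideal W = Ideal.span {a₂ * g} ∧
      (I₁ ⊔ I₂).ideal W = Ideal.span {g} ∧
      Ideal.span {a₁} ⊔ Ideal.span {a₂} = ⊤ ∧
      (colon I₁ (I₁ ⊔ I₂) hfg).ideal W = Ideal.span {a₁} ∧
      (colon I₂ (I₁ ⊔ I₂) hfg).ideal W = Ideal.span {a₂} ∧
      I₁.ideal W ⊓ I₂.ideal W ≤ Ideal.span {a₁ * a₂ * g} := by
    intro x
    obtain ⟨W, hxW, ⟨f₁, hf₁, e₁⟩, ⟨f₂, hf₂, e₂⟩, ⟨g, hg, eg⟩⟩ := exists_common₃ h₁ h₂ hE x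
    have hsup : Ideal.span {f₁} ⊔ Ideal.span {f₂} = Ideal.span {g} := by
      rw [← e₁, ← e₂, ← eg]; rfl
    obtain ⟨a₁, a₂, ha₁, ha₂, hfa₁, hfa₂, htop, hc₁, hc₂, hinf⟩ :=
      ColonRing.local_structure f₁ f₂ g hf₁ hf₂ hg hsup
    refine ⟨W, hxW, a₁, a₂, g, ha₁, ha₂, by rw [e₁, hfa₁], by rw [e₂, hfa₂], eg, htop, ?_, ?_, ?_⟩
    · rw [colon_ideal, e₁, eg]; exact hc₁
    · rw [colon_ideal, e₂, eg]; exact hc₂
    · rw [e₁, e₂]; exact hinf
  choose W hxW a₁ a₂ g ha₁ ha₂ e₁ e₂ eg htop hc₁ hc₂ hinf using key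
  have hW : (⨆ x, (W x : X.Opens)) = ⊤ :=
    top_le_iff.mp fun x _ => Opens.mem_iSup.mpr ⟨x, hxW x⟩
  refine ⟨colon I₁ (I₁ ⊔ I₂) hfg, colon I₂ (I₁ ⊔ I₂) hfg, ?_, ?_, ?_, ?_, ?_, ?_⟩
  · intro x
    exact ⟨W x, hxW x, a₁ x, ha₁ x, hc₁ x⟩
  · intro x
    exact ⟨W x, hxW x, a₂ x, ha₂ x, hc₂ x⟩
  · refine Scheme.IdealSheafData.ext_of_iSup_eq_top W hW fun x => ?_
    show I₁.ideal (W x) = (colon I₁ (I₁ ⊔ I₂) hfg).ideal (W x) * (I₁ ⊔ I₂).ideal (W x)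
    rw [hc₁ x, eg x, e₁ x, Ideal.span_singleton_mul_span_singleton]
  · refine Scheme.IdealSheafData.ext_of_iSup_eq_top W hW fun x => ?_
    show I₂.ideal (W x) = (colon I₂ (I₁ ⊔ I₂) hfg).ideal (W x) * (I₁ ⊔ I₂).ideal (W x)
    rw [hc₂ x, eg x, e₂ x, Ideal.span_singleton_mul_span_singleton]
  · refine Scheme.IdealSheafData.ext_of_iSup_eq_top W hW fun x => ?_
    show (colon I₁ (I₁ ⊔ I₂) hfg).ideal (W x) ⊔ (colon I₂ (I₁ ⊔ I₂) hfg).ideal (W x) = ⊤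
    rw [hc₁ x, hc₂ x]
    exact htop x
  · intro D _ hD₁ hD₂
    refine Scheme.IdealSheafData.le_of_iSup_eq_top W hW fun x => ?_
    show D.ideal (W x) ≤ (colon I₁ (I₁ ⊔ I₂) hfg).ideal (W x) *
      (colon I₂ (I₁ ⊔ I₂) hfg).ideal (W x) * (I₁ ⊔ I₂).ideal (W x)
    rw [hc₁ x, hc₂ x, eg x, Ideal.span_singleton_mul_span_singleton,
      Ideal.span_singleton_mul_span_singleton]
    exact (le_inf (hD₁ (W x)) (hD₂ (W x))).trans (hinf x)

end Groth.Agent.H65.ColonSheaf
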