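import Groth.Agent.H51.DescCrit
import Mathlib.AlgebraicGeometry.RelativeGluing

/-!
# Effectivity of descent data for schemes is Zariski-local on the base (helper65, for helper51)

`isEffective_of_affineOpens`: a descent datum relative to an fpqc covering family of `S` whose
restriction to every affine open of `S` is effective is effective.
-/

set_option autoImplicit false
set_option backward.isDefEq.respectTransparency false
set_option backward.isDefEq.respectTransparency.types false
universe u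

open CategoryTheory CategoryTheory.Limits AlgebraicGeometry Desc

namespace Groth.Agent.H65.DescLoc

open Groth.Agent.H51.DescCrit

section General

variable {S : Scheme.{u}} {ι : Type u} {X : ι → Scheme.{u}} {f : ∀ i, X i ⟶ S}

theorem φ_congr (D : SchDDFam f) {T : Scheme.{u}} {i j : ι} {x₀ x₀' : T ⟶ X i}
    {x₁ x₁' : T ⟶ X j} (h : x₀ ≫ f i = x₁ ≫ f j) (h' : x₀' ≫ f i = x₁' ≫ f j) (e₀ : x₀ = x₀')
    (e₁ : x₁ = x₁') (v : Lifts (D.obj i) x₀) (v' : Lifts (D.obj i) x₀') (hv : v.1 = v'.1) :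
    (D.φ x₀ x₁ h v).1 = (D.φ x₀' x₁' h' v').1 := by
  subst e₀ e₁
  have : v = v' := Subtype.ext hv
  subst this
  rfl

variable {D : SchDDFam f} {W W' : Over S} {k : ∀ i, (D.obj i).left ⟶ W.left}
  {k' : ∀ i, (D.obj i).left ⟶ W'.left}

theorem IsSol.hom_ext (hs : IsSol D W k) (hf : Presieve.ofArrows X f ∈ Scheme.fpqcPrecoverage S)
    {Y : Scheme.{u}} (t t' : W.left ⟶ Y) (h : ∀ i, k i ≫ t = k i ≫ t') : t = t' := by
  obtain ⟨u, -, hu⟩ := hs.existsUnique_desc hf (fun i => k i ≫ t)
    (fun T i j x₀ x₁ h v => by rw [← Category.assoc, hs.inv, Category.assoc])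
  exact (hu t (fun _ => rfl)).trans (hu t' (fun i => (h i).symm)).symm

theorem IsSol.exists_iso (hf : Presieve.ofArrows X f ∈ Scheme.fpqcPrecoverage S)
    (hs : IsSol D W k) (hs' : IsSol D W' k') :
    ∃ t : W.left ≅ W'.left, (∀ i, k i ≫ t.hom = k' i) ∧ t.hom ≫ W'.hom = W.hom := by
  obtain ⟨t, ht, -⟩ := hs.existsUnique_desc hf k' hs'.inv
  obtain ⟨t', ht', -⟩ := hs'.existsUnique_desc hf k hs.inv
  have h1 : t ≫ t' = 𝟙 _ := IsSol.hom_ext hs hf _ _ (fun i => by
    rw [← Category.assoc, ht, ht', Category.comp_id])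
  have h2 : t' ≫ t = 𝟙 _ := IsSol.hom_ext hs' hf _ _ (fun i => by
    rw [← Category.assoc, ht', ht, Category.comp_id])
  refine ⟨⟨t, t', h1, h2⟩, ht, ?_⟩
  refine IsSol.hom_ext hs hf _ _ (fun i => ?_)
  change k i ≫ t ≫ W'.hom = k i ≫ W.hom
  rw [← Category.assoc, ht, (hs.sq i).w, (hs'.sq i).w]

end General

section Local

variable {S : Scheme.{u}} {ι : Type u} {X : ι → Scheme.{u}} (f : ∀ i, X i ⟶ S)

/-- The restriction of a descent datum to an affine open of the base. -/
noncomputable abbrev Da (D : SchDDFam f) (a : S.affineOpens) :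
    SchDDFam (fun i => pullback.snd (f i) a.1.ι) :=
  (pullDDFam (f := f) (f' := fun i => pullback.snd (f i) a.1.ι) (α := id) (p := a.1.ι)
    (p' := fun i => pullback.fst (f i) a.1.ι) (fun _ => pullback.condition)).obj D

/-- The cover of `X i` by the preimages of the affine opens of `S`. -/
noncomputable abbrev cX (i : ι) : (X i).OpenCover := S.directedAffineCover.pullback₁ (f i)

variable {f}

/-- The cover of `D.obj i` by the preimages of the affine opens of `S`. -/
noncomputable abbrev cV (D : SchDDFam f) (i : ι) : (D.obj i).left.OpenCover :=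
  (cX f i).pullback₁ (D.obj i).hom

theorem mem_fpqc_a (hf : Presieve.ofArrows X f ∈ Scheme.fpqcPrecoverage S) (a : S.affineOpens) :
    Presieve.ofArrows (fun i => pullback (f i) a.1.ι) (fun i => pullback.snd (f i) a.1.ι) ∈
      Scheme.fpqcPrecoverage (a.1 : Scheme.{u}) :=
  Precoverage.mem_coverings_of_isPullback f hf a.1.ι _ (fun i => pullback.fst (f i) a.1.ι)
    (fun i => (IsPullback.of_hasPullback (f i) a.1.ι).flip)

variable (D : SchDDFam f)

theorem Da_φ_fst (a : S.affineOpens) {T : Scheme.{u}} {i j : ι} (x₀ : T ⟶ pullback (f i) a.1.ι)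
    (x₁ : T ⟶ pullback (f j) a.1.ι)
    (h : x₀ ≫ pullback.snd (f i) a.1.ι = x₁ ≫ pullback.snd (f j) a.1.ι)
    (v : Lifts ((Da f D a).obj i) x₀) :
    ((Da f D a).φ x₀ x₁ h v).1 ≫ pullback.fst (D.obj j).hom (pullback.fst (f j) a.1.ι) =
      (D.φ (x₀ ≫ pullback.fst (f i) a.1.ι) (x₁ ≫ pullback.fst (f j) a.1.ι)
        (pull_compat (fun _ => pullback.condition) x₀ x₁ h)
        (liftsPullbackEquiv (D.obj i) (pullback.fst (f i) a.1.ι) x₀ v)).1 :=
  pullback.lift_fst _ _ _

theorem Da_φ_snd (a : S.affineOpens) {T : Scheme.{u}} {i j : ι} (x₀ : T ⟶ pullback (f i) a.1.ι)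
    (x₁ : T ⟶ pullback (f j) a.1.ι)
    (h : x₀ ≫ pullback.snd (f i) a.1.ι = x₁ ≫ pullback.snd (f j) a.1.ι)
    (v : Lifts ((Da f D a).obj i) x₀) :
    ((Da f D a).φ x₀ x₁ h v).1 ≫ pullback.snd (D.obj j).hom (pullback.fst (f j) a.1.ι) = x₁ :=
  ((Da f D a).φ x₀ x₁ h v).2

section Trans

variable {a b : S.directedAffineCover.I₀} (hab : a ⟶ b)

theorem cX_trans_fst (i : ι) :
    (cX f i).trans hab ≫ pullback.fst (f i) b.1.ι = pullback.fst (f i) a.1.ι :=
  (cX f i).trans_map hab

theorem cX_trans_snd (i : ι) :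
    (cX f i).trans hab ≫ pullback.snd (f i) b.1.ι =
      pullback.snd (f i) a.1.ι ≫ S.directedAffineCover.trans hab :=
  pullback.lift_snd _ _ _

theorem cV_trans_fst (i : ι) :
    (cV D i).trans hab ≫ pullback.fst (D.obj i).hom (pullback.fst (f i) b.1.ι) =
      pullback.fst (D.obj i).hom (pullback.fst (f i) a.1.ι) :=
  (cV D i).trans_map hab

theorem cV_trans_snd (i : ι) :
    (cV D i).trans hab ≫ pullback.snd (D.obj i).hom (pullback.fst (f i) b.1.ι) =
      pullback.snd (D.obj i).hom (pullback.fst (f i) a.1.ι) ≫ (cX f i).trans hab :=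
  pullback.lift_snd _ _ _

end Trans

section Trans2

variable {D} {a b : S.directedAffineCover.I₀} (hab : a ⟶ b) {Wb : Over (b.1 : Scheme.{u})}
  {kb : ∀ i, ((Da f D b).obj i).left ⟶ Wb.left} (hb : IsSol (Da f D b) Wb kb)

include hb in
theorem inv_trans ⦃T : Scheme.{u}⦄ ⦃i j : ι⦄ (x₀ : T ⟶ pullback (f i) a.1.ι)
    (x₁ : T ⟶ pullback (f j) a.1.ι)
    (h : x₀ ≫ pullback.snd (f i) a.1.ι = x₁ ≫ pullback.snd (f j) a.1.ι)
    (v : Lifts ((Da f D a).obj i) x₀) :
    ((Da f D a).φ x₀ x₁ h v).1 ≫ (cV D j).trans hab ≫ kb j =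
      v.1 ≫ (cV D i).trans hab ≫ kb i := by
  have h' : (x₀ ≫ (cX f i).trans hab) ≫ pullback.snd (f i) b.1.ι =
      (x₁ ≫ (cX f j).trans hab) ≫ pullback.snd (f j) b.1.ι := by
    rw [Category.assoc, Category.assoc, cX_trans_snd, cX_trans_snd, ← Category.assoc, h,
      Category.assoc]
  have hw : (v.1 ≫ (cV D i).trans hab) ≫ ((Da f D b).obj i).hom = x₀ ≫ (cX f i).trans hab := by
    change (v.1 ≫ (cV D i).trans hab) ≫ pullback.snd _ _ = _
    rw [Category.assoc]
    erw [cV_trans_snd D hab i]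
    rw [← Category.assoc]
    congr 1
    exact v.2
  have key := hb.inv (x₀ ≫ (cX f i).trans hab) (x₁ ≫ (cX f j).trans hab) h'
    ⟨v.1 ≫ (cV D i).trans hab, hw⟩
  have e : ((Da f D b).φ _ _ h' ⟨v.1 ≫ (cV D i).trans hab, hw⟩).1 =
      ((Da f D a).φ x₀ x₁ h v).1 ≫ (cV D j).trans hab := by
    apply pullback.hom_ext
    · have e2 : (((Da f D a).φ x₀ x₁ h v).1 ≫ (cV D j).trans hab) ≫
          pullback.fst (D.obj j).hom (pullback.fst (f j) b.1.ι) =
          (D.φ (x₀ ≫ pullback.fst (f i) a.1.ι) (x₁ ≫ pullback.fst (f j) a.1.ι)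
            (pull_compat (fun _ => pullback.condition) x₀ x₁ h)
            (liftsPullbackEquiv (D.obj i) (pullback.fst (f i) a.1.ι) x₀ v)).1 := by
        rw [Category.assoc]
        erw [cV_trans_fst D hab j]
        exact Da_φ_fst D a x₀ x₁ h v
      refine (Da_φ_fst D b _ _ h' _).trans (Eq.trans ?_ e2.symm)
      apply φ_congr
      · rw [Category.assoc, cX_trans_fst]
      · rw [Category.assoc, cX_trans_fst]
      · change (v.1 ≫ (cV D i).trans hab) ≫ pullback.fst _ _ = v.1 ≫ pullback.fst _ _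
        rw [Category.assoc]
        erw [cV_trans_fst D hab i]
        rfl
    · have e2 : (((Da f D a).φ x₀ x₁ h v).1 ≫ (cV D j).trans hab) ≫
          pullback.snd (D.obj j).hom (pullback.fst (f j) b.1.ι) = x₁ ≫ (cX f j).trans hab := by
        rw [Category.assoc]
        erw [cV_trans_snd D hab j]
        rw [← Category.assoc]
        congr 1
        exact Da_φ_snd D a x₀ x₁ h v
      exact (Da_φ_snd D b _ _ h' _).trans e2.symm
  rw [← Category.assoc, ← e, key, Category.assoc]

theorem isPullback_cX_trans (i : ι) :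
    IsPullback ((cX f i).trans hab) (pullback.snd (f i) a.1.ι) (pullback.snd (f i) b.1.ι)
      (S.directedAffineCover.trans hab) := by
  refine IsPullback.of_right ?_ (cX_trans_snd hab i) (IsPullback.of_hasPullback (f i) b.1.ι)
  have e1 : (cX f i).trans hab ≫ pullback.fst (f i) b.1.ι = pullback.fst (f i) a.1.ι :=
    cX_trans_fst hab i
  have e2 : S.directedAffineCover.trans hab ≫ b.1.ι = a.1.ι := S.directedAffineCover.trans_map hab
  rw [e1, e2]
  exact IsPullback.of_hasPullback (f i) a.1.ι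

theorem isPullback_cV_trans (i : ι) :
    IsPullback ((cV D i).trans hab) (pullback.snd (D.obj i).hom (pullback.fst (f i) a.1.ι))
      (pullback.snd (D.obj i).hom (pullback.fst (f i) b.1.ι)) ((cX f i).trans hab) := by
  refine IsPullback.of_right ?_ (cV_trans_snd D hab i)
    (IsPullback.of_hasPullback (D.obj i).hom (pullback.fst (f i) b.1.ι))
  have e1 : (cV D i).trans hab ≫ pullback.fst (D.obj i).hom (pullback.fst (f i) b.1.ι) =
      pullback.fst (D.obj i).hom (pullback.fst (f i) a.1.ι) := cV_trans_fst D hab i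
  have e2 : (cX f i).trans hab ≫ pullback.fst (f i) b.1.ι = pullback.fst (f i) a.1.ι :=
    cX_trans_fst hab i
  rw [e1, e2]
  exact IsPullback.of_hasPullback (D.obj i).hom (pullback.fst (f i) a.1.ι)

/-- The restriction of a solution over `b` to `a ≤ b`. -/
noncomputable abbrev WP (Wb : Over (b.1 : Scheme.{u})) : Over (a.1 : Scheme.{u}) :=
  Over.mk (pullback.snd Wb.hom (S.directedAffineCover.trans hab))

include hb in
theorem kP_aux (i : ι) : ((cV D i).trans hab ≫ kb i) ≫ Wb.hom =
    (pullback.snd (D.obj i).hom (pullback.fst (f i) a.1.ι) ≫ pullback.snd (f i) a.1.ι) ≫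
      S.directedAffineCover.trans hab := by
  have e := (hb.sq i).w
  change kb i ≫ Wb.hom = pullback.snd (D.obj i).hom (pullback.fst (f i) b.1.ι) ≫
    pullback.snd (f i) b.1.ι at e
  rw [Category.assoc, e, ← Category.assoc, cV_trans_snd, Category.assoc, cX_trans_snd,
    Category.assoc]

/-- The maps making the restriction a solution. -/
noncomputable def kP (i : ι) : ((Da f D a).obj i).left ⟶ (WP hab Wb).left :=
  pullback.lift ((cV D i).trans hab ≫ kb i)
    (pullback.snd (D.obj i).hom (pullback.fst (f i) a.1.ι) ≫ pullback.snd (f i) a.1.ι)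
    (kP_aux hab hb i)

theorem kP_fst (i : ι) : kP hab hb i ≫ pullback.fst Wb.hom (S.directedAffineCover.trans hab) =
    (cV D i).trans hab ≫ kb i := pullback.lift_fst _ _ _

theorem kP_snd (i : ι) : kP hab hb i ≫ pullback.snd Wb.hom (S.directedAffineCover.trans hab) =
    pullback.snd (D.obj i).hom (pullback.fst (f i) a.1.ι) ≫ pullback.snd (f i) a.1.ι :=
  pullback.lift_snd _ _ _

theorem isSol_pull : IsSol (Da f D a) (WP hab Wb) (kP hab hb) where
  sq i := by
    change IsPullback (kP hab hb i) (pullback.snd (D.obj i).hom (pullback.fst (f i) a.1.ι))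
      (pullback.snd Wb.hom (S.directedAffineCover.trans hab)) (pullback.snd (f i) a.1.ι)
    refine IsPullback.of_right ?_ (kP_snd hab hb i)
      (IsPullback.of_hasPullback Wb.hom (S.directedAffineCover.trans hab))
    rw [kP_fst, ← cX_trans_snd]
    exact (isPullback_cV_trans hab i).paste_horiz (hb.sq i)
  inv T i j x₀ x₁ h v := by
    apply pullback.hom_ext
    · rw [Category.assoc, Category.assoc, kP_fst, kP_fst]
      exact inv_trans hab hb x₀ x₁ h v
    · rw [Category.assoc, Category.assoc, kP_snd, kP_snd, ← Category.assoc, ← Category.assoc]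
      have e1 := Da_φ_snd D a x₀ x₁ h v
      have e2 : v.1 ≫ pullback.snd (D.obj i).hom (pullback.fst (f i) a.1.ι) = x₀ := v.2
      rw [e1, e2, h]

end Trans2

section Glue

variable {D} (hf : Presieve.ofArrows X f ∈ Scheme.fpqcPrecoverage S)
  (W : ∀ a : S.directedAffineCover.I₀, Over (a.1 : Scheme.{u}))
  (k : ∀ (a : S.directedAffineCover.I₀) (i : ι), ((Da f D a).obj i).left ⟶ (W a).left)
  (hs : ∀ a, IsSol (Da f D a) (W a) (k a))

include hf hs in
theorem exists_ρ {a b : S.directedAffineCover.I₀} (hab : a ⟶ b) :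
    ∃! t : (W a).left ⟶ (W b).left, ∀ i, k a i ≫ t = (cV D i).trans hab ≫ k b i :=
  (hs a).existsUnique_desc (mem_fpqc_a hf a) (fun i => (cV D i).trans hab ≫ k b i)
    (inv_trans hab (hs b))

/-- The transition maps between the chosen local solutions. -/
noncomputable def ρ {a b : S.directedAffineCover.I₀} (hab : a ⟶ b) : (W a).left ⟶ (W b).left :=
  (exists_ρ hf W k hs hab).exists.choose

theorem k_ρ {a b : S.directedAffineCover.I₀} (hab : a ⟶ b) (i : ι) :
    k a i ≫ ρ hf W k hs hab = (cV D i).trans hab ≫ k b i :=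
  (exists_ρ hf W k hs hab).exists.choose_spec i

theorem ρ_id (a : S.directedAffineCover.I₀) : ρ hf W k hs (𝟙 a) = 𝟙 _ := by
  refine IsSol.hom_ext (hs a) (mem_fpqc_a hf a) _ _ (fun i => ?_)
  rw [k_ρ, (cV D i).trans_id, Category.id_comp, Category.comp_id]

theorem ρ_comp {a b c : S.directedAffineCover.I₀} (hab : a ⟶ b) (hbc : b ⟶ c) :
    ρ hf W k hs (hab ≫ hbc) = ρ hf W k hs hab ≫ ρ hf W k hs hbc := by
  refine IsSol.hom_ext (hs a) (mem_fpqc_a hf a) _ _ (fun i => ?_)
  rw [k_ρ, (cV D i).trans_comp, Category.assoc, ← k_ρ hf W k hs hbc, ← Category.assoc,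
    ← k_ρ hf W k hs hab, Category.assoc]

theorem ρ_hom {a b : S.directedAffineCover.I₀} (hab : a ⟶ b) :
    ρ hf W k hs hab ≫ (W b).hom = (W a).hom ≫ S.directedAffineCover.trans hab := by
  refine IsSol.hom_ext (hs a) (mem_fpqc_a hf a) _ _ (fun i => ?_)
  rw [← Category.assoc, k_ρ]
  have ea := ((hs a).sq i).w
  change k a i ≫ (W a).hom = pullback.snd (D.obj i).hom (pullback.fst (f i) a.1.ι) ≫
    pullback.snd (f i) a.1.ι at ea
  rw [← Category.assoc, ea]
  exact kP_aux hab (hs b) i

theorem isPullback_ρ {a b : S.directedAffineCover.I₀} (hab : a ⟶ b) :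
    IsPullback (ρ hf W k hs hab) (W a).hom (W b).hom (S.directedAffineCover.trans hab) := by
  obtain ⟨t, ht, ht'⟩ := IsSol.exists_iso (mem_fpqc_a hf a) (hs a) (isSol_pull hab (hs b))
  refine IsPullback.of_iso_pullback ⟨ρ_hom hf W k hs hab⟩ t ?_ ht'
  refine IsSol.hom_ext (hs a) (mem_fpqc_a hf a) _ _ (fun i => ?_)
  rw [← Category.assoc, ht, kP_fst, k_ρ]

/-- The relative gluing datum of the local solutions. -/
noncomputable def gd : Scheme.Cover.RelativeGluingData S.directedAffineCover where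
  functor :=
    { obj := fun a => (W a).left
      map := fun hab => ρ hf W k hs hab
      map_id := fun a => ρ_id hf W k hs a
      map_comp := fun hab hbc => ρ_comp hf W k hs hab hbc }
  natTrans :=
    { app := fun a => (W a).hom
      naturality := fun a b hab => ρ_hom hf W k hs hab }
  equifibered := fun a b hab => isPullback_ρ hf W k hs hab

/-- The glued solution. -/
noncomputable abbrev WG : Over S := Over.mk (gd hf W k hs).toBase

theorem kG_aux (i : ι) {a b : S.directedAffineCover.I₀} (hab : a ⟶ b) :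
    (cV D i).trans hab ≫ k b i ≫ colimit.ι (gd hf W k hs).functor b =
      k a i ≫ colimit.ι (gd hf W k hs).functor a := by
  rw [← Category.assoc, ← k_ρ hf W k hs hab, Category.assoc]
  congr 1
  exact colimit.w (gd hf W k hs).functor hab

/-- The glued maps to the glued solution. -/
noncomputable def kG (i : ι) : (D.obj i).left ⟶ (WG hf W k hs).left :=
  (cV D i).glueMorphismsOfLocallyDirected
    (fun a => k a i ≫ colimit.ι (gd hf W k hs).functor a)
    (fun hab => kG_aux hf W k hs i hab)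

theorem f_kG (i : ι) (a : S.directedAffineCover.I₀) :
    pullback.fst (D.obj i).hom (pullback.fst (f i) a.1.ι) ≫ kG hf W k hs i =
      k a i ≫ colimit.ι (gd hf W k hs).functor a :=
  (cV D i).map_glueMorphismsOfLocallyDirected _ _ a

include hs in
theorem k_hom (i : ι) (a : S.directedAffineCover.I₀) :
    k a i ≫ (W a).hom = pullback.snd (D.obj i).hom (pullback.fst (f i) a.1.ι) ≫
      pullback.snd (f i) a.1.ι := ((hs a).sq i).w

theorem kG_toBase (i : ι) :
    kG hf W k hs i ≫ (gd hf W k hs).toBase = (D.obj i).hom ≫ f i := by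
  apply (cV D i).hom_ext
  intro a
  change pullback.fst (D.obj i).hom (pullback.fst (f i) a.1.ι) ≫ _ =
    pullback.fst (D.obj i).hom (pullback.fst (f i) a.1.ι) ≫ _
  rw [← Category.assoc, f_kG, Category.assoc, Scheme.Cover.RelativeGluingData.ι_toBase]
  change k a i ≫ (W a).hom ≫ a.1.ι = _
  rw [← Category.assoc, k_hom W k hs, Category.assoc, ← pullback.condition, ← Category.assoc,
    ← pullback.condition, Category.assoc]

theorem isPullback_kG_local (i : ι) (a : S.directedAffineCover.I₀) :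
    IsPullback (k a i) (pullback.fst (D.obj i).hom (pullback.fst (f i) a.1.ι))
      (colimit.ι (gd hf W k hs).functor a) (kG hf W k hs i) := by
  refine IsPullback.of_right ?_ (f_kG hf W k hs i a).symm
    ((gd hf W k hs).isPullback_natTrans_ι_toBase a)
  change IsPullback (k a i ≫ (W a).hom) _ a.1.ι _
  rw [k_hom W k hs, kG_toBase]
  exact (IsPullback.of_hasPullback (D.obj i).hom (pullback.fst (f i) a.1.ι)).flip.paste_horiz
    (IsPullback.of_hasPullback (f i) a.1.ι).flip

theorem isPullback_kG (i : ι) :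
    IsPullback (kG hf W k hs i) (D.obj i).hom (gd hf W k hs).toBase (f i) := by
  refine Scheme.isPullback_of_openCover _ _ _ _ (gd hf W k hs).cover (fun a => ?_)
  have h1 : IsPullback (k a i)
      (pullback.fst (D.obj i).hom (pullback.fst (f i) a.1.ι) ≫ (D.obj i).hom)
      (colimit.ι (gd hf W k hs).functor a ≫ (gd hf W k hs).toBase) (f i) := by
    have := ((hs a).sq i).paste_vert (IsPullback.of_hasPullback (f i) a.1.ι).flip
    rw [Scheme.Cover.RelativeGluingData.ι_toBase, pullback.condition]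
    exact this
  let e := (isPullback_kG_local hf W k hs i a).flip.isoPullback
  refine IsPullback.of_iso h1 e (Iso.refl _) (Iso.refl _) (Iso.refl _) ?_ ?_ (by simp) (by simp)
  · simp only [Iso.refl_hom, Category.comp_id]
    exact ((isPullback_kG_local hf W k hs i a).flip.isoPullback_hom_snd).symm
  · simp only [Iso.refl_hom, Category.comp_id]
    rw [← Category.assoc]
    congr 1
    exact ((isPullback_kG_local hf W k hs i a).flip.isoPullback_hom_fst).symm

theorem kG_inv ⦃T : Scheme.{u}⦄ ⦃i j : ι⦄ (x₀ : T ⟶ X i) (x₁ : T ⟶ X j)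
    (h : x₀ ≫ f i = x₁ ≫ f j) (v : Lifts (D.obj i) x₀) :
    (D.φ x₀ x₁ h v).1 ≫ kG hf W k hs j = v.1 ≫ kG hf W k hs i := by
  refine Scheme.Cover.hom_ext (S.directedAffineCover.pullback₁ (x₀ ≫ f i)) _ _ (fun a => ?_)
  change pullback.fst (x₀ ≫ f i) a.1.ι ≫ _ = pullback.fst (x₀ ≫ f i) a.1.ι ≫ _
  let g := pullback.fst (x₀ ≫ f i) a.1.ι
  let y₀ : pullback (x₀ ≫ f i) a.1.ι ⟶ pullback (f i) a.1.ι :=
    pullback.lift (g ≫ x₀) (pullback.snd _ _) (by rw [Category.assoc]; exact pullback.condition)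
  let y₁ : pullback (x₀ ≫ f i) a.1.ι ⟶ pullback (f j) a.1.ι :=
    pullback.lift (g ≫ x₁) (pullback.snd _ _)
      (by rw [Category.assoc, ← h]; exact pullback.condition)
  have hy₀ : y₀ ≫ pullback.fst (f i) a.1.ι = g ≫ x₀ := pullback.lift_fst _ _ _
  have hy₁ : y₁ ≫ pullback.fst (f j) a.1.ι = g ≫ x₁ := pullback.lift_fst _ _ _
  have hy : y₀ ≫ pullback.snd (f i) a.1.ι = y₁ ≫ pullback.snd (f j) a.1.ι :=
    (pullback.lift_snd _ _ _).trans (pullback.lift_snd _ _ _).symm
  have hv : (g ≫ v.1) ≫ (D.obj i).hom = y₀ ≫ pullback.fst (f i) a.1.ι := by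
    rw [Category.assoc, v.2, hy₀]
  let va : Lifts ((Da f D a).obj i) y₀ :=
    ⟨pullback.lift (g ≫ v.1) y₀ hv, pullback.lift_snd _ _ _⟩
  have e1 : va.1 ≫ pullback.fst (D.obj i).hom (pullback.fst (f i) a.1.ι) = g ≫ v.1 :=
    pullback.lift_fst _ _ _
  have e2 : ((Da f D a).φ y₀ y₁ hy va).1 ≫
      pullback.fst (D.obj j).hom (pullback.fst (f j) a.1.ι) = g ≫ (D.φ x₀ x₁ h v).1 := by
    rw [Da_φ_fst]
    exact D.φ_natural g x₀ x₁ h _ _ hy₀.symm hy₁.symm _ v _ e1
  have key := (hs a).inv y₀ y₁ hy va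
  have key2 : (((Da f D a).φ y₀ y₁ hy va).1 ≫ k a j) ≫ colimit.ι (gd hf W k hs).functor a =
      (va.1 ≫ k a i) ≫ colimit.ι (gd hf W k hs).functor a := by rw [key]
  rw [Category.assoc, Category.assoc, ← f_kG, ← f_kG, ← Category.assoc, ← Category.assoc, e1,
    e2, Category.assoc, Category.assoc] at key2
  exact key2

theorem isSol_glue : IsSol D (WG hf W k hs) (kG hf W k hs) :=
  ⟨fun i => isPullback_kG hf W k hs i, fun _ _ _ x₀ x₁ h v => kG_inv hf W k hs x₀ x₁ h v⟩

end Glue

end Local

/-- Effectivity of a descent datum relative to an fpqc covering family is Zariski-local on the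
base: it suffices that the restriction to every affine open of the base is effective. -/
theorem isEffective_of_affineOpens {S : Scheme.{u}} {ι : Type u} {X : ι → Scheme.{u}}
    (f : ∀ i, X i ⟶ S) (hf : Presieve.ofArrows X f ∈ Scheme.fpqcPrecoverage S)
    (D : Desc.SchDDFam f)
    (h : ∀ a : S.affineOpens,
      ((Desc.pullDDFam (f := f) (f' := fun i => pullback.snd (f i) a.1.ι) (α := id) (p := a.1.ι)
        (p' := fun i => pullback.fst (f i) a.1.ι) (fun _ => pullback.condition)).obj D).IsEffective) :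
    D.IsEffective := by
  choose W k hs using fun a : S.affineOpens => exists_isSol_of_isEffective (h a)
  exact (isSol_glue hf W k hs).isEffective

end Groth.Agent.H65.DescLoc
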