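import Groth.Agent.H51.DescCrit
import Mathlib.AlgebraicGeometry.RelativeGluing

/-!
# Zariski-local effectivity of descent data for schemes, abstract version (helper65)

Generalises `H65/DescLoc`: the base is covered by any locally directed open cover `𝒰`, the index
type of the family lives in any universe, and instead of the fpqc sheaf property we assume an
abstract descent property `HasDesc` of invariant maps (over the base) from solutions with a
property `P` to schemes over the base with `P` (`P` stable under base change).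
-/

set_option autoImplicit false
set_option backward.isDefEq.respectTransparency false
set_option backward.isDefEq.respectTransparency.types false
universe w u

open CategoryTheory CategoryTheory.Limits AlgebraicGeometry Desc

namespace Groth.Agent.H65.DescLoc2

open Groth.Agent.H51.DescCrit

section General

variable {S : Scheme.{u}} {ι : Type w} {X : ι → Scheme.{u}} {f : ∀ i, X i ⟶ S}

theorem φ_congr (D : SchDDFam f) {T : Scheme.{u}} {i j : ι} {x₀ x₀' : T ⟶ X i}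
    {x₁ x₁' : T ⟶ X j} (h : x₀ ≫ f i = x₁ ≫ f j) (h' : x₀' ≫ f i = x₁' ≫ f j) (e₀ : x₀ = x₀')
    (e₁ : x₁ = x₁') (v : Lifts (D.obj i) x₀) (v' : Lifts (D.obj i) x₀') (hv : v.1 = v'.1) :
    (D.φ x₀ x₁ h v).1 = (D.φ x₀' x₁' h' v').1 := by
  subst e₀ e₁
  have : v = v' := Subtype.ext hv
  subst this
  rfl

/-- Invariance of a family of maps out of the members of a descent datum. -/
def Inv (D : SchDDFam f) {Y : Scheme.{u}} (g : ∀ i, (D.obj i).left ⟶ Y) : Prop :=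
  ∀ ⦃T : Scheme.{u}⦄ ⦃i j : ι⦄ (x₀ : T ⟶ X i) (x₁ : T ⟶ X j) (h : x₀ ≫ f i = x₁ ≫ f j)
    (v : Lifts (D.obj i) x₀), (D.φ x₀ x₁ h v).1 ≫ g j = v.1 ≫ g i

/-- Invariant maps over the base from the members of `D` to `Y` descend uniquely to maps over the
base from the solution `W` to `Y`. -/
def HasDesc (D : SchDDFam f) (W : Over S) (k : ∀ i, (D.obj i).left ⟶ W.left) (Y : Over S) :
    Prop :=
  ∀ (g : ∀ i, (D.obj i).left ⟶ Y.left), (∀ i, g i ≫ Y.hom = (D.obj i).hom ≫ f i) → Inv D g →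
    ∃! t : W.left ⟶ Y.left, t ≫ Y.hom = W.hom ∧ ∀ i, k i ≫ t = g i

variable {D : SchDDFam f} {W W' : Over S} {k : ∀ i, (D.obj i).left ⟶ W.left}
  {k' : ∀ i, (D.obj i).left ⟶ W'.left}

theorem exists_iso_of_hasDesc (hs : IsSol D W k) (hs' : IsSol D W' k')
    (h1 : HasDesc D W k W') (h2 : HasDesc D W' k' W) (h3 : HasDesc D W k W)
    (h4 : HasDesc D W' k' W') :
    ∃ t : W.left ≅ W'.left, (∀ i, k i ≫ t.hom = k' i) ∧ t.hom ≫ W'.hom = W.hom := by
  obtain ⟨t, ⟨ht1, ht2⟩, -⟩ := h1 k' (fun i => (hs'.sq i).w) hs'.inv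
  obtain ⟨t', ⟨ht1', ht2'⟩, -⟩ := h2 k (fun i => (hs.sq i).w) hs.inv
  obtain ⟨u, -, hu⟩ := h3 k (fun i => (hs.sq i).w) hs.inv
  obtain ⟨u', -, hu'⟩ := h4 k' (fun i => (hs'.sq i).w) hs'.inv
  have e1 : t ≫ t' = 𝟙 _ :=
    (hu (t ≫ t') ⟨by rw [Category.assoc, ht1', ht1], fun i => by
      rw [← Category.assoc, ht2, ht2']⟩).trans
      (hu (𝟙 _) ⟨Category.id_comp _, fun i => Category.comp_id _⟩).symm
  have e2 : t' ≫ t = 𝟙 _ :=
    (hu' (t' ≫ t) ⟨by rw [Category.assoc, ht1, ht1'], fun i => by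
      rw [← Category.assoc, ht2', ht2]⟩).trans
      (hu' (𝟙 _) ⟨Category.id_comp _, fun i => Category.comp_id _⟩).symm
  exact ⟨⟨t, t', e1, e2⟩, ht2, ht1⟩

end General

section Local

variable {S : Scheme.{u}} (𝒰 : S.OpenCover) [Category 𝒰.I₀] [𝒰.LocallyDirected]
  {ι : Type w} {X : ι → Scheme.{u}} (f : ∀ i, X i ⟶ S)

/-- The restriction of a descent datum to an affine open of the base. -/
noncomputable abbrev Da (D : SchDDFam f) (a : 𝒰.I₀) :
    SchDDFam (fun i => pullback.snd (f i) (𝒰.f a)) :=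
  (pullDDFam (f := f) (f' := fun i => pullback.snd (f i) (𝒰.f a)) (α := id) (p := (𝒰.f a))
    (p' := fun i => pullback.fst (f i) (𝒰.f a)) (fun _ => pullback.condition)).obj D

/-- The cover of `X i` by the preimages of the affine opens of `S`. -/
noncomputable abbrev cX (i : ι) : (X i).OpenCover := 𝒰.pullback₁ (f i)

variable {f}

/-- The cover of `D.obj i` by the preimages of the affine opens of `S`. -/
noncomputable abbrev cV (D : SchDDFam f) (i : ι) : (D.obj i).left.OpenCover :=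
  (cX 𝒰 f i).pullback₁ (D.obj i).hom

variable {𝒰}

variable (D : SchDDFam f)

theorem Da_φ_fst (a : 𝒰.I₀) {T : Scheme.{u}} {i j : ι} (x₀ : T ⟶ pullback (f i) (𝒰.f a))
    (x₁ : T ⟶ pullback (f j) (𝒰.f a))
    (h : x₀ ≫ pullback.snd (f i) (𝒰.f a) = x₁ ≫ pullback.snd (f j) (𝒰.f a))
    (v : Lifts ((Da 𝒰 f D a).obj i) x₀) :
    ((Da 𝒰 f D a).φ x₀ x₁ h v).1 ≫ pullback.fst (D.obj j).hom (pullback.fst (f j) (𝒰.f a)) =
      (D.φ (x₀ ≫ pullback.fst (f i) (𝒰.f a)) (x₁ ≫ pullback.fst (f j) (𝒰.f a))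
        (pull_compat (fun _ => pullback.condition) x₀ x₁ h)
        (liftsPullbackEquiv (D.obj i) (pullback.fst (f i) (𝒰.f a)) x₀ v)).1 :=
  pullback.lift_fst _ _ _

theorem Da_φ_snd (a : 𝒰.I₀) {T : Scheme.{u}} {i j : ι} (x₀ : T ⟶ pullback (f i) (𝒰.f a))
    (x₁ : T ⟶ pullback (f j) (𝒰.f a))
    (h : x₀ ≫ pullback.snd (f i) (𝒰.f a) = x₁ ≫ pullback.snd (f j) (𝒰.f a))
    (v : Lifts ((Da 𝒰 f D a).obj i) x₀) :
    ((Da 𝒰 f D a).φ x₀ x₁ h v).1 ≫ pullback.snd (D.obj j).hom (pullback.fst (f j) (𝒰.f a)) = x₁ :=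
  ((Da 𝒰 f D a).φ x₀ x₁ h v).2

section Trans

variable {a b : 𝒰.I₀} (hab : a ⟶ b)

theorem cX_trans_fst (i : ι) :
    (cX 𝒰 f i).trans hab ≫ pullback.fst (f i) (𝒰.f b) = pullback.fst (f i) (𝒰.f a) :=
  (cX 𝒰 f i).trans_map hab

theorem cX_trans_snd (i : ι) :
    (cX 𝒰 f i).trans hab ≫ pullback.snd (f i) (𝒰.f b) =
      pullback.snd (f i) (𝒰.f a) ≫ 𝒰.trans hab :=
  pullback.lift_snd _ _ _

theorem cV_trans_fst (i : ι) :
    (cV 𝒰 D i).trans hab ≫ pullback.fst (D.obj i).hom (pullback.fst (f i) (𝒰.f b)) =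
      pullback.fst (D.obj i).hom (pullback.fst (f i) (𝒰.f a)) :=
  (cV 𝒰 D i).trans_map hab

theorem cV_trans_snd (i : ι) :
    (cV 𝒰 D i).trans hab ≫ pullback.snd (D.obj i).hom (pullback.fst (f i) (𝒰.f b)) =
      pullback.snd (D.obj i).hom (pullback.fst (f i) (𝒰.f a)) ≫ (cX 𝒰 f i).trans hab :=
  pullback.lift_snd _ _ _

end Trans

section Trans2

variable {D} {a b : 𝒰.I₀} (hab : a ⟶ b) {Wb : Over (𝒰.X b)}
  {kb : ∀ i, ((Da 𝒰 f D b).obj i).left ⟶ Wb.left} (hb : IsSol (Da 𝒰 f D b) Wb kb)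

include hb in
theorem inv_trans ⦃T : Scheme.{u}⦄ ⦃i j : ι⦄ (x₀ : T ⟶ pullback (f i) (𝒰.f a))
    (x₁ : T ⟶ pullback (f j) (𝒰.f a))
    (h : x₀ ≫ pullback.snd (f i) (𝒰.f a) = x₁ ≫ pullback.snd (f j) (𝒰.f a))
    (v : Lifts ((Da 𝒰 f D a).obj i) x₀) :
    ((Da 𝒰 f D a).φ x₀ x₁ h v).1 ≫ (cV 𝒰 D j).trans hab ≫ kb j =
      v.1 ≫ (cV 𝒰 D i).trans hab ≫ kb i := by
  have h' : (x₀ ≫ (cX 𝒰 f i).trans hab) ≫ pullback.snd (f i) (𝒰.f b) =
      (x₁ ≫ (cX 𝒰 f j).trans hab) ≫ pullback.snd (f j) (𝒰.f b) := by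
    rw [Category.assoc, Category.assoc, cX_trans_snd, cX_trans_snd, ← Category.assoc, h,
      Category.assoc]
  have hw : (v.1 ≫ (cV 𝒰 D i).trans hab) ≫ ((Da 𝒰 f D b).obj i).hom = x₀ ≫ (cX 𝒰 f i).trans hab := by
    change (v.1 ≫ (cV 𝒰 D i).trans hab) ≫ pullback.snd _ _ = _
    rw [Category.assoc]
    erw [cV_trans_snd D hab i]
    rw [← Category.assoc]
    congr 1
    exact v.2
  have key := hb.inv (x₀ ≫ (cX 𝒰 f i).trans hab) (x₁ ≫ (cX 𝒰 f j).trans hab) h'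
    ⟨v.1 ≫ (cV 𝒰 D i).trans hab, hw⟩
  have e : ((Da 𝒰 f D b).φ _ _ h' ⟨v.1 ≫ (cV 𝒰 D i).trans hab, hw⟩).1 =
      ((Da 𝒰 f D a).φ x₀ x₁ h v).1 ≫ (cV 𝒰 D j).trans hab := by
    apply pullback.hom_ext
    · have e2 : (((Da 𝒰 f D a).φ x₀ x₁ h v).1 ≫ (cV 𝒰 D j).trans hab) ≫
          pullback.fst (D.obj j).hom (pullback.fst (f j) (𝒰.f b)) =
          (D.φ (x₀ ≫ pullback.fst (f i) (𝒰.f a)) (x₁ ≫ pullback.fst (f j) (𝒰.f a))
            (pull_compat (fun _ => pullback.condition) x₀ x₁ h)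
            (liftsPullbackEquiv (D.obj i) (pullback.fst (f i) (𝒰.f a)) x₀ v)).1 := by
        rw [Category.assoc]
        erw [cV_trans_fst D hab j]
        exact Da_φ_fst D a x₀ x₁ h v
      refine (Da_φ_fst D b _ _ h' _).trans (Eq.trans ?_ e2.symm)
      apply φ_congr
      · rw [Category.assoc, cX_trans_fst]
      · rw [Category.assoc, cX_trans_fst]
      · change (v.1 ≫ (cV 𝒰 D i).trans hab) ≫ pullback.fst _ _ = v.1 ≫ pullback.fst _ _
        rw [Category.assoc]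
        erw [cV_trans_fst D hab i]
        rfl
    · have e2 : (((Da 𝒰 f D a).φ x₀ x₁ h v).1 ≫ (cV 𝒰 D j).trans hab) ≫
          pullback.snd (D.obj j).hom (pullback.fst (f j) (𝒰.f b)) = x₁ ≫ (cX 𝒰 f j).trans hab := by
        rw [Category.assoc]
        erw [cV_trans_snd D hab j]
        rw [← Category.assoc]
        congr 1
        exact Da_φ_snd D a x₀ x₁ h v
      exact (Da_φ_snd D b _ _ h' _).trans e2.symm
  rw [← Category.assoc, ← e, key, Category.assoc]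

theorem isPullback_cX_trans (i : ι) :
    IsPullback ((cX 𝒰 f i).trans hab) (pullback.snd (f i) (𝒰.f a)) (pullback.snd (f i) (𝒰.f b))
      (𝒰.trans hab) := by
  refine IsPullback.of_right ?_ (cX_trans_snd hab i) (IsPullback.of_hasPullback (f i) (𝒰.f b))
  have e1 : (cX 𝒰 f i).trans hab ≫ pullback.fst (f i) (𝒰.f b) = pullback.fst (f i) (𝒰.f a) :=
    cX_trans_fst hab i
  have e2 : 𝒰.trans hab ≫ (𝒰.f b) = (𝒰.f a) := 𝒰.trans_map hab
  rw [e1, e2]
  exact IsPullback.of_hasPullback (f i) (𝒰.f a)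

theorem isPullback_cV_trans (i : ι) :
    IsPullback ((cV 𝒰 D i).trans hab) (pullback.snd (D.obj i).hom (pullback.fst (f i) (𝒰.f a)))
      (pullback.snd (D.obj i).hom (pullback.fst (f i) (𝒰.f b))) ((cX 𝒰 f i).trans hab) := by
  refine IsPullback.of_right ?_ (cV_trans_snd D hab i)
    (IsPullback.of_hasPullback (D.obj i).hom (pullback.fst (f i) (𝒰.f b)))
  have e1 : (cV 𝒰 D i).trans hab ≫ pullback.fst (D.obj i).hom (pullback.fst (f i) (𝒰.f b)) =
      pullback.fst (D.obj i).hom (pullback.fst (f i) (𝒰.f a)) := cV_trans_fst D hab i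
  have e2 : (cX 𝒰 f i).trans hab ≫ pullback.fst (f i) (𝒰.f b) = pullback.fst (f i) (𝒰.f a) :=
    cX_trans_fst hab i
  rw [e1, e2]
  exact IsPullback.of_hasPullback (D.obj i).hom (pullback.fst (f i) (𝒰.f a))

/-- The restriction of a solution over `b` to `a ≤ b`. -/
noncomputable abbrev WP (Wb : Over (𝒰.X b)) : Over (𝒰.X a) :=
  Over.mk (pullback.snd Wb.hom (𝒰.trans hab))

include hb in
theorem kP_aux (i : ι) : ((cV 𝒰 D i).trans hab ≫ kb i) ≫ Wb.hom =
    (pullback.snd (D.obj i).hom (pullback.fst (f i) (𝒰.f a)) ≫ pullback.snd (f i) (𝒰.f a)) ≫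
      𝒰.trans hab := by
  have e := (hb.sq i).w
  change kb i ≫ Wb.hom = pullback.snd (D.obj i).hom (pullback.fst (f i) (𝒰.f b)) ≫
    pullback.snd (f i) (𝒰.f b) at e
  rw [Category.assoc, e, ← Category.assoc, cV_trans_snd, Category.assoc, cX_trans_snd,
    Category.assoc]

/-- The maps making the restriction a solution. -/
noncomputable def kP (i : ι) : ((Da 𝒰 f D a).obj i).left ⟶ (WP hab Wb).left :=
  pullback.lift ((cV 𝒰 D i).trans hab ≫ kb i)
    (pullback.snd (D.obj i).hom (pullback.fst (f i) (𝒰.f a)) ≫ pullback.snd (f i) (𝒰.f a))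
    (kP_aux hab hb i)

theorem kP_fst (i : ι) : kP hab hb i ≫ pullback.fst Wb.hom (𝒰.trans hab) =
    (cV 𝒰 D i).trans hab ≫ kb i := pullback.lift_fst _ _ _

theorem kP_snd (i : ι) : kP hab hb i ≫ pullback.snd Wb.hom (𝒰.trans hab) =
    pullback.snd (D.obj i).hom (pullback.fst (f i) (𝒰.f a)) ≫ pullback.snd (f i) (𝒰.f a) :=
  pullback.lift_snd _ _ _

theorem isSol_pull : IsSol (Da 𝒰 f D a) (WP hab Wb) (kP hab hb) where
  sq i := by
    change IsPullback (kP hab hb i) (pullback.snd (D.obj i).hom (pullback.fst (f i) (𝒰.f a)))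
      (pullback.snd Wb.hom (𝒰.trans hab)) (pullback.snd (f i) (𝒰.f a))
    refine IsPullback.of_right ?_ (kP_snd hab hb i)
      (IsPullback.of_hasPullback Wb.hom (𝒰.trans hab))
    rw [kP_fst, ← cX_trans_snd]
    exact (isPullback_cV_trans hab i).paste_horiz (hb.sq i)
  inv T i j x₀ x₁ h v := by
    apply pullback.hom_ext
    · rw [Category.assoc, Category.assoc, kP_fst, kP_fst]
      exact inv_trans hab hb x₀ x₁ h v
    · rw [Category.assoc, Category.assoc, kP_snd, kP_snd, ← Category.assoc, ← Category.assoc]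
      have e1 := Da_φ_snd D a x₀ x₁ h v
      have e2 : v.1 ≫ pullback.snd (D.obj i).hom (pullback.fst (f i) (𝒰.f a)) = x₀ := v.2
      rw [e1, e2, h]

end Trans2

section Glue

variable {D} (P : MorphismProperty Scheme.{u}) [P.IsStableUnderBaseChange]
  (W : ∀ a : 𝒰.I₀, Over (𝒰.X a))
  (k : ∀ (a : 𝒰.I₀) (i : ι), ((Da 𝒰 f D a).obj i).left ⟶ (W a).left)
  (hs : ∀ a, IsSol (Da 𝒰 f D a) (W a) (k a)) (hP : ∀ a, P (W a).hom)
  (hdesc : ∀ (a : 𝒰.I₀) (W₁ W₂ : Over (𝒰.X a))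
    (k₁ : ∀ i, ((Da 𝒰 f D a).obj i).left ⟶ W₁.left), IsSol (Da 𝒰 f D a) W₁ k₁ → P W₁.hom →
    P W₂.hom → HasDesc (Da 𝒰 f D a) W₁ k₁ W₂)

include hP in
theorem hP_WP {a b : 𝒰.I₀} (hab : a ⟶ b) : P (WP hab (W b)).hom :=
  P.pullback_snd _ _ (hP b)

include hs hP hdesc in
theorem exists_ρ' {a b : 𝒰.I₀} (hab : a ⟶ b) :
    ∃! t : (W a).left ⟶ (WP hab (W b)).left, t ≫ (WP hab (W b)).hom = (W a).hom ∧
      ∀ i, k a i ≫ t = kP hab (hs b) i :=
  hdesc a (W a) (WP hab (W b)) (k a) (hs a) (hP a) (hP_WP P W hP hab) (kP hab (hs b))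
    (fun i => ((isSol_pull hab (hs b)).sq i).w) (isSol_pull hab (hs b)).inv

/-- The transition maps into the restrictions. -/
noncomputable def ρ' {a b : 𝒰.I₀} (hab : a ⟶ b) : (W a).left ⟶ (WP hab (W b)).left :=
  (exists_ρ' P W k hs hP hdesc hab).exists.choose

theorem ρ'_snd {a b : 𝒰.I₀} (hab : a ⟶ b) :
    ρ' P W k hs hP hdesc hab ≫ pullback.snd (W b).hom (𝒰.trans hab) = (W a).hom :=
  (exists_ρ' P W k hs hP hdesc hab).exists.choose_spec.1

theorem k_ρ' {a b : 𝒰.I₀} (hab : a ⟶ b) (i : ι) :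
    k a i ≫ ρ' P W k hs hP hdesc hab = kP hab (hs b) i :=
  (exists_ρ' P W k hs hP hdesc hab).exists.choose_spec.2 i

theorem ρ'_uniq {a b : 𝒰.I₀} (hab : a ⟶ b) (t : (W a).left ⟶ (WP hab (W b)).left)
    (h1 : t ≫ pullback.snd (W b).hom (𝒰.trans hab) = (W a).hom)
    (h2 : ∀ i, k a i ≫ t = kP hab (hs b) i) : t = ρ' P W k hs hP hdesc hab :=
  (exists_ρ' P W k hs hP hdesc hab).unique ⟨h1, h2⟩
    ⟨ρ'_snd P W k hs hP hdesc hab, k_ρ' P W k hs hP hdesc hab⟩

/-- The transition maps between the chosen local solutions. -/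
noncomputable def ρ {a b : 𝒰.I₀} (hab : a ⟶ b) : (W a).left ⟶ (W b).left :=
  ρ' P W k hs hP hdesc hab ≫ pullback.fst (W b).hom (𝒰.trans hab)

theorem k_ρ {a b : 𝒰.I₀} (hab : a ⟶ b) (i : ι) :
    k a i ≫ ρ P W k hs hP hdesc hab = (cV 𝒰 D i).trans hab ≫ k b i := by
  unfold ρ
  rw [← Category.assoc, k_ρ', kP_fst]

theorem ρ_hom {a b : 𝒰.I₀} (hab : a ⟶ b) :
    ρ P W k hs hP hdesc hab ≫ (W b).hom = (W a).hom ≫ 𝒰.trans hab := by
  unfold ρ
  rw [Category.assoc, pullback.condition, ← Category.assoc, ρ'_snd]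

include hs in
theorem k_hom' (i : ι) (a : 𝒰.I₀) :
    k a i ≫ (W a).hom = pullback.snd (D.obj i).hom (pullback.fst (f i) (𝒰.f a)) ≫
      pullback.snd (f i) (𝒰.f a) := ((hs a).sq i).w

theorem ρ_eq_of {a b : 𝒰.I₀} (hab : a ⟶ b) (r : (W a).left ⟶ (W b).left)
    (h1 : r ≫ (W b).hom = (W a).hom ≫ 𝒰.trans hab)
    (h2 : ∀ i, k a i ≫ r = (cV 𝒰 D i).trans hab ≫ k b i) : r = ρ P W k hs hP hdesc hab := by
  have e := ρ'_uniq P W k hs hP hdesc hab (pullback.lift r (W a).hom h1)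
    (pullback.lift_snd _ _ _) (fun i => by
      apply pullback.hom_ext
      · rw [Category.assoc, pullback.lift_fst, kP_fst, h2]
      · rw [Category.assoc, pullback.lift_snd, kP_snd, k_hom' W k hs])
  unfold ρ
  rw [← e, pullback.lift_fst]

theorem ρ_id (a : 𝒰.I₀) : ρ P W k hs hP hdesc (𝟙 a) = 𝟙 _ := by
  refine (ρ_eq_of P W k hs hP hdesc (𝟙 a) (𝟙 _) ?_ (fun i => ?_)).symm
  · rw [Category.id_comp, 𝒰.trans_id, Category.comp_id]
  · rw [Category.comp_id, (cV 𝒰 D i).trans_id, Category.id_comp]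

theorem ρ_comp {a b c : 𝒰.I₀} (hab : a ⟶ b) (hbc : b ⟶ c) :
    ρ P W k hs hP hdesc (hab ≫ hbc) =
      ρ P W k hs hP hdesc hab ≫ ρ P W k hs hP hdesc hbc := by
  refine (ρ_eq_of P W k hs hP hdesc (hab ≫ hbc) _ ?_ (fun i => ?_)).symm
  · rw [Category.assoc, ρ_hom, ← Category.assoc, ρ_hom, Category.assoc, 𝒰.trans_comp]
  · rw [← Category.assoc, k_ρ, Category.assoc, k_ρ, (cV 𝒰 D i).trans_comp, Category.assoc]

theorem isPullback_ρ {a b : 𝒰.I₀} (hab : a ⟶ b) :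
    IsPullback (ρ P W k hs hP hdesc hab) (W a).hom (W b).hom (𝒰.trans hab) := by
  have hPb := hP_WP P W hP hab
  have hsP := isSol_pull hab (hs b)
  obtain ⟨t, ht, ht'⟩ := exists_iso_of_hasDesc (hs a) hsP
    (hdesc a _ _ _ (hs a) (hP a) hPb) (hdesc a _ _ _ hsP hPb (hP a))
    (hdesc a _ _ _ (hs a) (hP a) (hP a)) (hdesc a _ _ _ hsP hPb hPb)
  have e : t.hom = ρ' P W k hs hP hdesc hab := ρ'_uniq P W k hs hP hdesc hab t.hom ht' ht
  refine IsPullback.of_iso_pullback ⟨ρ_hom P W k hs hP hdesc hab⟩ t ?_ ht'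
  rw [e]
  rfl

/-- The relative gluing datum of the local solutions. -/
noncomputable def gd : Scheme.Cover.RelativeGluingData 𝒰 where
  functor :=
    { obj := fun a => (W a).left
      map := fun hab => ρ P W k hs hP hdesc hab
      map_id := fun a => ρ_id P W k hs hP hdesc a
      map_comp := fun hab hbc => ρ_comp P W k hs hP hdesc hab hbc }
  natTrans :=
    { app := fun a => (W a).hom
      naturality := fun a b hab => ρ_hom P W k hs hP hdesc hab }
  equifibered := fun a b hab => isPullback_ρ P W k hs hP hdesc hab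

variable [Small.{u} 𝒰.I₀] [Quiver.IsThin 𝒰.I₀]

/-- The glued solution. -/
noncomputable abbrev WG : Over S := Over.mk (gd P W k hs hP hdesc).toBase

theorem kG_aux (i : ι) {a b : 𝒰.I₀} (hab : a ⟶ b) :
    (cV 𝒰 D i).trans hab ≫ k b i ≫ colimit.ι (gd P W k hs hP hdesc).functor b =
      k a i ≫ colimit.ι (gd P W k hs hP hdesc).functor a := by
  rw [← Category.assoc, ← k_ρ P W k hs hP hdesc hab, Category.assoc]
  congr 1
  exact colimit.w (gd P W k hs hP hdesc).functor hab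

/-- The glued maps to the glued solution. -/
noncomputable def kG (i : ι) : (D.obj i).left ⟶ (WG P W k hs hP hdesc).left :=
  (cV 𝒰 D i).glueMorphismsOfLocallyDirected
    (fun a => k a i ≫ colimit.ι (gd P W k hs hP hdesc).functor a)
    (fun hab => kG_aux P W k hs hP hdesc i hab)

theorem f_kG (i : ι) (a : 𝒰.I₀) :
    pullback.fst (D.obj i).hom (pullback.fst (f i) (𝒰.f a)) ≫ kG P W k hs hP hdesc i =
      k a i ≫ colimit.ι (gd P W k hs hP hdesc).functor a :=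
  (cV 𝒰 D i).map_glueMorphismsOfLocallyDirected _ _ a

include hs in
theorem k_hom (i : ι) (a : 𝒰.I₀) :
    k a i ≫ (W a).hom = pullback.snd (D.obj i).hom (pullback.fst (f i) (𝒰.f a)) ≫
      pullback.snd (f i) (𝒰.f a) := ((hs a).sq i).w

theorem kG_toBase (i : ι) :
    kG P W k hs hP hdesc i ≫ (gd P W k hs hP hdesc).toBase = (D.obj i).hom ≫ f i := by
  apply (cV 𝒰 D i).hom_ext
  intro a
  change pullback.fst (D.obj i).hom (pullback.fst (f i) (𝒰.f a)) ≫ _ =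
    pullback.fst (D.obj i).hom (pullback.fst (f i) (𝒰.f a)) ≫ _
  rw [← Category.assoc, f_kG, Category.assoc, Scheme.Cover.RelativeGluingData.ι_toBase]
  change k a i ≫ (W a).hom ≫ (𝒰.f a) = _
  rw [← Category.assoc, k_hom W k hs, Category.assoc, ← pullback.condition, ← Category.assoc,
    ← pullback.condition, Category.assoc]

theorem isPullback_kG_local (i : ι) (a : 𝒰.I₀) :
    IsPullback (k a i) (pullback.fst (D.obj i).hom (pullback.fst (f i) (𝒰.f a)))
      (colimit.ι (gd P W k hs hP hdesc).functor a) (kG P W k hs hP hdesc i) := by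
  refine IsPullback.of_right ?_ (f_kG P W k hs hP hdesc i a).symm
    ((gd P W k hs hP hdesc).isPullback_natTrans_ι_toBase a)
  change IsPullback (k a i ≫ (W a).hom) _ (𝒰.f a) _
  rw [k_hom W k hs, kG_toBase]
  exact (IsPullback.of_hasPullback (D.obj i).hom (pullback.fst (f i) (𝒰.f a))).flip.paste_horiz
    (IsPullback.of_hasPullback (f i) (𝒰.f a)).flip

theorem isPullback_kG (i : ι) :
    IsPullback (kG P W k hs hP hdesc i) (D.obj i).hom (gd P W k hs hP hdesc).toBase (f i) := by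
  refine Scheme.isPullback_of_openCover _ _ _ _ (gd P W k hs hP hdesc).cover (fun a => ?_)
  have h1 : IsPullback (k a i)
      (pullback.fst (D.obj i).hom (pullback.fst (f i) (𝒰.f a)) ≫ (D.obj i).hom)
      (colimit.ι (gd P W k hs hP hdesc).functor a ≫ (gd P W k hs hP hdesc).toBase) (f i) := by
    have := ((hs a).sq i).paste_vert (IsPullback.of_hasPullback (f i) (𝒰.f a)).flip
    rw [Scheme.Cover.RelativeGluingData.ι_toBase, pullback.condition]
    exact this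
  let e := (isPullback_kG_local P W k hs hP hdesc i a).flip.isoPullback
  refine IsPullback.of_iso h1 e (Iso.refl _) (Iso.refl _) (Iso.refl _) ?_ ?_ (by simp) (by simp)
  · simp only [Iso.refl_hom, Category.comp_id]
    exact ((isPullback_kG_local P W k hs hP hdesc i a).flip.isoPullback_hom_snd).symm
  · simp only [Iso.refl_hom, Category.comp_id]
    rw [← Category.assoc]
    congr 1
    exact ((isPullback_kG_local P W k hs hP hdesc i a).flip.isoPullback_hom_fst).symm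

theorem kG_inv ⦃T : Scheme.{u}⦄ ⦃i j : ι⦄ (x₀ : T ⟶ X i) (x₁ : T ⟶ X j)
    (h : x₀ ≫ f i = x₁ ≫ f j) (v : Lifts (D.obj i) x₀) :
    (D.φ x₀ x₁ h v).1 ≫ kG P W k hs hP hdesc j = v.1 ≫ kG P W k hs hP hdesc i := by
  refine Scheme.Cover.hom_ext (𝒰.pullback₁ (x₀ ≫ f i)) _ _ (fun a => ?_)
  change pullback.fst (x₀ ≫ f i) (𝒰.f a) ≫ _ = pullback.fst (x₀ ≫ f i) (𝒰.f a) ≫ _
  let g := pullback.fst (x₀ ≫ f i) (𝒰.f a)
  let y₀ : pullback (x₀ ≫ f i) (𝒰.f a) ⟶ pullback (f i) (𝒰.f a) :=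
    pullback.lift (g ≫ x₀) (pullback.snd _ _) (by rw [Category.assoc]; exact pullback.condition)
  let y₁ : pullback (x₀ ≫ f i) (𝒰.f a) ⟶ pullback (f j) (𝒰.f a) :=
    pullback.lift (g ≫ x₁) (pullback.snd _ _)
      (by rw [Category.assoc, ← h]; exact pullback.condition)
  have hy₀ : y₀ ≫ pullback.fst (f i) (𝒰.f a) = g ≫ x₀ := pullback.lift_fst _ _ _
  have hy₁ : y₁ ≫ pullback.fst (f j) (𝒰.f a) = g ≫ x₁ := pullback.lift_fst _ _ _
  have hy : y₀ ≫ pullback.snd (f i) (𝒰.f a) = y₁ ≫ pullback.snd (f j) (𝒰.f a) :=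
    (pullback.lift_snd _ _ _).trans (pullback.lift_snd _ _ _).symm
  have hv : (g ≫ v.1) ≫ (D.obj i).hom = y₀ ≫ pullback.fst (f i) (𝒰.f a) := by
    rw [Category.assoc, v.2, hy₀]
  let va : Lifts ((Da 𝒰 f D a).obj i) y₀ :=
    ⟨pullback.lift (g ≫ v.1) y₀ hv, pullback.lift_snd _ _ _⟩
  have e1 : va.1 ≫ pullback.fst (D.obj i).hom (pullback.fst (f i) (𝒰.f a)) = g ≫ v.1 :=
    pullback.lift_fst _ _ _
  have e2 : ((Da 𝒰 f D a).φ y₀ y₁ hy va).1 ≫
      pullback.fst (D.obj j).hom (pullback.fst (f j) (𝒰.f a)) = g ≫ (D.φ x₀ x₁ h v).1 := by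
    rw [Da_φ_fst]
    exact D.φ_natural g x₀ x₁ h _ _ hy₀.symm hy₁.symm _ v _ e1
  have key := (hs a).inv y₀ y₁ hy va
  have key2 : (((Da 𝒰 f D a).φ y₀ y₁ hy va).1 ≫ k a j) ≫
      colimit.ι (gd P W k hs hP hdesc).functor a =
      (va.1 ≫ k a i) ≫ colimit.ι (gd P W k hs hP hdesc).functor a := by rw [key]
  rw [Category.assoc, Category.assoc, ← f_kG P W k hs hP hdesc j a,
    ← f_kG P W k hs hP hdesc i a, ← Category.assoc, ← Category.assoc, e1,
    e2, Category.assoc, Category.assoc] at key2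
  exact key2

theorem isSol_glue : IsSol D (WG P W k hs hP hdesc) (kG P W k hs hP hdesc) :=
  ⟨fun i => isPullback_kG P W k hs hP hdesc i, fun _ _ _ x₀ x₁ h v => kG_inv P W k hs hP hdesc x₀ x₁ h v⟩

end Glue

end Local

end Groth.Agent.H65.DescLoc2
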