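import Groth.Agent.H65.DescLoc2
import Groth.Agent.H65.DescLoc
import Groth.Agent.H51.DescRefine
import Groth.Agent.H65.EtLocEff

/-!
# Effectivity of fpqc descent data is local for any locally directed open cover of the base;
Zariski descent data are effective (helper65, for helper51's S9855)
-/

set_option autoImplicit false
set_option backward.isDefEq.respectTransparency false
set_option backward.isDefEq.respectTransparency.types false
universe u

open CategoryTheory CategoryTheory.Limits AlgebraicGeometry Desc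

namespace Groth.Agent.H65.DescLocGen

open Groth.Agent.H51.DescCrit Groth.Agent.H65.DescLoc2

section One

variable {S : Scheme.{u}} {ι : Type u} {X : ι → Scheme.{u}} {f : ∀ i, X i ⟶ S}

theorem mem_fpqc_pull (hf : Presieve.ofArrows X f ∈ Scheme.fpqcPrecoverage S) {T : Scheme.{u}}
    (q : T ⟶ S) :
    Presieve.ofArrows (fun i => pullback (f i) q) (fun i => pullback.snd (f i) q) ∈
      Scheme.fpqcPrecoverage T :=
  Precoverage.mem_coverings_of_isPullback f hf q _ (fun i => pullback.fst (f i) q)
    (fun i => (IsPullback.of_hasPullback (f i) q).flip)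

theorem hasDesc_fpqc (hf : Presieve.ofArrows X f ∈ Scheme.fpqcPrecoverage S) (D : SchDDFam f)
    (W Y : Over S) (k : ∀ i, (D.obj i).left ⟶ W.left) (hs : IsSol D W k) : HasDesc D W k Y := by
  intro g hg hinv
  obtain ⟨t, ht, hu⟩ := hs.existsUnique_desc hf g hinv
  refine ⟨t, ⟨?_, ht⟩, fun t' ht' => hu t' ht'.2⟩
  refine Groth.Agent.H65.DescLoc.IsSol.hom_ext hs hf _ _ (fun i => ?_)
  rw [← Category.assoc, ht, hg, (hs.sq i).w]

/-- Effectivity of a descent datum relative to an fpqc covering family can be tested on the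
members of any locally directed open cover of the base. -/
theorem isEffective_of_locallyDirected (f : ∀ i, X i ⟶ S)
    (hf : Presieve.ofArrows X f ∈ Scheme.fpqcPrecoverage S) (D : Desc.SchDDFam f)
    (𝒰 : S.OpenCover) [Category 𝒰.I₀] [𝒰.LocallyDirected] [Small.{u} 𝒰.I₀] [Quiver.IsThin 𝒰.I₀]
    (h : ∀ a : 𝒰.I₀, ((Desc.pullDDFam (f := f) (f' := fun i => pullback.snd (f i) (𝒰.f a))
        (α := id) (p := 𝒰.f a)
        (p' := fun i => pullback.fst (f i) (𝒰.f a)) (fun _ => pullback.condition)).obj D).IsEffective) :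
    D.IsEffective := by
  choose W k hs using fun a : 𝒰.I₀ => exists_isSol_of_isEffective (h a)
  have hP : ∀ a, (⊤ : MorphismProperty Scheme.{u}) (W a).hom := fun _ => trivial
  have hdesc : ∀ (a : 𝒰.I₀) (W₁ W₂ : Over (𝒰.X a))
      (k₁ : ∀ i, ((Da 𝒰 f D a).obj i).left ⟶ W₁.left), IsSol (Da 𝒰 f D a) W₁ k₁ →
      (⊤ : MorphismProperty Scheme.{u}) W₁.hom → (⊤ : MorphismProperty Scheme.{u}) W₂.hom →
      HasDesc (Da 𝒰 f D a) W₁ k₁ W₂ :=
    fun a W₁ W₂ k₁ hs₁ _ _ => hasDesc_fpqc (mem_fpqc_pull hf (𝒰.f a)) _ W₁ W₂ k₁ hs₁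
  exact (isSol_glue (P := ⊤) W k hs hP hdesc).isEffective

end One

section Two

/-- A descent datum relative to a one-member family whose member is an isomorphism is effective. -/
theorem isEffective_of_isIso {S T : Scheme.{u}} (e : T ⟶ S) [IsIso e]
    (E : SchDDFam (fun _ : PUnit.{1} => e)) : E.IsEffective := by
  have hs : IsSol E (Over.mk ((E.obj PUnit.unit).hom ≫ e)) (fun _ => 𝟙 _) := by
    refine ⟨fun i => ?_, ?_⟩
    · exact IsPullback.of_horiz_isIso ⟨by simp⟩
    · intro Z i j x₀ x₁ h v
      obtain rfl : x₀ = x₁ := by rw [← cancel_mono e]; exact h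
      rw [E.φ_self]
  exact hs.isEffective

open Groth.Agent.H65.EtLocEff in
/-- Zariski descent data are effective. -/
theorem isEffective_of_zariski {V : Scheme.{u}} {ι : Type u} {U : ι → Scheme.{u}}
    (g : ∀ i, U i ⟶ V) (hg : Presieve.ofArrows U g ∈ Scheme.zariskiPrecoverage V)
    (E : Desc.SchDDFam g) : E.IsEffective := by
  have hf : Presieve.ofArrows U g ∈ Scheme.fpqcPrecoverage V :=
    Scheme.zariskiPrecoverage_le_fpqcPrecoverage _ hg
  have hg' := hg
  rw [Scheme.zariskiPrecoverage, Scheme.ofArrows_mem_precoverage_iff] at hg'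
  obtain ⟨hsurj, hopen⟩ := hg'
  have hV : ⨆ i, (haveI := hopen i; (g i).opensRange) = ⊤ := by
    rw [eq_top_iff]
    intro x _
    obtain ⟨i, hi⟩ := hsurj x
    exact TopologicalSpace.Opens.mem_iSup.mpr ⟨i, hi⟩
  refine isEffective_of_locallyDirected g hf E
    (refCover (fun i => (haveI := hopen i; (g i).opensRange)) hV) (fun a => ?_)
  obtain ⟨O, i₀, hle⟩ := a
  haveI := hopen i₀
  change ((Desc.pullDDFam (f := g) (f' := fun i => pullback.snd (g i) O.ι)
        (α := id) (p := O.ι)
        (p' := fun i => pullback.fst (g i) O.ι) (fun _ => pullback.condition)).obj E).IsEffective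
  haveI : IsIso (pullback.snd (g i₀) O.ι) := by
    have : IsOpenImmersion (pullback.snd (g i₀) O.ι) := inferInstance
    apply (config := { allowSynthFailures := true }) IsOpenImmersion.isIso
    rw [TopCat.epi_iff_surjective]
    intro y
    obtain ⟨x, hx⟩ := hle y.2
    obtain ⟨z, -, hz⟩ := Scheme.Pullback.exists_preimage_pullback (f := g i₀) (g := O.ι) x y hx
    exact ⟨z, hz⟩
  refine Groth.Agent.H51.DescRefine.isEffective_of_pull (ι := PUnit.{1})
    (U := fun _ => pullback (g i₀) O.ι) (a := fun _ => pullback.snd (g i₀) O.ι)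
    (α := fun _ => i₀) (g := fun _ => 𝟙 _) (fun _ => by simp) ?_ _ ?_
  · rw [Presieve.ofArrows_pUnit]
    exact (pullback.snd (g i₀) O.ι).singleton_mem_fpqcPrecoverage
  · exact isEffective_of_isIso _ _

end Two

end Groth.Agent.H65.DescLocGen
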