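import Groth.Agent.H65.LocQ
import Groth.Agent.H65.SmoothST
import Groth.Agent.H32.Cover
import Groth.Agent.H32.CompMap
import Groth.Agent.S9960

/-!
# The diagonal of a morphism locally of finite type is locally of finite presentation (helper65)
-/

set_option autoImplicit false
open CategoryTheory CategoryTheory.Limits AlgebraicGeometry Opposite
universe u

namespace Groth.Agent.H65.DiagLfp

open FibCat Stk Groth.Agent.H32.FibProd Groth.Agent.H32.Fp2 Groth.Agent.H32.Fp3
  Groth.Agent.H32.Fp4 Groth.Agent.H32.SpBridge Groth.Agent.H32.PFacts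
  Groth.Agent.H32.AlgStackEquiv Groth.Agent.H32.AtlasRep Groth.Agent.H32.SpComp
  Groth.Agent.H32.StackOps Groth.Agent.H32.SectSt Groth.Agent.H32.Repr Groth.Agent.H32.SpTrack
  Groth.Agent.H32.PshFp Groth.Agent.H32.Sect Groth.Agent.H32.DiagDescent Groth.Agent.H32.Cover
  Groth.Agent.H32.Magic Groth.Agent.H32.CompMap Groth.Agent.H32.DiagRep Groth.Agent.H32.DiagApps
  Groth.Agent.H32.GoodMore
  Groth.Agent.H65.QC Groth.Agent.H65.SpMaps Groth.Agent.H65.LocQ

variable {S : Scheme.{u}}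

/-- a section of a morphism of algebraic spaces locally of finite type is locally of finite
presentation. -/
theorem sec_lfp (X T : AlgSp.Space S) (f : X ⟶ T) (s : T ⟶ X) (hs : s ≫ f = 𝟙 T)
    (hf : AlgSp.LocP @LocallyOfFiniteType f.hom) :
    AlgSp.LocP @LocallyOfFinitePresentation s.hom := by
  have hs' : s.hom ≫ f.hom = 𝟙 T.obj := congrArg (fun t => t.hom) hs
  have hΔ : AlgSp.LocP @LocallyOfFinitePresentation (pullback.diagonal f.hom) :=
    (Groth.Agent.S9960.result f hf).1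
  have sq := pullback_lift_diagonal_isPullback s.hom f.hom
  have hP1 : AlgSp.IsAlgSpace (pullback (s.hom ≫ f.hom) f.hom) :=
    Groth.Agent.H50.isAlgSpace_pullback _ _ T.property X.property T.property.diag
  have hP2 : AlgSp.IsAlgSpace (pullback f.hom f.hom) :=
    Groth.Agent.H50.isAlgSpace_pullback _ _ X.property X.property T.property.diag
  have h1 : AlgSp.LocP @LocallyOfFinitePresentation
      (pullback.lift (𝟙 T.obj) s.hom (by simp) : T.obj ⟶ pullback (s.hom ≫ f.hom) f.hom) :=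
    good_lfp.bc X.property hP2 T.property hP1 _ _ _ _ sq hΔ
  have hiso : IsIso (pullback.snd (s.hom ≫ f.hom) f.hom) := by
    have : IsIso (s.hom ≫ f.hom) := by rw [hs']; infer_instance
    infer_instance
  have i1 := locP_respectsIso (S := S) @LocallyOfFinitePresentation
  have h2 := MorphismProperty.RespectsIso.postcomp
    (AlgSp.LocP (S := S) @LocallyOfFinitePresentation)
    (pullback.snd (s.hom ≫ f.hom) f.hom) _ h1
  rwa [pullback.lift_snd] at h2

/-- a morphism of schemes with a property stable under base change gives a composition functor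
representable with that property. -/
theorem with_overMap_of_prop (Q : MorphismProperty (AlgSp.Sp S)) (hQ : BC Q) {T U : Over S}
    (a : T ⟶ U) (ha : Q ((AlgSp.yon S).map a)) : AlgSt.RepByAlgSpWith Q (AlgSt.overMap a) := by
  have i1 : IsFibGrpd (AlgSt.ofSch T).p := inferInstanceAs (IsFibGrpd (EltObj.forget _))
  have i2 : IsFibGrpd (AlgSt.ofSch U).p := inferInstanceAs (IsFibGrpd (EltObj.forget _))
  have h3 : AlgSt.RepByAlgSpWith Q (Stk.ofPshMap ((AlgSp.yon S).map a).hom) :=
    with_ofPshMap_of_prop Q hQ ⟨(AlgSp.yon S).obj T, AlgSp.IsAlgSpace.yon_obj T⟩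
      ⟨(AlgSp.yon S).obj U, AlgSp.IsAlgSpace.yon_obj U⟩ ((AlgSp.yon S).map a) ha
  exact (Groth.Agent.S12782.result i1 i2 (Groth.Agent.S6411.over_isFibGrpd T)
    (Groth.Agent.S6411.over_isFibGrpd U) Q
    (Stk.ofPshMap ((AlgSp.yon S).map a).hom) (AlgSt.overMap a) (AlgSt.ofOverCat T)
    (AlgSt.ofOverCat U) (ofOverCat_isEquivOver T) (ofOverCat_isEquivOver U) (Iso.refl _)).mp h3

theorem smooth_imp {Q : MorphismProperty Scheme.{u}}
    (hle : ∀ ⦃A B : Scheme.{u}⦄ (g : A ⟶ B), Smooth g → Q g) {𝒜 ℬ : AlgSt.Cat S} {w : 𝒜 ⥤ᵇ ℬ}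
    (hw : AlgSt.RepByAlgSpWith (AlgSp.LocP @Smooth) w) : AlgSt.RepByAlgSpWith (AlgSp.LocP Q) w :=
  with_imp (fun _ _ a ha => locP_mono hle a ha) hw

/-- the diagonal of a morphism of algebraic stacks locally of finite type is locally of finite
presentation. -/
theorem with_diag_lfp {𝒳 𝒴 : AlgSt.Cat S} (h𝒳 : AlgSt.IsAlgStack Scheme.fppfPrecoverage 𝒳)
    (h𝒴 : AlgSt.IsAlgStack Scheme.fppfPrecoverage 𝒴) (f : 𝒳 ⥤ᵇ 𝒴)
    (hLoc : AlgSt.LocQ (AlgSp.LocP @LocallyOfFiniteType) f) :
    AlgSt.RepByAlgSpWith (AlgSp.LocP @LocallyOfFinitePresentation) (FibCat.diag f) := by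
  have iX := h𝒳.isStack.1
  have iY := h𝒴.isStack.1
  obtain ⟨V, y, hy1, hy2⟩ := h𝒴.atlas
  obtain ⟨U, x, h, α, hx1, hx2, hℓ1, hℓ2⟩ := exists_square h𝒳 h𝒴 f y hy1 hy2
  have iU := Groth.Agent.S6411.over_isFibGrpd U
  have iV := Groth.Agent.S6411.over_isFibGrpd V
  obtain ⟨U₀, V₀, x₀, y₀, h₀, α₀, r1, r2, r3, r4⟩ := hLoc
  have hPh : AlgSp.LocP @LocallyOfFiniteType ((AlgSp.yon S).map h) :=
    prop_of_squares Groth.Agent.H65.SmoothST.isSmoothLocalST_lft iX iY f x₀ y₀ h₀ α₀ r1 r2 r3 r4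
      x y h α hy1 hℓ1
  -- the base change `g : 𝒳_V ⟶ V` of `f` and its chart `u`
  have iP : IsFibGrpd (fp f y).p := fp_isFibGrpd _ _ iX iV iY
  have iP' : IsFibGrpd (fp y f).p := fp_isFibGrpd _ _ iV iX iY
  have hP' : AlgSt.IsAlgStack Scheme.fppfPrecoverage (fp y f) :=
    Groth.Agent.H32.AlgStackFp.isAlgStack_fp iY h𝒴.diag (isAlgStack_overCat V) h𝒳 y f
  obtain ⟨u, hudef⟩ : ∃ u : FibCat.overCat U ⥤ᵇ fp y f,
      u = BasedFunctor.comp (FibCat.fpLift x (AlgSt.overMap h) α) (swap f y) := ⟨_, rfl⟩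
  have hu1 : AlgSt.RepByAlgSpWith (AlgSp.LocP @Smooth) u := by
    rw [hudef]
    exact (with_postcomp_equiv _ iU iP iP' _ (swap f y) (swap_isEquivOver f y)).mpr hℓ1
  have hu2 : AlgSt.RepByAlgSpWith AlgSp.IsSurjectiveMor u := by
    rw [hudef]
    exact (with_postcomp_equiv _ iU iP iP' _ (swap f y) (swap_isEquivOver f y)).mpr hℓ2
  have hug : BasedFunctor.comp u (fpFst y f) = AlgSt.overMap h := by
    rw [hudef]
    rfl
  -- the diagonal of `overMap h`
  have hR : AlgSt.RepByAlgSpWith (AlgSp.LocP @LocallyOfFiniteType) (AlgSt.overMap h) :=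
    with_overMap_of_prop _ good_lft.bc h hPh
  have hΔh : AlgSt.RepByAlgSpWith (AlgSp.LocP @LocallyOfFinitePresentation)
      (FibCat.diag (AlgSt.overMap h)) :=
    with_diag_of_rep' _ _ good_lfp.bc sec_lfp good_lft.loc iU iV (AlgSt.overMap h)
      (rep1_of_with hR) hR
  -- the comparison morphism `c`
  have iUU : IsFibGrpd (fp u u).p := fp_isFibGrpd _ _ iU iU iP'
  have iHH : IsFibGrpd (fp (BasedFunctor.comp u (fpFst y f))
      (BasedFunctor.comp u (fpFst y f))).p := fp_isFibGrpd _ _ iU iU iV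
  have hΔπ : AlgSt.RepByAlgSpWith (AlgSp.LocP @LocallyOfFinitePresentation)
      (FibCat.diag (fpFst (BasedFunctor.comp u (fpFst y f))
        (BasedFunctor.comp u (fpFst y f)))) := by
    rw [hug]
    exact with_diag_fpFst _ iU iV iU _ _ hΔh
  have hfst : AlgSt.RepByAlgSpWith (AlgSp.LocP @LocallyOfFinitePresentation) (fpFst u u) :=
    smooth_imp (fun _ _ g hg => by have : Smooth g := hg; infer_instance)
      (Groth.Agent.S12779.result iU iP' iU _ u u hu1)
  have hc : AlgSt.RepByAlgSpWith (AlgSp.LocP @LocallyOfFinitePresentation)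
      (FibCat.fpLift (F := BasedFunctor.comp u (fpFst y f))
        (G := BasedFunctor.comp u (fpFst y f)) (fpFst u u) (fpSnd u u)
        (whiskerR (fpIso u u) (fpFst y f))) :=
    with_cancel good_lfp iUU iHH iU _
      (fpFst (BasedFunctor.comp u (fpFst y f)) (BasedFunctor.comp u (fpFst y f))) hfst hΔπ
  -- the diagonal of `g`
  have hΔg1 : AlgSt.RepByAlgSp1 (FibCat.diag (fpFst y f)) :=
    repByAlgSp1_diag iP' iV hP'.diag (isAlgStack_overCat V).diag (fpFst y f)
  have iGG : IsFibGrpd (fp (fpFst y f) (fpFst y f)).p := fp_isFibGrpd _ _ iP' iP' iV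
  have iM : IsFibGrpd (fp (prodF u u (fpFst y f)) (FibCat.diag (fpFst y f))).p :=
    fp_isFibGrpd _ _ iHH iP' iGG
  have hπ : AlgSt.RepByAlgSpWith (AlgSp.LocP @LocallyOfFinitePresentation)
      (fpFst (prodF u u (fpFst y f)) (FibCat.diag (fpFst y f))) :=
    with_of_iso _ iM iHH (compIso u u (fpFst y f) (whiskerR (fpIso u u) (fpFst y f))
      (fun _ => rfl)).symm
      (with_precomp_equiv _ iM iUU iHH (magic u u (fpFst y f)) (magic_isEquivOver u u _) _ hc)
  have hΔg : AlgSt.RepByAlgSpWith (AlgSp.LocP @LocallyOfFinitePresentation)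
      (FibCat.diag (fpFst y f)) :=
    with_of_fpFst_cover _ good_lfp.loc iP' iGG _ hΔg1 (prodF u u (fpFst y f))
      (with_prodF good_flat iU iU iP' iV u u _
        (smooth_imp (fun _ _ g hg => by have : Smooth g := hg; infer_instance) hu1)
        (smooth_imp (fun _ _ g hg => by have : Smooth g := hg; infer_instance) hu1))
      (with_prodF good_lfp iU iU iP' iV u u _
        (smooth_imp (fun _ _ g hg => by have : Smooth g := hg; infer_instance) hu1)
        (smooth_imp (fun _ _ g hg => by have : Smooth g := hg; infer_instance) hu1))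
      (with_prodF good_surjective iU iU iP' iV u u _ hu2 hu2) hπ
  -- descent along `y`
  exact with_diag_of_fpFst_cover _ good_lfp.loc iX iY iV f
    (repByAlgSp1_diag iX iY h𝒳.diag h𝒴.diag f) y
    (smooth_imp (fun _ _ g hg => by have : Smooth g := hg; infer_instance) hy1)
    (smooth_imp (fun _ _ g hg => by have : Smooth g := hg; infer_instance) hy1) hy2 hΔg

end Groth.Agent.H65.DiagLfp
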