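import Groth.Prelude.Def_OmegaPn
import Groth.Agent.H39.PullTrack

/-!
# Transition maps `P^m(F) ⟶ P^n(F)` (for `n ≤ m`) and monotonicity of the order of differential operators

Everything is done for abstract schemes/morphisms `j : A ⟶ B`, `p g : B ⟶ X`, `p' g' : A ⟶ X`
(the kernel is very slow at comparing sections of pushforwards along the concrete morphisms between
infinitesimal neighbourhoods), and only instantiated at the end.
-/

set_option autoImplicit false
universe u
open CategoryTheory AlgebraicGeometry Opposite OmegaSh TopologicalSpace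

namespace Groth.Agent.H65.DiffOpMono

open Groth.Agent.H39.PullTrack

section Generic

variable {A B X : Scheme.{u}} (j : A ⟶ B) (p g : B ⟶ X) (p' g' : A ⟶ X)
  (e1 : j ≫ p = p') (e2 : j ≫ g = g')
  (hpg : ∀ U : X.Opens, p ⁻¹ᵁ U = g ⁻¹ᵁ U) (hpg' : ∀ U : X.Opens, p' ⁻¹ᵁ U = g' ⁻¹ᵁ U)
  (F : X.Modules)

/-- the generic `P(F) = p_* g^* F` -/
noncomputable abbrev PG : X.Modules :=
  (Scheme.Modules.pushforward p).obj ((Scheme.Modules.pullback g).obj F)

/-- the generic `d : F → p_* g^* F` (same formula as `PrinPart.dP`) -/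
noncomputable def dG (U : X.Opens) : Γ(F, U) →+ Γ(PG p g F, U) :=
  (((Scheme.Modules.pullback g).obj F).presheaf.map
      (homOfLE (hpg U).le).op).hom.comp
    (OmegaSh.pullSect g F U).hom

theorem dG_eq_pullSectLE (U : X.Opens) (t : Γ(F, U)) :
    dG p g hpg F U t = pullSectLE g F U (p ⁻¹ᵁ U) (hpg U).le t := rfl

/-- `δ : j^* g^* F ⟶ g'^* F`. -/
noncomputable def delta :
    (Scheme.Modules.pullback j).obj ((Scheme.Modules.pullback g).obj F) ⟶
      (Scheme.Modules.pullback g').obj F :=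
  (Scheme.Modules.pullbackComp j g).hom.app F ≫ (Scheme.Modules.pullbackCongr e2).hom.app F

theorem delta_app (W : A.Opens)
    (y : Γ((Scheme.Modules.pullback j).obj ((Scheme.Modules.pullback g).obj F), W)) :
    (delta j g g' e2 F).app W y =
      ((Scheme.Modules.pullbackCongr e2).hom.app F).app W
        (((Scheme.Modules.pullbackComp j g).hom.app F).app W y) := rfl

/-- `φ : g^* F ⟶ j_* g'^* F`. -/
noncomputable def phi :
    (Scheme.Modules.pullback g).obj F ⟶
      (Scheme.Modules.pushforward j).obj ((Scheme.Modules.pullback g').obj F) :=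
  (Scheme.Modules.pullbackPushforwardAdjunction j).unit.app
      ((Scheme.Modules.pullback g).obj F) ≫
    (Scheme.Modules.pushforward j).map (delta j g g' e2 F)

theorem phi_app (W : B.Opens) (y : Γ((Scheme.Modules.pullback g).obj F, W)) :
    (phi j g g' e2 F).app W y =
      (delta j g g' e2 F).app (j ⁻¹ᵁ W)
        (pullSect j ((Scheme.Modules.pullback g).obj F) W y) := rfl

/-- The transition map `ρ : p_* g^* F ⟶ p'_* g'^* F`. -/
noncomputable def rho : PG p g F ⟶ PG p' g' F :=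
  (Scheme.Modules.pushforward p).map (phi j g g' e2 F) ≫
    (Scheme.Modules.pushforwardComp j p).hom.app ((Scheme.Modules.pullback g').obj F) ≫
    (Scheme.Modules.pushforwardCongr e1).hom.app ((Scheme.Modules.pullback g').obj F)

theorem rho_app (U : X.Opens) (s : Γ((Scheme.Modules.pullback g).obj F, p ⁻¹ᵁ U)) :
    (rho j p g p' g' e1 e2 F).app U s =
      ((Scheme.Modules.pullback g').obj F).presheaf.map
        (eqToHom (show p' ⁻¹ᵁ U = (j ≫ p) ⁻¹ᵁ U by rw [e1])).op
        ((phi j g g' e2 F).app (p ⁻¹ᵁ U) s) := rfl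

theorem rho_dG (U : X.Opens) (t : Γ(F, U)) :
    (rho j p g p' g' e1 e2 F).app U (dG p g hpg F U t) = dG p' g' hpg' F U t := by
  rw [dG_eq_pullSectLE, dG_eq_pullSectLE]
  refine (rho_app j p g p' g' e1 e2 F U _).trans ?_
  rw [phi_app, delta_app, ← pullSectLE_self, pullbackComp_hom_pullSectLE,
    pullbackCongr_hom_pullSectLE]
  have e3 : (eqToHom (show p' ⁻¹ᵁ U = (j ≫ p) ⁻¹ᵁ U by rw [e1])) =
      homOfLE (by rw [e1]) := Subsingleton.elim _ _
  rw [e3]
  exact pullSectLE_res_target _ _ _ _ _ _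

include j e1 e2 in
theorem exists_G (G : X.Modules) (D : F.presheaf ⟶ G.presheaf) (u₀ : PG p' g' F ⟶ G)
    (h₀ : ∀ (U : X.Opens) (t : Γ(F, U)), D.app (op U) t = u₀.app U (dG p' g' hpg' F U t)) :
    ∃ u : PG p g F ⟶ G,
      ∀ (U : X.Opens) (t : Γ(F, U)), D.app (op U) t = u.app U (dG p g hpg F U t) := by
  refine ⟨rho j p g p' g' e1 e2 F ≫ u₀, fun U t => ?_⟩
  rw [h₀ U t, ← rho_dG j p g p' g' e1 e2 hpg hpg' F U t]
  rfl

end Generic

section Main

variable {X S : Scheme.{u}} (f : X ⟶ S)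

theorem tr_pr1 {n m : ℕ} (h : n ≤ m) :
    PrinPart.infNbhdMap (PrinPart.diagCl f) h ≫ PrinPart.pr1 f m = PrinPart.pr1 f n := by
  simp [PrinPart.pr1, PrinPart.nbhdι]

theorem tr_pr2 {n m : ℕ} (h : n ≤ m) :
    PrinPart.infNbhdMap (PrinPart.diagCl f) h ≫ PrinPart.pr2 f m = PrinPart.pr2 f n := by
  simp [PrinPart.pr2, PrinPart.nbhdι]

theorem isDiffOpLE_mono (F G : X.Modules) {n m : ℕ} (h : n ≤ m)
    (D : F.presheaf ⟶ G.presheaf) (hD : PrinPart.IsDiffOpLE f F G n D) :
    PrinPart.IsDiffOpLE f F G m D := by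
  obtain ⟨u₀, h₀⟩ := hD
  exact exists_G (PrinPart.infNbhdMap (PrinPart.diagCl f) h) (PrinPart.pr1 f m) (PrinPart.pr2 f m)
    (PrinPart.pr1 f n) (PrinPart.pr2 f n) (tr_pr1 f h) (tr_pr2 f h)
    (PrinPart.preimage_pr1 f m) (PrinPart.preimage_pr1 f n) F G D u₀ h₀

end Main

end Groth.Agent.H65.DiffOpMono
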