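import Groth.Agent.H65.DiffOpMono
import Groth.Agent.S5979

/-!
# Differential operators of order `≤ 0` are the `O_X`-linear maps
-/

set_option autoImplicit false
universe u
open CategoryTheory AlgebraicGeometry Opposite OmegaSh TopologicalSpace

namespace Groth.Agent.H65.DiffOpZero

open Groth.Agent.H39.PullTrack Groth.Agent.H65.DiffOpMono

section Generic

variable {B X : Scheme.{u}} (p g : B ⟶ X) (e : p = g)
  (hpg : ∀ U : X.Opens, p ⁻¹ᵁ U = g ⁻¹ᵁ U) (F : X.Modules)

include e in
theorem dG_eq_unit (U : X.Opens) (t : Γ(F, U)) :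
    dG p g hpg F U t =
      ((Scheme.Modules.pushforwardCongr e.symm).hom.app ((Scheme.Modules.pullback g).obj F)).app U
        (((Scheme.Modules.pullbackPushforwardAdjunction g).unit.app F).app U t) := by
  subst e
  rw [dG_eq_pullSectLE, pullSectLE_apply]
  rfl

/-- `d` as a morphism of `O_X`-modules when `p = g`. -/
noncomputable def psi : F ⟶ PG p g F :=
  (Scheme.Modules.pullbackPushforwardAdjunction g).unit.app F ≫
    (Scheme.Modules.pushforwardCongr e.symm).hom.app ((Scheme.Modules.pullback g).obj F)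

theorem dG_eq_psi (U : X.Opens) (t : Γ(F, U)) :
    dG p g hpg F U t = (psi p g e F).app U t :=
  dG_eq_unit p g e hpg F U t

theorem isIso_psi [IsIso g] : IsIso (psi p g e F) := by
  haveI := Groth.Agent.S5979.isEquivalence_pushforward g
  haveI : IsIso ((Scheme.Modules.pullbackPushforwardAdjunction g).unit.app F) := inferInstance
  unfold psi
  infer_instance

/-- A sectionwise linear map of abelian presheaves as a morphism of modules. -/
noncomputable def homOfLinear (G : X.Modules) (D : F.presheaf ⟶ G.presheaf)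
    (hD : ∀ (U : X.Opens) (a : Γ(X, U)) (t : Γ(F, U)),
      D.app (op U) (a • t) = a • D.app (op U) t) : F ⟶ G :=
  ⟨PresheafOfModules.homMk D (fun U r m => hD U.unop r m)⟩

theorem homOfLinear_app (G : X.Modules) (D : F.presheaf ⟶ G.presheaf)
    (hD : ∀ (U : X.Opens) (a : Γ(X, U)) (t : Γ(F, U)),
      D.app (op U) (a • t) = a • D.app (op U) t) (U : X.Opens) (t : Γ(F, U)) :
    (homOfLinear F G D hD).app U t = D.app (op U) t := rfl

include e in
theorem iff_G [IsIso g] (G : X.Modules) (D : F.presheaf ⟶ G.presheaf) :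
    (∃ u : PG p g F ⟶ G,
      ∀ (U : X.Opens) (t : Γ(F, U)), D.app (op U) t = u.app U (dG p g hpg F U t)) ↔
    ∀ (U : X.Opens) (a : Γ(X, U)) (t : Γ(F, U)),
      D.app (op U) (a • t) = a • D.app (op U) t := by
  constructor
  · rintro ⟨u, hu⟩ U a t
    rw [hu U (a • t), hu U t, dG_eq_psi p g e hpg, dG_eq_psi p g e hpg,
      Scheme.Modules.Hom.app_smul, Scheme.Modules.Hom.app_smul]
  · intro hD
    haveI := isIso_psi p g e F
    refine ⟨inv (psi p g e F) ≫ homOfLinear F G D hD, fun U t => ?_⟩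
    rw [dG_eq_psi p g e hpg, ← homOfLinear_app F G D hD U t]
    have h1 : psi p g e F ≫ (inv (psi p g e F) ≫ homOfLinear F G D hD) =
        homOfLinear F G D hD := by
      rw [IsIso.hom_inv_id_assoc]
    exact (congrArg (fun φ => (Scheme.Modules.Hom.app φ U) t) h1).symm

end Generic

section Main

variable {X S : Scheme.{u}} (f : X ⟶ S)

theorem pr1_zero_eq : PrinPart.pr1 f 0 = PrinPart.pr2 f 0 := by
  haveI := Groth.Agent.S5979.isIso_toNbhd_zero f
  rw [← cancel_epi (PrinPart.toNbhd f 0), PrinPart.toNbhd_pr1, PrinPart.toNbhd_pr2]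

theorem isIso_pr2_zero : IsIso (PrinPart.pr2 f 0) := by
  haveI := Groth.Agent.S5979.isIso_toNbhd_zero f
  have h2 : PrinPart.pr2 f 0 = inv (PrinPart.toNbhd f 0) := by
    rw [← cancel_epi (PrinPart.toNbhd f 0), PrinPart.toNbhd_pr2, IsIso.hom_inv_id]
  rw [h2]; infer_instance

theorem isDiffOpLE_zero_iff (F G : X.Modules) (D : F.presheaf ⟶ G.presheaf) :
    PrinPart.IsDiffOpLE f F G 0 D ↔
      ∀ (U : X.Opens) (a : Γ(X, U)) (t : Γ(F, U)), D.app (op U) (a • t) = a • D.app (op U) t := by
  haveI := isIso_pr2_zero f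
  exact iff_G (PrinPart.pr1 f 0) (PrinPart.pr2 f 0) (pr1_zero_eq f) (PrinPart.preimage_pr1 f 0) F G D

end Main

end Groth.Agent.H65.DiffOpZero
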