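import Groth.Agent.H32.ImmImage
import Groth.Agent.H32.StPoints
import Groth.Agent.H32.AlgStackEquiv
import Groth.Prelude.Def_StGerb

/-!
# Transport along equivalences over the base; residual gerbe from a monomorphism (helper65)
-/

set_option autoImplicit false
open CategoryTheory CategoryTheory.Limits AlgebraicGeometry Opposite
universe u

namespace Groth.Agent.H65.EquivTransport

open FibCat Stk Groth.Agent.H32.FibProd Groth.Agent.H32.Fp2 Groth.Agent.H32.Fp3
  Groth.Agent.H32.ImmImage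

variable {S : Scheme.{u}}

/-- smooth-local properties transport along equivalences over the base. -/
theorem smoothLocally_of_equiv (P : Scheme.{u} → Prop) {𝒵 𝒵' : AlgSt.Cat S}
    (iZ : IsFibGrpd 𝒵.p) (iZ' : IsFibGrpd 𝒵'.p) (e : 𝒵 ⥤ᵇ 𝒵') (he : IsEquivOver e)
    (h : AlgSt.SmoothLocally P 𝒵) : AlgSt.SmoothLocally P 𝒵' := by
  intro U x' hx'
  obtain ⟨e', he', -, -⟩ := exists_inv_isEquivOver he
  exact h U (BasedFunctor.comp x' e')
    ((Groth.Agent.H32.AlgStackEquiv.repByAlgSpWith_comp_equiv _ iZ' iZ e' he' U x').mpr hx')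

/-- a monomorphism from a reduced locally Noetherian one-point algebraic stack identifies it with
the residual gerbe at the image point, cut out by the essential image. -/
theorem isResGerbe_essIm {𝒳 𝒵 : AlgSt.Cat S}
    (h𝒳 : AlgSt.IsAlgStack Scheme.fppfPrecoverage 𝒳) (x : AlgSt.Points 𝒳)
    (h𝒵 : AlgSt.IsAlgStack Scheme.fppfPrecoverage 𝒵)
    (hred : AlgSt.SmoothLocally (fun T => IsReduced T) 𝒵)
    (hnoeth : AlgSt.SmoothLocally (fun T => IsLocallyNoetherian T) 𝒵)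
    (hne : Nonempty (AlgSt.Points 𝒵)) (hsub : Subsingleton (AlgSt.Points 𝒵))
    (f : 𝒵 ⥤ᵇ 𝒳) (hf : AlgSt.IsMono f) (hfx : ∀ p : AlgSt.Points 𝒵, AlgSt.Points.map f p = x) :
    Gerb.IsResGerbe Scheme.fppfPrecoverage 𝒳 x (EssIm f) ∧ IsEquivOver (toEssIm f) := by
  have iZ : IsFibGrpd 𝒵.p := h𝒵.isStack.1
  have iX : IsFibGrpd 𝒳.p := h𝒳.isStack.1
  obtain ⟨hfull, hfaith⟩ := Groth.Agent.S12774.result iZ iX f hf
  have he : IsEquivOver (toEssIm f) := toEssIm_isEquivOver iZ iX f hfull hfaith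
  have hAlg : AlgSt.IsAlgStack Scheme.fppfPrecoverage (AlgSt.fullSub 𝒳 (EssIm f)) :=
    Groth.Agent.H32.AlgStackEquiv.isAlgStack_of_equiv (toEssIm f) he h𝒵
  have iQ : IsFibGrpd (AlgSt.fullSub 𝒳 (EssIm f)).p := hAlg.isStack.1
  have hbij := Groth.Agent.H32.StPoints.map_bijective (toEssIm f) he
  refine ⟨⟨essIm_isoClosed f, hAlg, smoothLocally_of_equiv _ iZ iQ _ he hred,
    smoothLocally_of_equiv _ iZ iQ _ he hnoeth, ?_, ?_, ?_⟩, he⟩
  · obtain ⟨p⟩ := hne
    exact ⟨AlgSt.Points.map (toEssIm f) p⟩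
  · refine ⟨fun a b => ?_⟩
    obtain ⟨a', rfl⟩ := hbij.2 a
    obtain ⟨b', rfl⟩ := hbij.2 b
    rw [Subsingleton.elim a' b']
  · intro z
    obtain ⟨z', rfl⟩ := hbij.2 z
    rw [← Groth.Agent.H32.StPoints.map_comp, toEssIm_comp]
    exact hfx z'

end Groth.Agent.H65.EquivTransport
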