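import Mathlib
import Groth.Prelude.Def_PBC
import Groth.Prelude.Def_EtCore
import Groth.Agent.H24.EtCons.Defs

/-!
# P1 for helper24's EtCons squad (S0127–S0130): finite disjoint unions of adapted strata.
-/

set_option autoImplicit false
universe u
open CategoryTheory CategoryTheory.Limits AlgebraicGeometry Topology
open Groth.Agent.H24.EtCons

namespace Groth.Agent.H65.EtCons_P1

theorem adaptedIn_iUnion {X : Scheme.{u}} (F : EtCoh.Ab X) (S : Set X) (n : ℕ) (P : Fin n → Set X)
    (hP : Pairwise (fun k l => Disjoint (P k) (P l))) (h : ∀ k, AdaptedIn F S (P k)) :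
    AdaptedIn F S (⋃ k, P k) := by
  choose m T g himm hcons hdisj hun hflc using h
  let e := finSigmaFinEquiv (m := n) (n := m)
  have hsub : ∀ k i, Set.range (g k i) ⊆ P k := by
    intro k i x hx
    rw [← hun k]
    exact Set.mem_iUnion.2 ⟨i, hx⟩
  have hD : ∀ a b : (Σ k : Fin n, Fin (m k)), a ≠ b →
      Disjoint (Set.range (g a.1 a.2)) (Set.range (g b.1 b.2)) := by
    rintro ⟨k, i⟩ ⟨k', i'⟩ hne
    by_cases hk : k = k'
    · subst hk
      have hi : i ≠ i' := fun hh => hne (by rw [hh])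
      exact hdisj k hi
    · exact (hP hk).mono (hsub k i) (hsub k' i')
  refine ⟨∑ k, m k, fun j => T (e.symm j).1 (e.symm j).2, fun j => g (e.symm j).1 (e.symm j).2,
    fun j => himm _ _, fun j => hcons _ _, ?_, ?_, fun j => hflc _ _⟩
  · intro j j' hjj'
    exact hD _ _ (fun hh => hjj' (e.symm.injective hh))
  · ext x
    simp only [Set.mem_iUnion]
    constructor
    · rintro ⟨j, hj⟩
      exact ⟨(e.symm j).1, hsub _ _ hj⟩
    · rintro ⟨k, hk⟩
      rw [← hun k] at hk
      obtain ⟨i, hi⟩ := Set.mem_iUnion.1 hk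
      have hU : ∀ (a : (Σ k : Fin n, Fin (m k))) (j : Fin (∑ k, m k)), e.symm j = a →
          x ∈ Set.range (g a.1 a.2) → x ∈ Set.range (g (e.symm j).1 (e.symm j).2) := by
        rintro a j rfl h
        exact h
      exact ⟨e ⟨k, i⟩, hU ⟨k, i⟩ _ (Equiv.symm_apply_apply _ _) hi⟩

end Groth.Agent.H65.EtCons_P1
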