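import Mathlib
import Groth.Prelude.Def_PBC
import Groth.Prelude.Def_EtCore
import Groth.Agent.H24.EtCons.Defs

/-!
# P3 for helper24's EtCons squad (S0127–S0130): enlarging the ambient open subspace.

NOTE: the hypothesis `hPV : P ⊆ V` is needed (without it the ranges of the strata need not lie in
`V` and constructibility in `U` does not follow).
-/

set_option autoImplicit false
universe u
open CategoryTheory CategoryTheory.Limits AlgebraicGeometry Topology
open Groth.Agent.H24.EtCons

namespace Groth.Agent.H65.EtCons_P3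

theorem adaptedIn_of_le {X : Scheme.{u}} (F : EtCoh.Ab X) (U V : X.Opens) (hVU : V ≤ U)
    (hret : IsRetrocompact ((Subtype.val : ↥(U : Set X) → X) ⁻¹' (V : Set X))) (P : Set X)
    (hPV : P ⊆ (V : Set X))
    (h : AdaptedIn F (V : Set X) P) : AdaptedIn F (U : Set X) P := by
  obtain ⟨n, T, g, himm, hcons, hdisj, hun, hflc⟩ := h
  refine ⟨n, T, g, himm, fun i => ?_, hdisj, hun, hflc⟩
  have hsub : (V : Set X) ⊆ (U : Set X) := hVU
  have hop : IsOpen ((Subtype.val : ↥(U : Set X) → X) ⁻¹' (V : Set X)) :=
    V.isOpen.preimage continuous_subtype_val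
  have hι : IsOpenEmbedding (Set.inclusion hsub) := Topology.IsOpenEmbedding.inclusion hsub hop
  have hrange : Set.range (Set.inclusion hsub) =
      (Subtype.val : ↥(U : Set X) → X) ⁻¹' (V : Set X) := by
    rw [Set.range_inclusion]
    rfl
  have hgi : Set.range (g i) ⊆ (V : Set X) := by
    intro x hx
    apply hPV
    rw [← hun]
    exact Set.mem_iUnion.2 ⟨i, hx⟩
  have himage : (Subtype.val : ↥(U : Set X) → X) ⁻¹' Set.range (g i) =
      Set.inclusion hsub '' ((Subtype.val : ↥(V : Set X) → X) ⁻¹' Set.range (g i)) := by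
    ext ⟨x, hxU⟩
    constructor
    · intro hx
      exact ⟨⟨x, hgi hx⟩, hx, rfl⟩
    · rintro ⟨⟨y, hyV⟩, hy, hxy⟩
      have : y = x := congrArg Subtype.val hxy
      subst this
      exact hy
  rw [himage]
  exact (hcons i).image_of_isOpenEmbedding hι (by rw [hrange]; exact hret)

end Groth.Agent.H65.EtCons_P3
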