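import Groth.Agent.S3709
import Groth.Agent.H65.DescLoc2

/-!
# Descent of maps to étale schemes along a universally submersive morphism, in `IsSol` form
(helper65)
-/

set_option autoImplicit false
universe u

open CategoryTheory CategoryTheory.Limits AlgebraicGeometry Desc

namespace Groth.Agent.H65.EtDescSub

open Groth.Agent.H51.DescCrit Groth.Agent.H65.DescLoc2

theorem hasDesc_etale {S S' : Scheme.{u}} (g : S' ⟶ S) (hg : SGA1.UnivSubmersive g)
    (D : SchDDFam (fun _ : PUnit.{1} => g)) (W Y : Over S)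
    (k : ∀ i, (D.obj i).left ⟶ W.left) (hs : IsSol D W k) (hY : Etale Y.hom) :
    HasDesc D W k Y := by
  intro m hm hinv
  have sq : IsPullback (k ⟨⟩) (D.obj ⟨⟩).hom W.hom g := hs.sq ⟨⟩
  let e : (D.obj ⟨⟩).left ≅ pullback W.hom g := sq.isoPullback
  have e1 : e.hom ≫ pullback.fst W.hom g = k ⟨⟩ := sq.isoPullback_hom_fst
  have e2 : e.hom ≫ pullback.snd W.hom g = (D.obj ⟨⟩).hom := sq.isoPullback_hom_snd
  have e3 : e.inv ≫ k ⟨⟩ = pullback.fst W.hom g := sq.isoPullback_inv_fst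
  have e4 : e.inv ≫ (D.obj ⟨⟩).hom = pullback.snd W.hom g := sq.isoPullback_inv_snd
  have hc : (e.inv ≫ m ⟨⟩) ≫ Y.hom = pullback.snd W.hom g ≫ g := by
    rw [Category.assoc, hm, ← Category.assoc, e4]
  let f' : pullback W.hom g ⟶ pullback Y.hom g :=
    pullback.lift (e.inv ≫ m ⟨⟩) (pullback.snd W.hom g) hc
  have hf'1 : f' ≫ pullback.fst Y.hom g = e.inv ≫ m ⟨⟩ := pullback.lift_fst _ _ _
  have hf'2 : f' ≫ pullback.snd Y.hom g = pullback.snd W.hom g := pullback.lift_snd _ _ _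
  have hcoc : pullback.map W.hom (pullback.fst g g ≫ g) W.hom g (𝟙 _) (pullback.fst g g) (𝟙 S)
        ((Category.comp_id _).trans (Category.id_comp _).symm) (Category.comp_id _) ≫ f' ≫
          pullback.fst Y.hom g =
      pullback.map W.hom (pullback.fst g g ≫ g) W.hom g (𝟙 _) (pullback.snd g g) (𝟙 S)
        ((Category.comp_id _).trans (Category.id_comp _).symm)
        ((Category.comp_id _).trans pullback.condition) ≫ f' ≫ pullback.fst Y.hom g := by
    set z₀ := pullback.map W.hom (pullback.fst g g ≫ g) W.hom g (𝟙 _) (pullback.fst g g) (𝟙 S)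
        ((Category.comp_id _).trans (Category.id_comp _).symm) (Category.comp_id _) with hz₀
    set z₁ := pullback.map W.hom (pullback.fst g g ≫ g) W.hom g (𝟙 _) (pullback.snd g g) (𝟙 S)
        ((Category.comp_id _).trans (Category.id_comp _).symm)
        ((Category.comp_id _).trans pullback.condition) with hz₁
    have z₀f : z₀ ≫ pullback.fst W.hom g = pullback.fst _ _ := by
      rw [hz₀, pullback.lift_fst, Category.comp_id]
    have z₁f : z₁ ≫ pullback.fst W.hom g = pullback.fst _ _ := by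
      rw [hz₁, pullback.lift_fst, Category.comp_id]
    have z₀s : z₀ ≫ pullback.snd W.hom g = pullback.snd _ _ ≫ pullback.fst g g := by
      rw [hz₀, pullback.lift_snd]
    have z₁s : z₁ ≫ pullback.snd W.hom g = pullback.snd _ _ ≫ pullback.snd g g := by
      rw [hz₁, pullback.lift_snd]
    rw [hf'1]
    have hx : (z₀ ≫ pullback.snd W.hom g) ≫ (fun _ : PUnit.{1} => g) PUnit.unit =
        (z₁ ≫ pullback.snd W.hom g) ≫ (fun _ : PUnit.{1} => g) PUnit.unit := by
      change (z₀ ≫ pullback.snd W.hom g) ≫ g = (z₁ ≫ pullback.snd W.hom g) ≫ g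
      rw [z₀s, z₁s, Category.assoc, Category.assoc, pullback.condition]
    have hv : (z₀ ≫ e.inv) ≫ (D.obj ⟨⟩).hom = z₀ ≫ pullback.snd W.hom g := by
      rw [Category.assoc, e4]
    have key := @hinv _ PUnit.unit PUnit.unit (z₀ ≫ pullback.snd W.hom g)
      (z₁ ≫ pullback.snd W.hom g) hx ⟨z₀ ≫ e.inv, hv⟩
    have claim : (D.φ (i := PUnit.unit) (j := PUnit.unit) (z₀ ≫ pullback.snd W.hom g)
        (z₁ ≫ pullback.snd W.hom g) hx
        ⟨z₀ ≫ e.inv, hv⟩).1 = z₁ ≫ e.inv := by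
      apply sq.hom_ext
      · rw [hs.inv]
        change (z₀ ≫ e.inv) ≫ k ⟨⟩ = _
        rw [Category.assoc, Category.assoc, e3, z₀f, z₁f]
      · rw [Category.assoc, e4]
        exact (D.φ (i := PUnit.unit) (j := PUnit.unit) (z₀ ≫ pullback.snd W.hom g)
          (z₁ ≫ pullback.snd W.hom g) hx
          ⟨z₀ ≫ e.inv, hv⟩).2
    rw [claim] at key
    change (z₁ ≫ e.inv) ≫ m ⟨⟩ = (z₀ ≫ e.inv) ≫ m ⟨⟩ at key
    rw [Category.assoc, Category.assoc] at key
    exact key.symm
  obtain ⟨u, ⟨hu1, hu2⟩, huniq⟩ := Groth.Agent.S3709.result g hg W.hom Y.hom f' hf'2 hcoc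
  refine ⟨u, ⟨hu1, ?_⟩, ?_⟩
  · rintro ⟨⟩
    rw [← e1, Category.assoc, ← hu2, hf'1, ← Category.assoc, Iso.hom_inv_id, Category.id_comp]
  · rintro t ⟨ht1, ht2⟩
    refine huniq t ⟨ht1, ?_⟩
    rw [hf'1, ← ht2 ⟨⟩, ← Category.assoc, e3]

end Groth.Agent.H65.EtDescSub
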