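import Groth.Agent.H65.ExpSubst

/-!
# More on `expS`: `expS (∑_{j ≥ 1} X^{rj} / j) * (1 - X^r) = 1` and `R ∣ expS R - 1`
-/

set_option autoImplicit false

namespace Groth.Agent.H65

open PowerSeries

/-- `∑_{j ≥ 1} X^{rj} / j = -log (1 - X^r)`. -/
noncomputable def powLog (r : ℕ) : PowerSeries ℚ :=
  PowerSeries.mk fun m => if r ∣ m then (r : ℚ) / m else 0

theorem coeff_powLog (r m : ℕ) :
    coeff m (powLog r) = if r ∣ m then (r : ℚ) / m else 0 := coeff_mk _ _

theorem constantCoeff_powLog (r : ℕ) : constantCoeff (powLog r) = 0 := by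
  rw [← coeff_zero_eq_constantCoeff_apply, coeff_powLog]
  simp

theorem derivative_powLog (r : ℕ) :
    d⁄dX ℚ (powLog r) = PowerSeries.mk fun m => if r ∣ m + 1 then (r : ℚ) else 0 := by
  ext n
  rw [coeff_derivative, coeff_powLog, coeff_mk]
  split_ifs with h
  · have h1 : ((n : ℚ) + 1) ≠ 0 := Nat.cast_add_one_ne_zero n
    push_cast
    field_simp
  · rw [zero_mul]

theorem derivative_powLog_mul {r : ℕ} (hr : 1 ≤ r) :
    d⁄dX ℚ (powLog r) * (1 - X ^ r) = C (r : ℚ) * X ^ (r - 1) := by
  rw [derivative_powLog]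
  ext n
  rw [mul_sub, mul_one, map_sub, coeff_mul_X_pow', coeff_mk, coeff_C_mul, coeff_X_pow]
  by_cases hrn : r ≤ n
  · rw [if_pos hrn, coeff_mk, if_neg (show ¬ n = r - 1 by omega), mul_zero]
    have h1 : (r ∣ n - r + 1) ↔ (r ∣ n + 1) := by
      have h2 : n + 1 = (n - r + 1) + r := by omega
      rw [h2]
      exact (Nat.dvd_add_self_right).symm
    simp only [h1]
    rw [sub_self]
  · rw [if_neg hrn, sub_zero]
    by_cases hn : n = r - 1
    · have h4 : r ∣ n + 1 := by rw [hn, Nat.sub_add_cancel hr]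
      rw [if_pos hn, mul_one, if_pos h4]
    · have h4 : ¬ r ∣ n + 1 := by
        intro hd
        have h3 := Nat.le_of_dvd (Nat.succ_pos n) hd
        omega
      rw [if_neg hn, mul_zero, if_neg h4]

theorem expS_powLog_mul {r : ℕ} (hr : 1 ≤ r) : expS (powLog r) * (1 - X ^ r) = 1 := by
  have hu := constantCoeff_powLog r
  have hD : d⁄dX ℚ (1 - X ^ r : PowerSeries ℚ) = - (C (r : ℚ) * X ^ (r - 1)) := by
    rw [map_sub, derivative_one, derivative_pow, derivative_X, mul_one, zero_sub, map_natCast]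
  apply derivative.ext
  · rw [Derivation.leibniz, derivative_expS hu, hD, derivative_one]
    simp only [smul_eq_mul]
    linear_combination (expS (powLog r)) * derivative_powLog_mul hr
  · rw [map_mul, constantCoeff_expS hu, map_sub, map_one, map_pow, constantCoeff_X,
      zero_pow (by omega), sub_zero, mul_one]

theorem dvd_expS_sub_one {R : PowerSeries ℚ} (hR : constantCoeff R = 0) : R ∣ expS R - 1 := by
  have hs := hasSubst_of_cc hR
  obtain ⟨g, hg⟩ : (X : PowerSeries ℚ) ∣ exp ℚ - 1 := X_dvd_iff.mpr (by simp)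
  refine ⟨PowerSeries.subst R g, ?_⟩
  have h1 : exp ℚ = X * g + 1 := by rw [← hg, sub_add_cancel]
  have h2 : expS R = PowerSeries.subst R (X * g + 1) := by rw [expS, ← h1]
  rw [h2, subst_add hs, subst_mul hs, subst_X hs, subst_one' hs, add_sub_cancel_right]

end Groth.Agent.H65
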