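import Mathlib.Algebra.Homology.DerivedCategory.Ext.Map
import Mathlib.Algebra.Homology.DerivedCategory.Ext.ExactSequences
import Mathlib.Algebra.Homology.DerivedCategory.Ext.EnoughInjectives

/-!
# Naturality of the action of exact functors on `Ext` with respect to natural transformations

`ext_induction`: an induction principle for `Ext X Y n` in an abelian category with enough injectives
(every class in positive degree is `x₃.comp hS.extClass` for a short exact `S` with `S.X₁ = Y`).

`mapExactFunctor_natTrans`: for exact `F G : C ⥤ D` and `τ : F ⟶ G`,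
`(x.mapExactFunctor F).comp (mk₀ (τ.app Y)) = (mk₀ (τ.app X)).comp (x.mapExactFunctor G)`.

`mapExactFunctor_toId`, `mapExactFunctor_comp₂`: variants for `τ : F ⟶ 𝟭` and `τ : F ⋙ G ⟶ H`
that do not mention `mapExactFunctor (𝟭 _)` or `mapExactFunctor (F ⋙ G)`.
-/

namespace Groth.Agent.H65.ExtNat

open CategoryTheory Abelian Limits

universe w w' w'' v v' v'' u u' u''

section Induction

variable {C : Type u} [Category.{v} C] [Abelian C] [HasExt.{w} C] [EnoughInjectives C]

theorem ext_induction {X : C} (P : ∀ {Y : C} {n : ℕ}, Ext.{w} X Y n → Prop)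
    (h0 : ∀ {Y : C} (f : X ⟶ Y), P (Ext.mk₀ f))
    (h1 : ∀ {S : ShortComplex C} (hS : S.ShortExact) {n : ℕ} (x₃ : Ext.{w} X S.X₃ n),
      P x₃ → P (x₃.comp hS.extClass rfl))
    {Y : C} {n : ℕ} (x : Ext.{w} X Y n) : P x := by
  induction n generalizing Y with
  | zero =>
    obtain ⟨f, rfl⟩ := (Ext.mk₀_bijective X Y).2 x
    exact h0 f
  | succ n ih =>
    let S : ShortComplex C := ShortComplex.mk (Injective.ι Y) (cokernel.π (Injective.ι Y))
      (cokernel.condition _)
    have hS : S.ShortExact :=
      { exact := ShortComplex.exact_cokernel (Injective.ι Y)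
        mono_f := by dsimp [S]; infer_instance
        epi_g := by dsimp [S]; infer_instance }
    have hx : x.comp (Ext.mk₀ S.f) (add_zero (n + 1)) = 0 := by
      haveI : Injective S.X₂ := by dsimp [S]; infer_instance
      exact Ext.eq_zero_of_injective _
    obtain ⟨x₃, rfl⟩ := Ext.covariant_sequence_exact₁ X hS x hx rfl
    exact h1 hS x₃ (ih x₃)

end Induction

section NatTrans

variable {C : Type u} [Category.{v} C] [Abelian C] [HasExt.{w} C] [EnoughInjectives C]
variable {D : Type u'} [Category.{v'} D] [Abelian D] [HasExt.{w'} D]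
variable (F G : C ⥤ D) [F.Additive] [PreservesFiniteLimits F] [PreservesFiniteColimits F]
  [G.Additive] [PreservesFiniteLimits G] [PreservesFiniteColimits G]

theorem mapExactFunctor_natTrans (τ : F ⟶ G) {X Y : C} {n : ℕ} (x : Ext.{w} X Y n) :
    (x.mapExactFunctor F).comp (Ext.mk₀ (τ.app Y)) (add_zero n) =
      (Ext.mk₀ (τ.app X)).comp (x.mapExactFunctor G) (zero_add n) := by
  refine ext_induction
    (P := fun {Y n} x => (x.mapExactFunctor F).comp (Ext.mk₀ (τ.app Y)) (add_zero n) =
      (Ext.mk₀ (τ.app X)).comp (x.mapExactFunctor G) (zero_add n)) ?_ ?_ x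
  · intro Y f
    rw [Ext.mapExactFunctor_mk₀, Ext.mapExactFunctor_mk₀, Ext.mk₀_comp_mk₀, Ext.mk₀_comp_mk₀,
      τ.naturality]
  · intro S hS n x₃ ih
    have eF : hS.extClass.mapExactFunctor F = (hS.map_of_exact F).extClass :=
      Ext.mapExactFunctor_extClass F hS
    have eG : hS.extClass.mapExactFunctor G = (hS.map_of_exact G).extClass :=
      Ext.mapExactFunctor_extClass G hS
    have hnat : (hS.extClass.mapExactFunctor F).comp (Ext.mk₀ (τ.app S.X₁)) (add_zero 1) =
        (Ext.mk₀ (τ.app S.X₃)).comp (hS.extClass.mapExactFunctor G) (zero_add 1) := by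
      rw [eF, eG]
      exact ShortComplex.ShortExact.extClass_naturality (hS.map_of_exact F)
        (hS.map_of_exact G) (S.mapNatTrans τ)
    rw [Ext.mapExactFunctor_comp, Ext.mapExactFunctor_comp,
      Ext.comp_assoc_of_third_deg_zero, hnat,
      ← Ext.comp_assoc_of_second_deg_zero, ih]
    exact Ext.comp_assoc _ _ _ _ _ (by lia)

end NatTrans

section Id

variable {C : Type u} [Category.{v} C] [Abelian C] [HasExt.{w} C] [EnoughInjectives C]

theorem mapExactFunctor_id {X Y : C} {n : ℕ} (x : Ext.{w} X Y n) :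
    x.mapExactFunctor (𝟭 C) = x := by
  refine ext_induction (P := fun {Y n} x => x.mapExactFunctor (𝟭 C) = x) ?_ ?_ x
  · intro Y f
    rw [Ext.mapExactFunctor_mk₀]
    rfl
  · intro S hS n x₃ ih
    have e1 : hS.extClass.mapExactFunctor (𝟭 C) = hS.extClass :=
      Ext.mapExactFunctor_extClass (𝟭 C) hS
    rw [Ext.mapExactFunctor_comp, e1, ih]

end Id

section Comp

variable {C : Type u} [Category.{v} C] [Abelian C] [HasExt.{w} C] [EnoughInjectives C]
variable {D : Type u'} [Category.{v'} D] [Abelian D] [HasExt.{w'} D]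
variable {E : Type u''} [Category.{v''} E] [Abelian E] [HasExt.{w''} E]
variable (F : C ⥤ D) [F.Additive] [PreservesFiniteLimits F] [PreservesFiniteColimits F]
variable (G : D ⥤ E) [G.Additive] [PreservesFiniteLimits G] [PreservesFiniteColimits G]
  [PreservesFiniteLimits (F ⋙ G)] [PreservesFiniteColimits (F ⋙ G)]

theorem mapExactFunctor_comp_functor {X Y : C} {n : ℕ} (x : Ext.{w} X Y n) :
    x.mapExactFunctor (F ⋙ G) = (x.mapExactFunctor F).mapExactFunctor G := by
  refine ext_induction
    (P := fun {Y n} x => x.mapExactFunctor (F ⋙ G) = (x.mapExactFunctor F).mapExactFunctor G)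
    ?_ ?_ x
  · intro Y f
    rw [Ext.mapExactFunctor_mk₀, Ext.mapExactFunctor_mk₀, Ext.mapExactFunctor_mk₀]
    rfl
  · intro S hS n x₃ ih
    have e1 : hS.extClass.mapExactFunctor (F ⋙ G) =
        (hS.extClass.mapExactFunctor F).mapExactFunctor G := by
      have a1 : hS.extClass.mapExactFunctor (F ⋙ G) = (hS.map_of_exact (F ⋙ G)).extClass :=
        Ext.mapExactFunctor_extClass (F ⋙ G) hS
      have a2 : hS.extClass.mapExactFunctor F = (hS.map_of_exact F).extClass :=
        Ext.mapExactFunctor_extClass F hS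
      have a3 : ((hS.map_of_exact F).extClass).mapExactFunctor G =
          ((hS.map_of_exact F).map_of_exact G).extClass :=
        Ext.mapExactFunctor_extClass G (hS.map_of_exact F)
      rw [a1, a2]
      exact a3.symm
    rw [Ext.mapExactFunctor_comp, Ext.mapExactFunctor_comp, Ext.mapExactFunctor_comp, e1, ih]

end Comp

end Groth.Agent.H65.ExtNat
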