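import Mathlib
import Groth.Agent.H31.SL_P4_RL

/-!
# (RS) for S14078: trivial residue field extension after base change along a residually trivial map
-/

set_option autoImplicit false
universe u
open CategoryTheory CategoryTheory.Limits AlgebraicGeometry TensorProduct

namespace Groth.Agent.H65.FC78RS

theorem residueField_map_bijective_of_tensor {A B R : Type u} [CommRing A] [CommRing B] [CommRing R]
    [Algebra A B] [Algebra A R]
    (p : Ideal A) [p.IsPrime] (P : Ideal R) [P.IsPrime] (hP : p = P.comap (algebraMap A R))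
    (hbij : Function.Bijective (Ideal.ResidueField.map p P (algebraMap A R) hP))
    (P' : Ideal (R ⊗[A] B)) [P'.IsPrime] (hP' : P = P'.comap (algebraMap R (R ⊗[A] B)))
    (q : Ideal B) [q.IsPrime]
    (hq : q = P'.comap (Algebra.TensorProduct.includeRight : B →ₐ[A] R ⊗[A] B).toRingHom) :
    Function.Bijective (Ideal.ResidueField.map q P'
      (Algebra.TensorProduct.includeRight : B →ₐ[A] R ⊗[A] B).toRingHom hq) := by
  refine ⟨RingHom.injective _, ?_⟩
  set incl : B →+* R ⊗[A] B :=
    (Algebra.TensorProduct.includeRight : B →ₐ[A] R ⊗[A] B).toRingHom with hincl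
  set ψ := Ideal.ResidueField.map q P' incl hq with hψ
  have hcomm : ∀ a : A, incl (algebraMap A B a) = algebraMap R (R ⊗[A] B) (algebraMap A R a) := by
    intro a
    have h1 : incl (algebraMap A B a) = algebraMap A (R ⊗[A] B) a :=
      (Algebra.TensorProduct.includeRight : B →ₐ[A] R ⊗[A] B).commutes a
    rw [h1, IsScalarTower.algebraMap_apply A R (R ⊗[A] B)]
  have hpq : p = q.comap (algebraMap A B) := by
    ext a
    rw [hP, hP', hq]
    simp only [Ideal.mem_comap]
    rw [hcomm]
  let χ := Ideal.ResidueField.map P P' (algebraMap R (R ⊗[A] B)) hP'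
  have hχψ : χ.comp (Ideal.ResidueField.map p P (algebraMap A R) hP) =
      ψ.comp (Ideal.ResidueField.map p q (algebraMap A B) hpq) := by
    apply Ideal.ResidueField.ringHom_ext
    ext a
    simp only [RingHom.comp_apply, Ideal.ResidueField.map_algebraMap, χ, ψ]
    rw [hcomm]
  have hB : ∀ b : B, algebraMap (R ⊗[A] B) P'.ResidueField (incl b) ∈ ψ.fieldRange := fun b =>
    ⟨algebraMap B q.ResidueField b, Ideal.ResidueField.map_algebraMap q P' incl hq b⟩
  have hR : ∀ r : R, algebraMap (R ⊗[A] B) P'.ResidueField (algebraMap R (R ⊗[A] B) r) ∈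
      ψ.fieldRange := by
    intro r
    obtain ⟨y, hy⟩ := hbij.2 (algebraMap R P.ResidueField r)
    have h1 : χ (algebraMap R P.ResidueField r) =
        algebraMap (R ⊗[A] B) P'.ResidueField (algebraMap R (R ⊗[A] B) r) :=
      Ideal.ResidueField.map_algebraMap P P' _ hP' r
    rw [← h1, ← hy]
    have h2 := RingHom.congr_fun hχψ y
    simp only [RingHom.comp_apply] at h2
    rw [h2]
    exact ⟨_, rfl⟩
  have hall : ∀ t : R ⊗[A] B, algebraMap (R ⊗[A] B) P'.ResidueField t ∈ ψ.fieldRange := by
    intro t
    induction t using TensorProduct.induction_on with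
    | zero => rw [map_zero]; exact zero_mem _
    | tmul r b =>
      rw [Groth.Agent.H31.SL_P4_RL.tmul_eq, map_mul]
      exact mul_mem (hR r) (hB b)
    | add x y hx hy => rw [map_add]; exact add_mem hx hy
  intro x
  obtain ⟨t, s, hs, hx⟩ := Groth.Agent.H31.SL_P4_RL.exists_frac P' x
  have hs0 : algebraMap (R ⊗[A] B) P'.ResidueField s ≠ 0 := by
    rw [Ne, Ideal.algebraMap_residueField_eq_zero]
    exact hs
  have hxe : x = algebraMap (R ⊗[A] B) P'.ResidueField t /
      algebraMap (R ⊗[A] B) P'.ResidueField s := eq_div_of_mul_eq hs0 hx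
  have : x ∈ ψ.fieldRange := by
    rw [hxe]
    exact div_mem (hall t) (hall s)
  exact this

end Groth.Agent.H65.FC78RS
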