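import Mathlib
import Groth.Agent.H65.ThickGlue

/-!
# Finiteness of étale lifts along thickenings
-/

set_option autoImplicit false
open CategoryTheory CategoryTheory.Limits AlgebraicGeometry Opposite
universe u

namespace Groth.Agent.H65.ThickLift

open TensorProduct Polynomial in
theorem isNilpotent_of_mem_smul_top {A B : Type*} [CommRing A] [CommRing B] [Algebra A B]
    (I : Ideal A) (hI : ∀ x ∈ I, IsNilpotent x) (c : B)
    (hc : c ∈ (I • (⊤ : Submodule A B))) : IsNilpotent c := by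
  refine Submodule.smul_induction_on hc ?_ ?_
  · intro a ha m _
    rw [Algebra.smul_def]
    exact (Commute.all _ _).isNilpotent_mul_right ((hI a ha).map (algebraMap A B))
  · intro x y hx hy
    exact (Commute.all x y).isNilpotent_add hx hy

open TensorProduct Polynomial in
theorem isIntegral_of_tensor {A B : Type*} [CommRing A] [CommRing B] [Algebra A B]
    (I : Ideal A) (hI : ∀ x ∈ I, IsNilpotent x)
    (h : Algebra.IsIntegral (A ⧸ I) ((A ⧸ I) ⊗[A] B)) : Algebra.IsIntegral A B := by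
  refine ⟨fun b => ?_⟩
  obtain ⟨f₀, hf₀m, hf₀⟩ := h.isIntegral ((1 : A ⧸ I) ⊗ₜ[A] b)
  have hl : f₀ ∈ Polynomial.lifts (Ideal.Quotient.mk I) := by
    rw [Polynomial.lifts_iff_coeff_lifts]
    intro n
    exact Ideal.Quotient.mk_surjective _
  obtain ⟨f, hf, -, hfm⟩ := Polynomial.lifts_and_natDegree_eq_and_monic hl hf₀m
  set c : B := Polynomial.aeval b f with hc
  have h1 : (1 : A ⧸ I) ⊗ₜ[A] c = 0 := by
    have e1 : (1 : A ⧸ I) ⊗ₜ[A] c =
        Polynomial.aeval ((1 : A ⧸ I) ⊗ₜ[A] b) f := by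
      have := Polynomial.aeval_algHom_apply
        (Algebra.TensorProduct.includeRight (R := A) (A := A ⧸ I) (B := B)) b f
      simpa [hc] using this.symm
    rw [e1]
    have e2 : Polynomial.aeval ((1 : A ⧸ I) ⊗ₜ[A] b) f =
        Polynomial.aeval ((1 : A ⧸ I) ⊗ₜ[A] b) (f.map (algebraMap A (A ⧸ I))) :=
      (Polynomial.aeval_map_algebraMap (A ⧸ I) _ f).symm
    rw [e2]
    have e3 : f.map (algebraMap A (A ⧸ I)) = f₀ := hf
    rw [e3]
    exact hf₀
  have h2 : c ∈ (I • (⊤ : Submodule A B)) := by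
    have := congrArg (TensorProduct.quotTensorEquivQuotSMul B I) h1
    rw [TensorProduct.quotTensorEquivQuotSMul_mk_one_tmul, map_zero] at this
    exact (Submodule.Quotient.mk_eq_zero _).mp this
  obtain ⟨N, hN⟩ := isNilpotent_of_mem_smul_top I hI c h2
  refine ⟨f ^ N, hfm.pow N, ?_⟩
  show Polynomial.eval₂ (algebraMap A B) b (f ^ N) = 0
  rw [Polynomial.eval₂_pow]
  exact hN


open TensorProduct in
theorem ring_lift_fin {A A₀ B₀ : CommRingCat.{u}} (φ : A ⟶ A₀) (hφ : Function.Surjective φ.hom)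
    (hnil : ∀ x ∈ RingHom.ker φ.hom, IsNilpotent x)
    (ψ₀ : A₀ ⟶ B₀) (hψ : ψ₀.hom.Etale) (hfin : ψ₀.hom.Finite) :
    ∃ (B : CommRingCat.{u}) (ψ : A ⟶ B) (α : B ⟶ B₀),
      ψ.hom.Etale ∧ ψ.hom.Finite ∧ IsPushout φ ψ ψ₀ α := by
  let I : Ideal A := RingHom.ker φ.hom
  let e : A ⧸ I ≃+* A₀ := RingHom.quotientKerEquivOfSurjective hφ
  letI alg : Algebra (A ⧸ I) B₀ := (ψ₀.hom.comp e.toRingHom).toAlgebra
  haveI : Algebra.Etale (A ⧸ I) B₀ := by
    have h1 : (ψ₀.hom.comp e.toRingHom).Etale :=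
      RingHom.Etale.stableUnderComposition _ _ (RingHom.Etale.of_bijective e.bijective) hψ
    exact h1
  haveI hint0 : Algebra.IsIntegral (A ⧸ I) B₀ := by
    have h1 : (ψ₀.hom.comp e.toRingHom).Finite :=
      hfin.comp (RingHom.Finite.of_surjective _ e.surjective)
    haveI h2 : Module.Finite (A ⧸ I) B₀ := h1
    exact Algebra.IsIntegral.of_finite _ _
  obtain ⟨B, _, _, hB, ⟨e'⟩⟩ := Groth.Agent.S9436.result A I B₀
  haveI hint1 : Algebra.IsIntegral (A ⧸ I) ((A ⧸ I) ⊗[A] B) :=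
    Algebra.IsIntegral.of_surjective e'.symm.toAlgHom e'.symm.surjective
  haveI hint2 : Algebra.IsIntegral A B := isIntegral_of_tensor I hnil hint1
  haveI : Algebra.FiniteType A B := inferInstance
  haveI hfinB : Module.Finite A B := Algebra.IsIntegral.finite
  refine ⟨CommRingCat.of B, CommRingCat.ofHom (algebraMap A B),
    CommRingCat.ofHom (e'.toAlgHom.toRingHom.comp
      (Algebra.TensorProduct.includeRight (R := A) (A := A ⧸ I) (B := B)).toRingHom), ?_, ?_, ?_⟩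
  · exact (RingHom.etale_algebraMap (R := A) (S := B)).mpr hB
  · exact (RingHom.finite_algebraMap (A := A) (B := B)).mpr hfinB
  · refine (CommRingCat.isPushout_tensorProduct A (A ⧸ I) B).of_iso (Iso.refl _)
      e.toCommRingCatIso (Iso.refl _) e'.toRingEquiv.toCommRingCatIso ?_ ?_ ?_ ?_
    · ext x
      simp [e, RingHom.quotientKerEquivOfSurjective]
      rfl
    · ext x
      simp
    · ext x
      have := e'.commutes x
      simp [RingHom.algebraMap_toAlgebra] at this ⊢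
      exact this
    · ext x
      simp


theorem ker_appTop_nilpotent {S S₀ : Scheme.{u}} [IsAffine S] (i : S₀ ⟶ S) [Surjective i]
    (x : Γ(S, ⊤)) (hx : x ∈ RingHom.ker i.appTop.hom) : IsNilpotent x := by
  rw [Scheme.isNilpotent_iff_basicOpen_eq_bot]
  have h1 : i ⁻¹ᵁ S.basicOpen x = ⊥ := by
    rw [Scheme.preimage_basicOpen_top]
    have : i.appTop x = 0 := hx
    rw [this]
    exact Scheme.basicOpen_zero _ _
  rw [eq_bot_iff]
  intro s hs
  obtain ⟨s₀, rfl⟩ := i.surjective s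
  have : s₀ ∈ i ⁻¹ᵁ S.basicOpen x := hs
  rw [h1] at this
  exact this

theorem exists_lift_affine_fin {S S₀ W : Scheme.{u}} [IsAffine S] [IsAffine W] (i : S₀ ⟶ S)
    [IsClosedImmersion i] [Surjective i] (q : W ⟶ S₀) [Etale q] [IsFinite q] :
    ∃ ℓ : Lift i W q, IsFinite ℓ.p := by
  haveI : IsAffine S₀ := isAffine_of_isAffineHom i
  have hφ : Function.Surjective i.appTop.hom := i.app_surjective ⊤ (isAffineOpen_top S)
  have hψ : q.appTop.hom.Etale := (HasRingHomProperty.iff_of_isAffine (P := @Etale)).mp inferInstance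
  have hfin : q.appTop.hom.Finite := q.finite_appTop
  obtain ⟨B, ψ, α, hψB, hψfin, hpo⟩ :=
    ring_lift_fin i.appTop hφ (ker_appTop_nilpotent i) q.appTop hψ hfin
  have hpb : IsPullback (Spec.map α) (Spec.map q.appTop) (Spec.map ψ) (Spec.map i.appTop) :=
    (isPullback_SpecMap_of_isPushout _ _ _ _ hpo).flip
  haveI : Etale (Spec.map ψ) := (HasRingHomProperty.Spec_iff (P := @Etale)).mpr hψB
  haveI : IsFinite (Spec.map ψ) := (IsFinite.SpecMap_iff ψ).mpr hψfin
  have hfinp : IsFinite (Spec.map ψ ≫ S.isoSpec.inv) := inferInstance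
  refine ⟨⟨Spec B, Spec.map ψ ≫ S.isoSpec.inv, W.isoSpec.hom ≫ Spec.map α, inferInstance, ?_⟩,
    hfinp⟩
  refine hpb.of_iso W.isoSpec.symm (Iso.refl _) S₀.isoSpec.symm S.isoSpec.symm ?_ ?_ ?_ ?_
  · simp
  · simp [Scheme.isoSpec_inv_naturality]
  · simp
  · simp [Scheme.isoSpec_inv_naturality]


/-- **Finiteness of lifts**: an étale `S`-scheme whose restriction to a thickening `S₀` is finite
is finite. -/
theorem isFinite_of_isPullback {S S₀ V V₀ : Scheme.{u}} (i : S₀ ⟶ S) [IsClosedImmersion i]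
    [Surjective i] (p : V ⟶ S) [Etale p] (p₀ : V₀ ⟶ S₀) [IsFinite p₀] (a : V₀ ⟶ V)
    (h : IsPullback a p₀ p i) : IsFinite p := by
  haveI : Etale p₀ := MorphismProperty.of_isPullback (P := @Etale) h inferInstance
  haveI : IsZariskiLocalAtTarget @IsFinite.{u} :=
    @HasAffineProperty.instIsZariskiLocalAtTarget _ _ IsFinite.instHasAffinePropertyAndIsAffineFiniteCarrierObjOppositeOpensCarrierCarrierCommRingCatPresheafOpOpensTopHomAppTop
  refine IsZariskiLocalAtTarget.of_iSup_eq_top (P := @IsFinite) (fun U : S.affineOpens => U.1)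
    (iSup_affineOpens_eq_top S) ?_
  intro U
  let O : V.Opens := p ⁻¹ᵁ U.1
  let W₀ : V₀.Opens := a ⁻¹ᵁ O
  let U₀ : S₀.Opens := i ⁻¹ᵁ U.1
  have hW₀ : p₀ ⁻¹ᵁ U₀ = W₀ := by
    show p₀ ⁻¹ᵁ (i ⁻¹ᵁ U.1) = a ⁻¹ᵁ (p ⁻¹ᵁ U.1)
    rw [← Scheme.Hom.comp_preimage, ← Scheme.Hom.comp_preimage, h.w]
  have hW₀aff : IsAffineOpen W₀ := by
    rw [← hW₀]
    exact (U.2.preimage i).preimage p₀
  haveI : IsAffine (U.1 : Scheme.{u}) := U.2
  haveI : IsAffine (W₀ : Scheme.{u}) := hW₀aff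
  -- the first lift: the open piece of `V`
  let ℓ₁ : Lift i W₀ (W₀.ι ≫ p₀) :=
    ⟨O, O.ι ≫ p, a ∣_ O, inferInstance, (isPullback_morphismRestrict a O).paste_vert h⟩
  -- the second lift: the finite one
  have hr : Set.range (W₀.ι ≫ p₀) ⊆ Set.range U₀.ι := by
    rintro _ ⟨w, rfl⟩
    rw [Scheme.Opens.range_ι]
    have hw : W₀.ι w ∈ W₀ := by
      have : W₀.ι w ∈ Set.range W₀.ι := ⟨w, rfl⟩
      rwa [Scheme.Opens.range_ι] at this
    have hw' : W₀.ι w ∈ p₀ ⁻¹ᵁ U₀ := hW₀.symm ▸ hw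
    exact hw'
  let q' : (W₀ : Scheme.{u}) ⟶ (U₀ : Scheme.{u}) := IsOpenImmersion.lift U₀.ι (W₀.ι ≫ p₀) hr
  have hq' : q' ≫ U₀.ι = W₀.ι ≫ p₀ := IsOpenImmersion.lift_fac _ _ _
  have hq'pb : IsPullback q' W₀.ι U₀.ι p₀ :=
    IsOpenImmersion.isPullback _ _ _ _ hq'.symm
      (by rw [Scheme.Opens.opensRange_ι, Scheme.Opens.opensRange_ι]; exact hW₀)
  haveI : IsFinite q' := MorphismProperty.of_isPullback (P := @IsFinite) hq'pb.flip inferInstance
  haveI : Etale q' := MorphismProperty.of_isPullback (P := @Etale) hq'pb.flip inferInstance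
  haveI : Surjective (i ∣_ U.1) :=
    MorphismProperty.of_isPullback (P := @Surjective) (isPullback_morphismRestrict i U.1).flip
      inferInstance
  obtain ⟨ℓ', hℓ'⟩ := exists_lift_affine_fin (i ∣_ U.1) q'
  have hpb2 : IsPullback ℓ'.a (W₀.ι ≫ p₀) (ℓ'.p ≫ U.1.ι) i := by
    have := ℓ'.pb.paste_vert (isPullback_morphismRestrict i U.1)
    rwa [hq'] at this
  let ℓ₂ : Lift i W₀ (W₀.ι ≫ p₀) :=
    ⟨ℓ'.L, ℓ'.p ≫ U.1.ι, ℓ'.a, by haveI := ℓ'.etale; infer_instance, hpb2⟩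
  obtain ⟨t, ht1, ht2⟩ := exists_trans ℓ₁ ℓ₂ (𝟙 _) (Category.id_comp _)
  obtain ⟨t', ht1', ht2'⟩ := exists_trans ℓ₂ ℓ₁ (𝟙 _) (Category.id_comp _)
  have e1 : t ≫ t' = 𝟙 _ := by
    refine trans_unique ℓ₁ ℓ₁ _ _ ?_ ?_
    · rw [Category.assoc, ht1', ht1, Category.id_comp]
    · rw [← Category.assoc, ht2, Category.id_comp, ht2', Category.id_comp, Category.comp_id]
  have e2 : t' ≫ t = 𝟙 _ := by
    refine trans_unique ℓ₂ ℓ₂ _ _ ?_ ?_
    · rw [Category.assoc, ht1, ht1', Category.id_comp]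
    · rw [← Category.assoc, ht2', Category.id_comp, ht2, Category.id_comp, Category.comp_id]
  haveI : IsIso t := ⟨t', e1, e2⟩
  have hfac : p ∣_ U.1 = t ≫ ℓ'.p := by
    rw [← cancel_mono U.1.ι, Category.assoc]
    exact (morphismRestrict_ι p U.1).trans ht1.symm
  show IsFinite (p ∣_ U.1)
  rw [hfac]
  infer_instance

end Groth.Agent.H65.ThickLift
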