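import Mathlib
import Groth.Prelude.Def_FSch4
import Groth.Prelude.Def_FSch2
import Groth.Prelude.Def_FEt
import Groth.Agent.H65.ThickFin

/-!
# Étale covers of a formal scheme (adic system of thickenings) versus finite étale covers of
its smallest level.
-/

set_option autoImplicit false
open CategoryTheory CategoryTheory.Limits AlgebraicGeometry Opposite
universe u

namespace Groth.Agent.H65.FSchEt

open Groth.Agent.H65.ThickLift Groth.Agent.H68

/-- A finite étale scheme over `X`. -/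
structure Lvl (X : Scheme.{u}) where
  R : Scheme.{u}
  f : R ⟶ X
  fin : IsFinite f
  et : Etale f

section Step

variable {X X' : Scheme.{u}} (i : X ⟶ X') [IsClosedImmersion i] [Surjective i]

theorem exists_step (s : Lvl X) :
    ∃ (V : Scheme.{u}) (p : V ⟶ X') (_ : Etale p) (_ : IsFinite p) (a : s.R ⟶ V),
      IsPullback a s.f p i := by
  haveI := s.et
  haveI := s.fin
  obtain ⟨V, p, hp, a, hpb⟩ := exists_lift i s.R s.f
  exact ⟨V, p, hp, isFinite_of_isPullback i p s.f a hpb, a, hpb⟩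

/-- The next level. -/
noncomputable def step (s : Lvl X) : Lvl X' where
  R := (exists_step i s).choose
  f := (exists_step i s).choose_spec.choose
  fin := (exists_step i s).choose_spec.choose_spec.choose_spec.choose
  et := (exists_step i s).choose_spec.choose_spec.choose

/-- The transition map to the next level. -/
noncomputable def stepι (s : Lvl X) : s.R ⟶ (step i s).R :=
  (exists_step i s).choose_spec.choose_spec.choose_spec.choose_spec.choose

theorem step_pb (s : Lvl X) : IsPullback (stepι i s) s.f (step i s).f i :=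
  (exists_step i s).choose_spec.choose_spec.choose_spec.choose_spec.choose_spec

end Step


section Sys

variable (𝔛 : FSch.Sys.{u}) (hF : 𝔛.IsFormal)

include hF in
theorem isClosedImmersion_ι (n : ℕ) : IsClosedImmersion (𝔛.ι n) := (hF n).1

include hF in
theorem surjective_ι (n : ℕ) : Surjective (𝔛.ι n) := ⟨(hF n).2⟩

/-- The levels of the lifted system. -/
noncomputable def seq (Y₀ : Lvl (𝔛.X 0)) : (n : ℕ) → Lvl (𝔛.X n) := fun n =>
  Nat.rec (motive := fun n => Lvl (𝔛.X n)) Y₀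
    (fun n s => @step _ _ (𝔛.ι n) (isClosedImmersion_ι 𝔛 hF n) (surjective_ι 𝔛 hF n) s) n

/-- The lifted system. -/
noncomputable def sys (Y₀ : Lvl (𝔛.X 0)) : FSch.Sys.{u} where
  X n := (seq 𝔛 hF Y₀ n).R
  ι n := @stepι _ _ (𝔛.ι n) (isClosedImmersion_ι 𝔛 hF n) (surjective_ι 𝔛 hF n) (seq 𝔛 hF Y₀ n)

theorem sys_pb (Y₀ : Lvl (𝔛.X 0)) (n : ℕ) :
    IsPullback ((sys 𝔛 hF Y₀).ι n) (seq 𝔛 hF Y₀ n).f (seq 𝔛 hF Y₀ (n + 1)).f (𝔛.ι n) :=
  @step_pb _ _ (𝔛.ι n) (isClosedImmersion_ι 𝔛 hF n) (surjective_ι 𝔛 hF n) (seq 𝔛 hF Y₀ n)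

/-- The structure morphism of the lifted system. -/
noncomputable def sysHom (Y₀ : Lvl (𝔛.X 0)) : sys 𝔛 hF Y₀ ⟶ 𝔛 :=
  (⟨fun n => (seq 𝔛 hF Y₀ n).f, fun n => (sys_pb 𝔛 hF Y₀ n).w.symm⟩ : FSch.Hom _ _)

theorem sysHom_isEtaleCover (Y₀ : Lvl (𝔛.X 0)) : FSch.IsEtaleCover (sysHom 𝔛 hF Y₀) :=
  ⟨fun n => sys_pb 𝔛 hF Y₀ n, fun n => ⟨(seq 𝔛 hF Y₀ n).fin, (seq 𝔛 hF Y₀ n).et⟩⟩

end Sys


section Equiv

variable (𝔛 : FSch.Sys.{u}) (hF : 𝔛.IsFormal)

include hF in
theorem essSurj : (FSch.EtCov.level 𝔛 0).EssSurj := by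
  refine ⟨fun Y₀ => ?_⟩
  let L₀ : Lvl (𝔛.X 0) := ⟨Y₀.left, Y₀.hom, Y₀.prop.1, Y₀.prop.2⟩
  let R : FSch.EtCov 𝔛 := ⟨Over.mk (sysHom 𝔛 hF L₀), sysHom_isEtaleCover 𝔛 hF L₀⟩
  refine ⟨R, ⟨MorphismProperty.Over.isoMk (Iso.refl _) ?_⟩⟩
  exact Category.id_comp _

include hF in
theorem surjective_ι_of_cover (R : FSch.EtCov 𝔛) (n : ℕ) : Surjective (R.obj.left.ι n) :=
  MorphismProperty.of_isPullback (P := @Surjective) (R.property.1 n).flip (surjective_ι 𝔛 hF n)

include hF in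
theorem isClosedImmersion_ι_of_cover (R : FSch.EtCov 𝔛) (n : ℕ) :
    IsClosedImmersion (R.obj.left.ι n) :=
  MorphismProperty.of_isPullback (P := @IsClosedImmersion) (R.property.1 n).flip
    (isClosedImmersion_ι 𝔛 hF n)

theorem hom_w {R R' : FSch.EtCov 𝔛} (φ : R ⟶ R') (n : ℕ) :
    (φ.hom.left : FSch.Hom _ _).app n ≫ (R'.obj.hom : FSch.Hom _ _).app n =
      (R.obj.hom : FSch.Hom _ _).app n :=
  congrArg (fun t : FSch.Hom _ _ => t.app n) (Over.w φ.hom)

include hF in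
theorem faithful : (FSch.EtCov.level 𝔛 0).Faithful := by
  refine ⟨fun {R R'} φ ψ h => ?_⟩
  have h0 : (φ.hom.left : FSch.Hom _ _).app 0 = (ψ.hom.left : FSch.Hom _ _).app 0 :=
    congrArg (fun t => t.left) h
  have hall : ∀ n, (φ.hom.left : FSch.Hom _ _).app n = (ψ.hom.left : FSch.Hom _ _).app n := by
    intro n
    induction n with
    | zero => exact h0
    | succ n ih =>
      haveI : Etale ((R'.obj.hom : FSch.Hom _ _).app (n + 1)) := (R'.property.2 (n + 1)).2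
      haveI : Surjective (R.obj.left.ι n) := surjective_ι_of_cover 𝔛 hF R n
      refine TopInv.inj ((R'.obj.hom : FSch.Hom _ _).app (n + 1)) (R.obj.left.ι n) _ _ ?_ ?_
      · exact (hom_w 𝔛 φ (n + 1)).trans (hom_w 𝔛 ψ (n + 1)).symm
      · rw [← (φ.hom.left : FSch.Hom _ _).comm n, ← (ψ.hom.left : FSch.Hom _ _).comm n, ih]
  apply ObjectProperty.hom_ext
  apply Over.OverMorphism.ext
  exact FSch.Hom.ext (funext hall)


include hF in
theorem full : (FSch.EtCov.level 𝔛 0).Full := by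
  refine ⟨fun {R R'} g => ?_⟩
  let f := fun n => (R.obj.hom : FSch.Hom _ _).app n
  let f' := fun n => (R'.obj.hom : FSch.Hom _ _).app n
  have hg : g.left ≫ f' 0 = f 0 := MorphismProperty.Over.w g
  let T := fun n => {φ : R.obj.left.X n ⟶ R'.obj.left.X n // φ ≫ f' n = f n}
  have stepex : ∀ n (φ : T n), ∃ φ' : R.obj.left.X (n + 1) ⟶ R'.obj.left.X (n + 1),
      φ' ≫ f' (n + 1) = f (n + 1) ∧ R.obj.left.ι n ≫ φ' = φ.1 ≫ R'.obj.left.ι n := by
    intro n φ
    haveI : Etale (f' (n + 1)) := (R'.property.2 (n + 1)).2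
    haveI := isClosedImmersion_ι_of_cover 𝔛 hF R n
    haveI := surjective_ι_of_cover 𝔛 hF R n
    refine TopInv.surj (f' (n + 1)) (f (n + 1)) (R.obj.left.ι n) (φ.1 ≫ R'.obj.left.ι n) ?_
    have e1 : f' n ≫ 𝔛.ι n = R'.obj.left.ι n ≫ f' (n + 1) := (R'.obj.hom : FSch.Hom _ _).comm n
    have e2 : f n ≫ 𝔛.ι n = R.obj.left.ι n ≫ f (n + 1) := (R.obj.hom : FSch.Hom _ _).comm n
    rw [Category.assoc, ← e1, ← Category.assoc, φ.2, e2]
  let sq : (n : ℕ) → T n := fun n =>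
    Nat.rec (motive := T) ⟨g.left, hg⟩
      (fun n φ => ⟨(stepex n φ).choose, (stepex n φ).choose_spec.1⟩) n
  have sq_comm : ∀ n, (sq n).1 ≫ R'.obj.left.ι n = R.obj.left.ι n ≫ (sq (n + 1)).1 :=
    fun n => ((stepex n (sq n)).choose_spec.2).symm
  let Φ : FSch.Hom R.obj.left R'.obj.left := ⟨fun n => (sq n).1, sq_comm⟩
  have hΦ : (Φ : R.obj.left ⟶ R'.obj.left) ≫ R'.obj.hom = R.obj.hom :=
    FSch.Hom.ext (funext fun n => (sq n).2)
  refine ⟨ObjectProperty.homMk (Over.homMk Φ hΦ), ?_⟩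
  apply MorphismProperty.Over.Hom.ext
  rfl

end Equiv

end Groth.Agent.H65.FSchEt
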