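import Groth.Agent.H65.LocQLift
import Groth.Agent.H65.OverYoneda
import Groth.Agent.H52.FieldPts
import Groth.Agent.S12818

/-!
# Morphisms from spectra of fields to an algebraic stack (helper65)
-/

set_option autoImplicit false
open CategoryTheory CategoryTheory.Limits AlgebraicGeometry Opposite
universe u

namespace Groth.Agent.H65.FieldChart

open FibCat Stk Groth.Agent.H32.FibProd Groth.Agent.H32.Fp2 Groth.Agent.H32.Fp3
  Groth.Agent.H32.Fp4 Groth.Agent.H32.SpBridge Groth.Agent.H32.PFacts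
  Groth.Agent.H32.AlgStackEquiv Groth.Agent.H32.AtlasRep Groth.Agent.H32.SpComp
  Groth.Agent.H32.StackOps Groth.Agent.H32.SectSt Groth.Agent.H32.Repr Groth.Agent.H32.SpTrack
  Groth.Agent.H32.PshFp Groth.Agent.H32.Sect Groth.Agent.H32.DiagDescent Groth.Agent.H32.Cover
  Groth.Agent.H32.DiagRep Groth.Agent.H32.GoodMore Groth.Agent.H32.DiagApps
  Groth.Agent.H65.QC Groth.Agent.H65.SpMaps Groth.Agent.H65.LocQ Groth.Agent.H65.DiagLfp
  Groth.Agent.H65.LocQDesc Groth.Agent.H65.LocQPts Groth.Agent.H65.LocQRep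
  Groth.Agent.H65.LocQCover Groth.Agent.H65.LocQIso Groth.Agent.H65.LocQBase
  Groth.Agent.H65.LocQLift Groth.Agent.H65.SmoothST Groth.Agent.H65.OverYoneda
  Groth.Agent.H32.StPoints Groth.Agent.H32.StTop

variable {S : Scheme.{u}} {𝒵 : AlgSt.Cat S}

theorem subsingleton_points_field {k : Type u} [Field k] (a : Spec (CommRingCat.of k) ⟶ S) :
    Subsingleton (AlgSt.Points (FibCat.overCat (Over.mk a))) := by
  have hsub : Subsingleton ↥(Over.mk a).left := inferInstanceAs (Subsingleton (PrimeSpectrum k))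
  exact (ptOf_bijective (Over.mk a)).2.subsingleton

/-- a flat morphism of schemes from a nonempty scheme to the spectrum of a field gives a flat,
surjective composition functor. -/
theorem overMap_to_field {k : Type u} [Field k] (a : Spec (CommRingCat.of k) ⟶ S) {W : Over S}
    (g : W ⟶ Over.mk a) (t : ↥W.left) :
    AlgSt.LocQ (AlgSp.LocP @Flat) (AlgSt.overMap g) ∧ AlgSt.IsSurjective (AlgSt.overMap g) ∧
      AlgSt.RepByAlgSpWith (AlgSp.LocP @Flat) (AlgSt.overMap g) := by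
  have hne : Nonempty ↥W.left := ⟨t⟩
  obtain ⟨hfl, -⟩ := Groth.Agent.H52.flat_surjective_to_field (k := k) (X := W.left) g.left
  have h1 : AlgSt.RepByAlgSpWith (AlgSp.LocP @Flat) (AlgSt.overMap g) :=
    with_overMap_of_prop _ good_flat.bc g (Groth.Agent.H52.locP_flat_yon_map g)
  refine ⟨(Groth.Agent.S12993.result S _ isSmoothLocalST_flat good_flat.bc good_flat.loc _ _
    (Groth.Agent.H65.LocQ.isAlgStack_overCat W) (Groth.Agent.H65.LocQ.isAlgStack_overCat (Over.mk a)) (AlgSt.overMap g)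
    (rep1_overMap g)).mpr h1, ?_, h1⟩
  intro y
  have := subsingleton_points_field a
  exact ⟨ptOf W t, Subsingleton.elim _ _⟩

/-- if an algebraic stack admits a surjective flat morphism from the spectrum of a field, every
morphism from the spectrum of a field to it is surjective and flat. -/
theorem surj_flat_of_fieldPt (h𝒵 : AlgSt.IsAlgStack Scheme.fppfPrecoverage 𝒵)
    {k : Type u} [Field k] (a : Spec (CommRingCat.of k) ⟶ S)
    (z : FibCat.overCat (Over.mk a) ⥤ᵇ 𝒵)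
    (hzs : AlgSt.RepByAlgSpWith AlgSp.IsSurjectiveMor z)
    (hzf : AlgSt.RepByAlgSpWith (AlgSp.LocP @Flat) z)
    {k' : Type u} [Field k'] (a' : Spec (CommRingCat.of k') ⟶ S)
    (z' : FibCat.overCat (Over.mk a') ⥤ᵇ 𝒵) :
    AlgSt.RepByAlgSpWith AlgSp.IsSurjectiveMor z' ∧
      AlgSt.RepByAlgSpWith (AlgSp.LocP @Flat) z' := by
  have iZ := h𝒵.isStack.1
  have hA := Groth.Agent.H65.LocQ.isAlgStack_overCat (Over.mk a)
  have hB := Groth.Agent.H65.LocQ.isAlgStack_overCat (Over.mk a')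
  have iA := Groth.Agent.S6411.over_isFibGrpd (Over.mk a)
  have h𝒲 : AlgSt.IsAlgStack Scheme.fppfPrecoverage (fp z' z) :=
    Groth.Agent.H32.AlgStackFp.isAlgStack_fp iZ h𝒵.diag hB hA z' z
  have subA := subsingleton_points_field a
  have hzS : AlgSt.IsSurjective z :=
    (Groth.Agent.S12819.result hA h𝒵 z (rep1_chart h𝒵 z)).mpr hzs
  let uB : ↥(Over.mk a').left := (IsLocalRing.closedPoint k' : PrimeSpectrum k')
  obtain ⟨q, hq⟩ := hzS (AlgSt.Points.map z' (ptOf (Over.mk a') uB))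
  obtain ⟨w, hw1, hw2⟩ := Groth.Agent.S12818.result hA h𝒵 hB z z' (ptOf (Over.mk a') uB) q hq.symm
  obtain ⟨W, c, hc1, hc2⟩ := h𝒲.atlas
  obtain ⟨t, ht⟩ := ofChart_surjective h𝒲 c hc2 w
  have hW := Groth.Agent.H65.LocQ.isAlgStack_overCat W
  have iW := Groth.Agent.S6411.over_isFibGrpd W
  obtain ⟨g, ⟨β₁⟩⟩ := exists_overMap_iso (BasedFunctor.comp c (fpFst z' z))
  obtain ⟨g₂, ⟨β₂⟩⟩ := exists_overMap_iso (BasedFunctor.comp c (fpSnd z' z))
  obtain ⟨f5, f6, -⟩ := overMap_to_field a' g t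
  obtain ⟨-, -, f1⟩ := overMap_to_field a g₂ t
  have γ : BasedFunctor.comp (AlgSt.overMap g) z' ≅ BasedFunctor.comp (AlgSt.overMap g₂) z :=
    (whiskerRightIso β₁.symm z') ≪≫ (whiskerLeftIso c (fpIso z' z)) ≪≫ (whiskerRightIso β₂ z)
  have f2 : AlgSt.RepByAlgSpWith (AlgSp.LocP @Flat) (BasedFunctor.comp (AlgSt.overMap g₂) z) :=
    with_comp good_flat iW iA iZ _ _ f1 hzf
  have f3 : AlgSt.RepByAlgSpWith (AlgSp.LocP @Flat) (BasedFunctor.comp (AlgSt.overMap g) z') :=
    with_of_iso _ iW iZ γ f2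
  have f4 : AlgSt.LocQ (AlgSp.LocP @Flat) (BasedFunctor.comp (AlgSt.overMap g) z') :=
    (Groth.Agent.S12993.result S _ isSmoothLocalST_flat good_flat.bc good_flat.loc _ _ hW h𝒵 _
      (rep1_chart h𝒵 _)).mpr f3
  have f7 : AlgSt.LocQ (AlgSp.LocP @Flat) z' :=
    locQ_flat_of_comp hW hB h𝒵 (AlgSt.overMap g) z' f5 f6 f4
  have f8 : AlgSt.RepByAlgSpWith (AlgSp.LocP @Flat) z' :=
    (Groth.Agent.S12993.result S _ isSmoothLocalST_flat good_flat.bc good_flat.loc _ _ hB h𝒵 z'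
      (rep1_chart h𝒵 z')).mp f7
  have s1 : AlgSt.IsSurjective z' := by
    intro y
    obtain ⟨q', hq'⟩ := hzS y
    refine ⟨AlgSt.Points.map (fpFst z' z) w, ?_⟩
    rw [← map_comp, map_congr (fpIso z' z), map_comp,
      Subsingleton.elim (AlgSt.Points.map (fpSnd z' z) w) q', hq']
  exact ⟨(Groth.Agent.S12819.result hB h𝒵 z' (rep1_chart h𝒵 z')).mp s1, f8⟩

end Groth.Agent.H65.FieldChart
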