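import Groth.Agent.H65.FieldChart
import Groth.Agent.S9929
import Groth.Agent.S12774
import Groth.Agent.S12794
import Groth.Agent.H32.DiagDict
import Groth.Agent.H50.Fppf
import Groth.Agent.H32.Split
import Groth.Agent.H32.Yoneda2

/-!
# Monomorphisms into a stack covered by the spectrum of a field (helper65)
-/

set_option autoImplicit false
open CategoryTheory CategoryTheory.Limits AlgebraicGeometry Opposite
universe u

namespace Groth.Agent.H65.FieldMono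

open FibCat Stk Groth.Agent.H32.FibProd Groth.Agent.H32.Fp2 Groth.Agent.H32.Fp3
  Groth.Agent.H32.Fp4 Groth.Agent.H32.SpBridge Groth.Agent.H32.PFacts
  Groth.Agent.H32.AlgStackEquiv Groth.Agent.H32.AtlasRep Groth.Agent.H32.SpComp
  Groth.Agent.H32.StackOps Groth.Agent.H32.SectSt Groth.Agent.H32.Repr Groth.Agent.H32.SpTrack
  Groth.Agent.H32.PshFp Groth.Agent.H32.Sect Groth.Agent.H32.DiagDescent Groth.Agent.H32.Cover
  Groth.Agent.H32.DiagRep Groth.Agent.H32.GoodMore Groth.Agent.H32.DiagApps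
  Groth.Agent.H65.QC Groth.Agent.H65.SpMaps Groth.Agent.H65.LocQ Groth.Agent.H65.DiagLfp
  Groth.Agent.H65.LocQDesc Groth.Agent.H65.LocQPts Groth.Agent.H65.LocQRep
  Groth.Agent.H65.LocQCover Groth.Agent.H65.LocQIso Groth.Agent.H65.LocQBase
  Groth.Agent.H65.LocQLift Groth.Agent.H65.SmoothST Groth.Agent.H65.OverYoneda
  Groth.Agent.H32.StPoints Groth.Agent.H32.StTop Groth.Agent.H65.FieldChart

variable {S : Scheme.{u}}

/-- being an equivalence over the base is invariant under 2-isomorphism. -/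
theorem isEquivOver_of_iso {𝒜 ℬ : AlgSt.Cat S} {F G : 𝒜 ⥤ᵇ ℬ} (α : F ≅ G) (hF : IsEquivOver F) :
    IsEquivOver G := by
  obtain ⟨F', ⟨β₁⟩, ⟨β₂⟩⟩ := hF
  exact ⟨F', ⟨(whiskerRightIso α.symm F') ≪≫ β₁⟩, ⟨(whiskerLeftIso F' α.symm) ≪≫ β₂⟩⟩

/-- a functor from the category of a sheaf to a slice category whose map of sheaves is an
isomorphism is an equivalence. -/
theorem isEquivOver_of_isIso_spMapOfOver {F : AlgSp.Sp S} {U : Over S}
    (Φ : AlgSt.ofSp F ⥤ᵇ FibCat.overCat U) (h : IsIso (AlgSt.spMapOfOver Φ).hom) :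
    IsEquivOver Φ := by
  obtain ⟨α⟩ := ofPshMap_pshMapOf (BasedFunctor.comp Φ (AlgSt.ofOverCat U))
  rw [← spMapOfOver_hom] at α
  have h1 : IsEquivOver (BasedFunctor.comp Φ (AlgSt.ofOverCat U)) :=
    isEquivOver_of_iso α (Groth.Agent.H32.DiagDict.ofPshMap_isEquivOver _)
  exact isEquivOver_comp _ _ h1 (toOverCat_isEquivOver U)

theorem lift_id_comp {C D : Type*} [Category C] [Category D] (p : D ⥤ C) {a b c : D}
    (φ : a ⟶ b) (ψ : b ⟶ c) {R T : C} (f : R ⟶ T) (h1 : p.IsHomLift (𝟙 R) φ)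
    (h2 : p.IsHomLift f ψ) : p.IsHomLift f (φ ≫ ψ) := by
  have h : p.IsHomLift (𝟙 R ≫ f) (φ ≫ ψ) := inferInstance
  simpa using h

theorem lift_comp_id {C D : Type*} [Category C] [Category D] (p : D ⥤ C) {a b c : D}
    (φ : a ⟶ b) (ψ : b ⟶ c) {R T : C} (f : R ⟶ T) (h1 : p.IsHomLift f φ)
    (h2 : p.IsHomLift (𝟙 T) ψ) : p.IsHomLift f (φ ≫ ψ) := by
  have h : p.IsHomLift (f ≫ 𝟙 T) (φ ≫ ψ) := inferInstance
  simpa using h

theorem isHomLift_id_congr {C D : Type*} [Category C] [Category D] (p : D ⥤ C) {a b : D}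
    (φ : a ⟶ b) {R R' : C} (h : R = R') (hφ : p.IsHomLift (𝟙 R) φ) : p.IsHomLift (𝟙 R') φ := by
  subst h
  exact hφ

/-- a monomorphism of algebraic stacks into a stack covered (fppf) by the spectrum of a field
has empty source or is an equivalence. -/
theorem isEmpty_or_isEquivOver {𝒵' 𝒵 : AlgSt.Cat S}
    (h𝒵' : AlgSt.IsAlgStack Scheme.fppfPrecoverage 𝒵')
    (h𝒵 : AlgSt.IsAlgStack Scheme.fppfPrecoverage 𝒵) (f : 𝒵' ⥤ᵇ 𝒵) (hf : AlgSt.IsMono f)
    {k : Type u} [Field k] (a : Spec (CommRingCat.of k) ⟶ S)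
    (z : FibCat.overCat (Over.mk a) ⥤ᵇ 𝒵)
    (hzp : AlgSt.RepByAlgSpWith (AlgSp.LocP @LocallyOfFinitePresentation) z)
    (hzs : AlgSt.RepByAlgSpWith AlgSp.IsSurjectiveMor z)
    (hzf : AlgSt.RepByAlgSpWith (AlgSp.LocP @Flat) z) :
    IsEmpty (AlgSt.Points 𝒵') ∨ FibCat.IsEquivOver f := by
  have iZ := h𝒵.isStack.1
  have iZ' := h𝒵'.isStack.1
  have hA := Groth.Agent.H65.LocQ.isAlgStack_overCat (Over.mk a)
  have hzS : AlgSt.IsSurjective z :=
    (Groth.Agent.S12819.result hA h𝒵 z (rep1_chart h𝒵 z)).mpr hzs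
  obtain ⟨F, e, he, hm⟩ := hf (Over.mk a) z
  let m : F ⟶ (AlgSp.ofScheme S).obj (Over.mk a) :=
    ObjectProperty.homMk (AlgSt.spMapOfOver (BasedFunctor.comp e (fpFst z f)))
  have hmono : Mono m.hom := hm
  rcases Groth.Agent.S9929.result a F m with hE | hI
  · left
    refine ⟨fun p => ?_⟩
    obtain ⟨q, hq⟩ := hzS (AlgSt.Points.map f p)
    obtain ⟨w, -, -⟩ := Groth.Agent.S12818.result h𝒵' h𝒵 hA f z q p hq
    obtain ⟨w', -⟩ := (map_bijective e he).2 w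
    exact hE.false ((ptsEquiv F.obj).symm w')
  · right
    have hI' : IsIso (AlgSt.spMapOfOver (BasedFunctor.comp e (fpFst z f))).hom := by
      have h2 : IsIso ((ObjectProperty.ι (AlgSp.IsAlgSpace (S := S))).map m) := inferInstance
      have h3 : IsIso m.hom := h2
      have h4 : IsIso ((sheafToPresheaf _ _).map m.hom) := inferInstance
      exact h4
    have hΦ : IsEquivOver (BasedFunctor.comp e (fpFst z f)) :=
      isEquivOver_of_isIso_spMapOfOver _ hI'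
    obtain ⟨e', he', -, ⟨β⟩⟩ := exists_inv_isEquivOver he
    have h1 : IsEquivOver (BasedFunctor.comp e' (BasedFunctor.comp e (fpFst z f))) :=
      isEquivOver_comp e' _ he' hΦ
    have hΨ : IsEquivOver (fpFst z f) :=
      isEquivOver_of_iso (F := BasedFunctor.comp (BasedFunctor.comp e' e) (fpFst z f))
        (whiskerRightIso β (fpFst z f)) h1
    obtain ⟨Ψ', hΨ', -, ⟨γ⟩⟩ := exists_inv_isEquivOver hΨ
    obtain ⟨s, hs⟩ : ∃ s : FibCat.overCat (Over.mk a) ⥤ᵇ 𝒵', s = BasedFunctor.comp Ψ' (fpSnd z f) :=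
      ⟨_, rfl⟩
    have σ : BasedFunctor.comp s f ≅ z := by
      rw [hs]
      exact (whiskerLeftIso Ψ' (fpIso z f).symm) ≪≫ (whiskerRightIso γ z)
    obtain ⟨hfull, hfaith⟩ := Groth.Agent.S12774.result iZ' iZ f hf
    rw [Groth.Agent.S12794.result (QuotSh.J Scheme.fppfPrecoverage S) h𝒵'.isStack h𝒵.isStack f]
    intro y
    have : 𝒵.p.IsFibered := Groth.Agent.H32.Split.isFibered_of_isFibGrpd 𝒵 iZ
    obtain ⟨t, -, τ, -, hτl⟩ := Groth.Agent.H32.Yoneda2.exists_based_functor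
      (Groth.Agent.H32.Split.hT (𝒵.p.obj y)) y rfl
    have lf : AlgSt.LocQ (AlgSp.LocP @Flat) z :=
      (Groth.Agent.S12993.result S _ isSmoothLocalST_flat good_flat.bc good_flat.loc _ _ hA h𝒵 z
        (rep1_chart h𝒵 z)).mpr hzf
    have lp : AlgSt.LocQ (AlgSp.LocP @LocallyOfFinitePresentation) z :=
      (Groth.Agent.S12993.result S _ isSmoothLocalST_lfp good_lfp.bc good_lfp.loc _ _ hA h𝒵 z
        (rep1_chart h𝒵 z)).mpr hzp
    obtain ⟨W, g, x', hgf, hgp, ⟨ε⟩, hlift⟩ := exists_flat_lfp_chart_lift hA h𝒵 z lf lp t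
    refine ⟨Sieve.generate (Presieve.singleton g), ?_, ?_⟩
    · refine Groth.Agent.H50.mem_J_of_fppf_family (fun _ : PUnit.{1} => W) (fun _ => g) (fun τ' => ?_)
        (fun _ => hgf) (fun _ => hgp) _
        (fun _ => ⟨W, 𝟙 W, g, Presieve.singleton.mk, Category.id_comp g⟩)
      obtain ⟨w, hw⟩ := hlift τ' (hzS _)
      exact ⟨PUnit.unit, w, hw⟩
    · intro V v hv
      obtain ⟨Y, h, k', hk', rfl⟩ := hv
      cases hk'
      let μ : (AlgSt.overMap g).obj (Over.mk h) ⟶ Groth.Agent.H32.Split.T (𝒵.p.obj y) :=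
        Over.homMk (h ≫ g) (by simp [AlgSt.overMap])
      have hμ : (FibCat.overCat (𝒵.p.obj y)).p.IsHomLift (h ≫ g) μ := by
        show (FibCat.overCat (𝒵.p.obj y)).p.IsHomLift ((FibCat.overCat (𝒵.p.obj y)).p.map μ) μ
        infer_instance
      have l1 : 𝒵.p.IsHomLift (𝟙 V) (appIso σ (x'.obj (Over.mk h))).hom :=
        isHomLift_id_congr _ _ (x'.w_obj (Over.mk h)) (appIso_isHomLift σ (x'.obj (Over.mk h)))
      have l2 : 𝒵.p.IsHomLift (𝟙 V) (appIso ε (Over.mk h)).hom := appIso_isHomLift ε (Over.mk h)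
      have l3 : 𝒵.p.IsHomLift (h ≫ g) (t.map μ) := inferInstance
      refine ⟨s.obj (x'.obj (Over.mk h)),
        (appIso σ (x'.obj (Over.mk h))).hom ≫ (appIso ε (Over.mk h)).hom ≫ t.map μ ≫ τ, ?_⟩
      exact lift_id_comp _ _ _ _ l1 (lift_id_comp _ _ _ _ l2 (lift_comp_id _ _ _ _ l3 hτl))

end Groth.Agent.H65.FieldMono
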