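import Groth.Agent.H65.FieldRed
import Groth.Agent.H63.SmoothRegular2
import Groth.Agent.S0565

/-!
# Reduced, locally Noetherian one-point algebraic stacks are regular (helper65)
-/

set_option autoImplicit false
open CategoryTheory CategoryTheory.Limits AlgebraicGeometry Opposite
universe u

namespace Groth.Agent.H65.FieldReg

open Groth.Agent.H65.FieldRed Groth.Agent.H32.PFacts Groth.Agent.H32.GoodMore
  Groth.Agent.H65.LocQRep

variable {S : Scheme.{u}} {𝒵 : AlgSt.Cat S}

/-- regularity of stalks descends along a flat surjective morphism to a locally Noetherian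
scheme. -/
theorem regular_of_flat_surjective {X Y : Scheme.{u}} (f : X ⟶ Y) [Flat f] [Surjective f]
    [IsLocallyNoetherian Y] (hX : ∀ x : X, IsRegularLocalRing (X.presheaf.stalk x)) (y : Y) :
    IsRegularLocalRing (Y.presheaf.stalk y) := by
  obtain ⟨x, rfl⟩ := f.surjective y
  algebraize [(f.stalkMap x).hom]
  have h1 : Module.Flat (Y.presheaf.stalk (f x)) (X.presheaf.stalk x) := Flat.stalkMap f x
  have h2 : IsLocalHom (algebraMap (Y.presheaf.stalk (f x)) (X.presheaf.stalk x)) :=
    f.toLRSHom.prop x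
  have h3 := hX x
  exact Groth.Agent.S0565.result (Y.presheaf.stalk (f x)) (X.presheaf.stalk x)

/-- a reduced, locally Noetherian algebraic stack with exactly one point is regular. -/
theorem regular_of_onePoint (h𝒵 : AlgSt.IsAlgStack Scheme.fppfPrecoverage 𝒵)
    (hred : AlgSt.SmoothLocally (fun T => IsReduced T) 𝒵)
    (hnoeth : AlgSt.SmoothLocally (fun T => IsLocallyNoetherian T) 𝒵)
    (hne : Nonempty (AlgSt.Points 𝒵)) (hsub : Subsingleton (AlgSt.Points 𝒵)) :
    AlgSt.SmoothLocally (fun T => ∀ t : T, IsRegularLocalRing (T.presheaf.stalk t)) 𝒵 := by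
  obtain ⟨k, hk, a, z, hzs, hzf⟩ := exists_flat_fieldPt h𝒵 hred hne hsub
  intro U x hx
  obtain ⟨V, g₁, g₂, h1, h2, h3⟩ := exists_fp_chart h𝒵 x z
  have f1 : Flat g₁.left := AlgSp.locP_yon_map (h1 _ good_flat flat_of_smooth hzf)
  have f2 : Surjective g₁.left := h3 hzs
  have f3 : Smooth g₂.left := AlgSp.locP_yon_map (h2 _ good_smooth (fun _ _ _ h => h) hx)
  have hn : IsLocallyNoetherian U.left := hnoeth U x hx
  have hV : ∀ v : V.left, IsRegularLocalRing (V.left.presheaf.stalk v) := fun v =>
    Groth.Agent.H63.SmoothRegular.isRegularLocalRing_stalk_of_smooth (K := k) g₂.left v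
  exact fun t => regular_of_flat_surjective g₁.left hV t

end Groth.Agent.H65.FieldReg
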