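import Mathlib

/-!
# Flat closed relations over a DVR (for S13044)

`exists_lift_of_generic`: if `W` is flat over a domain `R` with fraction field `K`, `γ : Γ ⟶ P` is a
closed immersion and `m : W ⟶ P` is a morphism whose restriction to the generic fibre of `W`
factors through `γ`, then `m` factors through `γ`.
-/

set_option autoImplicit false
universe u
open CategoryTheory CategoryTheory.Limits AlgebraicGeometry

namespace Groth.Agent.H65.FlatEqv

theorem isSchemeTheoreticallyDominant_SpecMap_fractionRing (R K : Type u) [CommRing R] [IsDomain R]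
    [Field K] [Algebra R K] [IsFractionRing R K] :
    IsSchemeTheoreticallyDominant (Spec.map (CommRingCat.ofHom (algebraMap R K))) := by
  have hinj : Function.Injective (Spec.map (CommRingCat.ofHom (algebraMap R K))).appTop := by
    have h0 : Function.Injective (algebraMap R K) := IsFractionRing.injective R K
    have h1 := Scheme.ΓSpecIso_inv_naturality (CommRingCat.ofHom (algebraMap R K))
    have h2 : (Spec.map (CommRingCat.ofHom (algebraMap R K))).appTop =
        (Scheme.ΓSpecIso _).hom ≫ CommRingCat.ofHom (algebraMap R K) ≫ (Scheme.ΓSpecIso _).inv := by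
      rw [h1, Iso.hom_inv_id_assoc]
    rw [h2]
    intro a b hab
    simp only [CommRingCat.comp_apply] at hab
    have e1 := (ConcreteCategory.bijective_of_isIso (Scheme.ΓSpecIso (CommRingCat.of K)).inv).1 hab
    have e2 := h0 e1
    exact (ConcreteCategory.bijective_of_isIso (Scheme.ΓSpecIso (CommRingCat.of R)).hom).1 e2
  refine ⟨Scheme.IdealSheafData.ext_of_isAffine ?_⟩
  have h3 : RingHom.ker (Spec.map (CommRingCat.ofHom (algebraMap R K))).appTop.hom = ⊥ :=
    (RingHom.injective_iff_ker_eq_bot _).mp hinj
  simp only [Scheme.Hom.ker_apply _ ⟨⊤, isAffineOpen_top _⟩]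
  convert h3 using 1
  all_goals first | rfl | simp

/-- (KL) a closed subscheme of a flat scheme over a domain containing the generic fibre is
everything. -/
theorem isIso_of_generic (R K : Type u) [CommRing R] [IsDomain R] [Field K] [Algebra R K]
    [IsFractionRing R K] {W Z : Scheme.{u}} (w : W ⟶ Spec (CommRingCat.of R)) [Flat w]
    (i : Z ⟶ W) [IsClosedImmersion i]
    (l : pullback w (Spec.map (CommRingCat.ofHom (algebraMap R K))) ⟶ Z)
    (hl : l ≫ i = pullback.fst w (Spec.map (CommRingCat.ofHom (algebraMap R K)))) : IsIso i := by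
  rw [IsClosedImmersion.isIso_iff_ker_eq_bot]
  haveI := isSchemeTheoreticallyDominant_SpecMap_fractionRing R K
  haveI : IsSchemeTheoreticallyDominant
      (pullback.fst w (Spec.map (CommRingCat.ofHom (algebraMap R K)))) := inferInstance
  have h1 := (pullback.fst w (Spec.map (CommRingCat.ofHom (algebraMap R K)))).ker_eq_bot
  rw [← hl] at h1
  have h2 : i.ker ≤ (l ≫ i).ker := Scheme.Hom.le_ker_comp l i
  rw [h1] at h2
  exact le_bot_iff.mp h2

/-- (GEN) -/
theorem exists_lift_of_generic (R K : Type u) [CommRing R] [IsDomain R] [Field K] [Algebra R K]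
    [IsFractionRing R K] {W Γ P : Scheme.{u}} (w : W ⟶ Spec (CommRingCat.of R)) [Flat w]
    (γ : Γ ⟶ P) [IsClosedImmersion γ] (m : W ⟶ P)
    (c : pullback w (Spec.map (CommRingCat.ofHom (algebraMap R K))) ⟶ Γ)
    (hc : c ≫ γ = pullback.fst w (Spec.map (CommRingCat.ofHom (algebraMap R K))) ≫ m) :
    ∃ τ : W ⟶ Γ, τ ≫ γ = m := by
  let l : pullback w (Spec.map (CommRingCat.ofHom (algebraMap R K))) ⟶ pullback γ m :=
    pullback.lift c (pullback.fst w _) hc
  have hl : l ≫ pullback.snd γ m = pullback.fst w _ := pullback.lift_snd _ _ _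
  haveI : IsIso (pullback.snd γ m) := isIso_of_generic R K w (pullback.snd γ m) l hl
  refine ⟨inv (pullback.snd γ m) ≫ pullback.fst γ m, ?_⟩
  rw [Category.assoc, pullback.condition, IsIso.inv_hom_id_assoc]

end Groth.Agent.H65.FlatEqv
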