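import Mathlib

/-!
# A diagonal formal inverse function theorem for multivariate power series

`exists_algEquiv_subst`: for finitely many variables with positive weights `w`, a substitution
`X i ↦ X i * u i + q i` with `u i` of unit constant coefficient and `q i` of weighted order
`> w i` is an `R`-algebra automorphism of `MvPowerSeries σ R`.
Also `exists_cube_root`: cube roots of `1 + x` when `3 = 1` in `R`.
-/

namespace Groth.Agent.H65

open MvPowerSeries Finsupp

section

variable {σ : Type*} {R : Type*} [CommRing R]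

/-- weighted order at least `N`. -/
def WOrd (w : σ → ℕ) (f : MvPowerSeries σ R) (N : ℕ) : Prop :=
  ∀ e : σ →₀ ℕ, weight w e < N → coeff e f = 0

variable {w : σ → ℕ} {f g : MvPowerSeries σ R} {N M : ℕ}

theorem WOrd.mono (h : WOrd w f N) (hM : M ≤ N) : WOrd w f M :=
  fun e he => h e (lt_of_lt_of_le he hM)

theorem WOrd.zero_order (w : σ → ℕ) (f : MvPowerSeries σ R) : WOrd w f 0 :=
  fun _ he => absurd he (Nat.not_lt_zero _)

theorem WOrd.zero (w : σ → ℕ) (N : ℕ) : WOrd w (0 : MvPowerSeries σ R) N :=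
  fun e _ => map_zero (coeff e)

theorem WOrd.add (hf : WOrd w f N) (hg : WOrd w g N) : WOrd w (f + g) N :=
  fun e he => by rw [map_add, hf e he, hg e he, add_zero]

theorem WOrd.neg (hf : WOrd w f N) : WOrd w (-f) N :=
  fun e he => by rw [map_neg, hf e he, neg_zero]

theorem WOrd.sub (hf : WOrd w f N) (hg : WOrd w g N) : WOrd w (f - g) N :=
  fun e he => by rw [map_sub, hf e he, hg e he, sub_zero]

theorem WOrd.smul (r : R) (hf : WOrd w f N) : WOrd w (r • f) N :=
  fun e he => by rw [map_smul, hf e he, smul_zero]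

theorem WOrd.mul (hf : WOrd w f N) (hg : WOrd w g M) : WOrd w (f * g) (N + M) := by
  classical
  intro e he
  rw [coeff_mul]
  apply Finset.sum_eq_zero
  rintro ⟨p, q⟩ hpq
  rw [Finset.HasAntidiagonal.mem_antidiagonal] at hpq
  have hw : weight w p + weight w q = weight w e := by
    rw [← map_add]; exact congrArg _ hpq
  by_cases hp : weight w p < N
  · simp only [hf p hp, zero_mul]
  · have hq : weight w q < M := by omega
    simp only [hg q hq, mul_zero]

theorem WOrd.sum {ι : Type*} (s : Finset ι) (F : ι → MvPowerSeries σ R)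
    (h : ∀ i ∈ s, WOrd w (F i) N) : WOrd w (∑ i ∈ s, F i) N := by
  intro e he
  rw [map_sum]
  exact Finset.sum_eq_zero fun i hi => h i hi e he

theorem WOrd.var (w : σ → ℕ) (i : σ) : WOrd w (X i : MvPowerSeries σ R) (w i) := by
  classical
  intro e he
  rw [coeff_X, if_neg]
  rintro rfl
  rw [weight_single, one_smul] at he
  exact lt_irrefl _ he

theorem WOrd.of_constantCoeff_eq_zero (hw : ∀ i, 0 < w i) (hf : constantCoeff f = 0) :
    WOrd w f 1 := by
  intro e he
  have h0 : e = 0 := by
    by_contra hne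
    obtain ⟨i, hi⟩ : ∃ i, e i ≠ 0 := by
      by_contra! hc
      exact hne (Finsupp.ext hc)
    have h1 := le_weight_of_ne_zero' w hi
    have h2 := hw i
    omega
  rw [h0, coeff_zero_eq_constantCoeff_apply, hf]

theorem WOrd.constantCoeff_eq_zero (hf : WOrd w f N) (hN : 0 < N) : constantCoeff f = 0 := by
  rw [← coeff_zero_eq_constantCoeff_apply]
  exact hf 0 (by rw [map_zero]; exact hN)

/-- `F` agrees with `A` up to weighted order `> n`, and `A` has weighted order `≥ n`. -/
def WNear (w : σ → ℕ) (F A : MvPowerSeries σ R) (n : ℕ) : Prop :=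
  WOrd w A n ∧ WOrd w (F - A) (n + 1)

variable {F A F₁ A₁ F₂ A₂ : MvPowerSeries σ R} {n n₁ n₂ : ℕ}

theorem WNear.ord (h : WNear w F A n) : WOrd w F n := by
  have h1 := h.1.add (h.2.mono (Nat.le_succ n))
  rwa [add_sub_cancel] at h1

theorem WNear.mul (h₁ : WNear w F₁ A₁ n₁) (h₂ : WNear w F₂ A₂ n₂) :
    WNear w (F₁ * F₂) (A₁ * A₂) (n₁ + n₂) := by
  refine ⟨h₁.1.mul h₂.1, ?_⟩
  have e : F₁ * F₂ - A₁ * A₂ = (F₁ - A₁) * F₂ + A₁ * (F₂ - A₂) := by ring
  rw [e]
  apply WOrd.add
  · exact (h₁.2.mul h₂.ord).mono (by omega)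
  · exact (h₁.1.mul h₂.2).mono (by omega)

theorem WNear.one (w : σ → ℕ) : WNear w (1 : MvPowerSeries σ R) 1 0 :=
  ⟨WOrd.zero_order _ _, by rw [sub_self]; exact WOrd.zero _ _⟩

theorem WNear.pow (h : WNear w F A n) (k : ℕ) : WNear w (F ^ k) (A ^ k) (k * n) := by
  induction k with
  | zero => simpa using WNear.one (R := R) w
  | succ k ih =>
    rw [pow_succ, pow_succ, Nat.succ_mul]
    exact ih.mul h

theorem WNear.prod {ι : Type*} (s : Finset ι) (F A : ι → MvPowerSeries σ R) (n : ι → ℕ)
    (h : ∀ i ∈ s, WNear w (F i) (A i) (n i)) :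
    WNear w (∏ i ∈ s, F i) (∏ i ∈ s, A i) (∑ i ∈ s, n i) := by
  classical
  induction s using Finset.induction_on with
  | empty => simpa using WNear.one (R := R) w
  | insert a s ha ih =>
    rw [Finset.prod_insert ha, Finset.prod_insert ha, Finset.sum_insert ha]
    exact (h a (Finset.mem_insert_self a s)).mul
      (ih fun i hi => h i (Finset.mem_insert_of_mem hi))

theorem wnear_finsupp_prod (g : σ → MvPowerSeries σ R) (c : σ → R)
    (hg : ∀ i, WNear w (g i) (c i • X i) (w i)) (d : σ →₀ ℕ) :
    WNear w (d.prod fun s e => g s ^ e) (monomial d (d.prod fun s n => c s ^ n))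
      (weight w d) := by
  rw [monomial_eq, weight_apply]
  simp only [Finsupp.prod, Finsupp.sum, smul_eq_mul]
  exact WNear.prod d.support _ _ _ fun i _ => (hg i).pow (d i)

theorem word_subst_sub_rescale (g : σ → MvPowerSeries σ R) (c : σ → R)
    (hg : ∀ i, WNear w (g i) (c i • X i) (w i)) (hs : HasSubst g)
    (hf : WOrd w f N) : WOrd w (subst g f - rescale c f) (N + 1) := by
  classical
  intro e he
  rw [map_sub, coeff_subst hs, coeff_rescale, sub_eq_zero, finsum_eq_single _ e]
  · have hn := wnear_finsupp_prod g c hg e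
    have h2 : coeff e (e.prod fun s k => g s ^ k) = e.prod fun s n => c s ^ n := by
      have h3 := hn.2 e (Nat.lt_succ_self _)
      rw [map_sub, coeff_monomial_same, sub_eq_zero] at h3
      exact h3
    rw [h2, smul_eq_mul, mul_comm]
  · intro d hd
    by_cases hdN : weight w d < N
    · rw [hf d hdN, zero_smul]
    · have hn := wnear_finsupp_prod g c hg d
      have h2 : coeff e (d.prod fun s k => g s ^ k) = 0 := by
        have h3 := hn.2 e (by omega)
        rw [map_sub, coeff_monomial_ne (Ne.symm hd), sub_zero] at h3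
        exact h3
      rw [h2, smul_zero]

/-- Neumann series: a linear endomorphism which is the identity up to strictly raising the
weighted order is bijective. -/
theorem bijective_of_word (w : σ → ℕ) (T : MvPowerSeries σ R →ₗ[R] MvPowerSeries σ R)
    (hT : ∀ f N, WOrd w f N → WOrd w (T f - f) (N + 1)) : Function.Bijective T := by
  obtain ⟨L, hL⟩ : ∃ L : Module.End R (MvPowerSeries σ R), L = 1 - T := ⟨_, rfl⟩
  have hLapp : ∀ f, L f = f - T f := fun f => by rw [hL]; rfl
  have hLord : ∀ f N, WOrd w f N → WOrd w (L f) (N + 1) := by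
    intro f N h
    have h1 := (hT f N h).neg
    rwa [neg_sub, ← hLapp] at h1
  have hTL : ∀ f, T f = f - L f := fun f => by rw [hLapp, sub_sub_cancel]
  have hLpow : ∀ (n : ℕ) (t : MvPowerSeries σ R), L ((L ^ n) t) = (L ^ (n + 1)) t :=
    fun n t => by rw [pow_succ', Module.End.mul_apply]
  constructor
  · rw [← LinearMap.ker_eq_bot, LinearMap.ker_eq_bot']
    intro f hf
    have hfL : L f = f := by rw [hLapp, hf, sub_zero]
    have hall : ∀ N, WOrd w f N := by
      intro N
      induction N with
      | zero => exact WOrd.zero_order w f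
      | succ N ih =>
        have h1 := hLord f N ih
        rwa [hfL] at h1
    ext e
    rw [hall (weight w e + 1) e (Nat.lt_succ_self _), map_zero]
  · intro t
    have hpow : ∀ n, WOrd w ((L ^ n) t) n := by
      intro n
      induction n with
      | zero => exact WOrd.zero_order w _
      | succ n ih =>
        rw [← hLpow]
        exact hLord _ _ ih
    obtain ⟨s, hs⟩ : ∃ s : ℕ → MvPowerSeries σ R,
        s = fun m => ∑ n ∈ Finset.range (m + 1), (L ^ n) t := ⟨_, rfl⟩
    have hTs : ∀ m, T (s m) = t - (L ^ (m + 1)) t := by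
      intro m
      rw [hTL, hs]
      simp only [map_sum, hLpow]
      rw [← Finset.sum_sub_distrib, Finset.sum_range_sub' (fun n => (L ^ n) t)]
      simp
    obtain ⟨f, hfdef⟩ : ∃ f : MvPowerSeries σ R,
        ∀ e, coeff e f = coeff e (s (weight w e)) :=
      ⟨fun e => coeff e (s (weight w e)), fun e => rfl⟩
    have hfs : ∀ m, WOrd w (f - s m) (m + 1) := by
      intro m e he
      rw [map_sub, sub_eq_zero, hfdef]
      have hle : weight w e + 1 ≤ m + 1 := by omega
      have h1 : s m = s (weight w e) +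
          ∑ n ∈ Finset.Ico (weight w e + 1) (m + 1), (L ^ n) t := by
        rw [Finset.sum_Ico_eq_sub _ hle, hs]
        simp
      rw [h1, map_add, map_sum, Finset.sum_eq_zero, add_zero]
      intro n hn
      rw [Finset.mem_Ico] at hn
      exact hpow n e (by omega)
    refine ⟨f, ?_⟩
    ext e
    obtain ⟨m, hm⟩ : ∃ m, m = weight w e := ⟨_, rfl⟩
    have h1 : T f = T (s m) + T (f - s m) := by
      rw [← map_add, add_sub_cancel]
    have h2 : coeff e ((L ^ (m + 1)) t) = 0 := hpow (m + 1) e (by omega)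
    have h3 : coeff e (T (f - s m)) = 0 := by
      rw [hTL, map_sub, hfs m e (by omega), hLord _ _ (hfs m) e (by omega), sub_zero]
    rw [h1, map_add, hTs, map_sub, h2, h3, sub_zero, add_zero]

/-- **Diagonal formal inverse function theorem.** -/
theorem exists_algEquiv_subst [Finite σ] (w : σ → ℕ) (hw : ∀ i, 0 < w i)
    (u q : σ → MvPowerSeries σ R) (hu : ∀ i, IsUnit (constantCoeff (u i)))
    (hq : ∀ i, WOrd w (q i) (w i + 1)) :
    ∃ φ : MvPowerSeries σ R ≃ₐ[R] MvPowerSeries σ R, ∀ i, φ (X i) = X i * u i + q i := by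
  classical
  obtain ⟨g, hgdef⟩ : ∃ g : σ → MvPowerSeries σ R, g = fun i => X i * u i + q i := ⟨_, rfl⟩
  obtain ⟨c, hc⟩ : ∃ c : σ → R, c = fun i => constantCoeff (u i) := ⟨_, rfl⟩
  have hg0 : ∀ i, constantCoeff (g i) = 0 := by
    intro i
    rw [hgdef]
    simp only [map_add, map_mul, constantCoeff_X, zero_mul, zero_add]
    exact (hq i).constantCoeff_eq_zero (Nat.succ_pos _)
  have hs : HasSubst g := hasSubst_of_constantCoeff_zero hg0
  have hnear : ∀ i, WNear w (g i) (c i • X i) (w i) := by
    intro i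
    refine ⟨(WOrd.var w i).smul (c i), ?_⟩
    have e : g i - c i • X i = X i * (u i - C (c i)) + q i := by
      rw [hgdef, smul_eq_C_mul]; ring
    rw [e]
    apply WOrd.add
    · have h1 : WOrd w (u i - C (c i)) 1 :=
        WOrd.of_constantCoeff_eq_zero hw (by rw [hc]; simp)
      exact (WOrd.var w i).mul h1
    · exact hq i
  have hu' : ∀ i, ∃ b, c i * b = 1 := fun i => by
    rw [hc]; exact (hu i).exists_right_inv
  choose cinv hcinv using hu'
  obtain ⟨T, hTdef⟩ : ∃ T : MvPowerSeries σ R →ₗ[R] MvPowerSeries σ R,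
      T = (rescaleAlgHom cinv).toLinearMap.comp (substAlgHom (R := R) hs).toLinearMap :=
    ⟨_, rfl⟩
  have hTapp : ∀ f, T f = rescale cinv (subst g f) := fun f => by
    rw [hTdef]
    show rescaleAlgHom cinv (substAlgHom hs f) = _
    rw [rescaleAlgHom_apply, substAlgHom_apply]
  have hresc : ∀ (f : MvPowerSeries σ R) N, WOrd w f N → WOrd w (rescale cinv f) N := by
    intro f N h e he
    rw [coeff_rescale, h e he, mul_zero]
  have hinv : ∀ f : MvPowerSeries σ R, rescale cinv (rescale c f) = f := by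
    intro f
    have h1 : c * cinv = 1 := funext hcinv
    rw [rescale_rescale, h1, rescale_one]; rfl
  have hinv' : ∀ f : MvPowerSeries σ R, rescale c (rescale cinv f) = f := by
    intro f
    have h1 : cinv * c = 1 := funext fun i => by
      rw [Pi.mul_apply, mul_comm, hcinv i]; rfl
    rw [rescale_rescale, h1, rescale_one]; rfl
  have hT : ∀ f N, WOrd w f N → WOrd w (T f - f) (N + 1) := by
    intro f N h
    have h1 := hresc _ _ (word_subst_sub_rescale g c hnear hs h)
    rwa [map_sub, hinv, ← hTapp] at h1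
  have hbij := bijective_of_word w T hT
  have hresc_bij : Function.Bijective (rescale c : MvPowerSeries σ R → MvPowerSeries σ R) :=
    ⟨Function.LeftInverse.injective hinv, Function.RightInverse.surjective hinv'⟩
  have hfun : (substAlgHom (R := R) hs : MvPowerSeries σ R → MvPowerSeries σ R) =
      (rescale c) ∘ T := by
    funext f
    rw [Function.comp_apply, hTapp, hinv', substAlgHom_apply]
  have hbij2 : Function.Bijective
      (substAlgHom (R := R) hs : MvPowerSeries σ R →ₐ[R] MvPowerSeries σ R) := by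
    rw [hfun]; exact hresc_bij.comp hbij
  refine ⟨AlgEquiv.ofBijective (substAlgHom (R := R) hs) hbij2, fun i => ?_⟩
  rw [AlgEquiv.ofBijective_apply, substAlgHom_X, hgdef]

end

/-- Cube roots of `1 + x` for `x` with zero constant coefficient, when `3 = 1` in `R`. -/
theorem exists_cube_root {τ : Type*} {R : Type*} [CommRing R] (h3 : (3 : R) = 1)
    (x : MvPowerSeries τ R) (hx : MvPowerSeries.constantCoeff x = 0) :
    ∃ y : MvPowerSeries τ R, (1 + y) ^ 3 = 1 + x := by
  obtain ⟨P, hP⟩ : ∃ P : PowerSeries R, P = PowerSeries.X + PowerSeries.X ^ 2 +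
      PowerSeries.X ^ 3 := ⟨_, rfl⟩
  have hP0 : PowerSeries.constantCoeff P = 0 := by rw [hP]; simp
  have hP1 : IsUnit (PowerSeries.coeff 1 P) := by
    rw [hP]
    simp [PowerSeries.coeff_X_pow]
  obtain ⟨Q, hQ⟩ : ∃ Q, Q = P.substInvOfIsUnit hP1 := ⟨_, rfl⟩
  have hQs : PowerSeries.HasSubst Q := by rw [hQ]; exact PowerSeries.HasSubst.substInvOfIsUnit P hP1
  have hPQ : Q + Q ^ 2 + Q ^ 3 = PowerSeries.X := by
    have h1 := PowerSeries.subst_substInvOfIsUnit_right P hP0 hP1
    rw [← hQ, hP, PowerSeries.subst_add hQs, PowerSeries.subst_add hQs, PowerSeries.subst_pow hQs,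
      PowerSeries.subst_pow hQs, PowerSeries.subst_X hQs] at h1
    exact h1
  have hxs : PowerSeries.HasSubst x := PowerSeries.HasSubst.of_constantCoeff_zero hx
  refine ⟨PowerSeries.subst x Q, ?_⟩
  have h2 := congrArg (PowerSeries.subst x) hPQ
  rw [PowerSeries.subst_add hxs, PowerSeries.subst_add hxs, PowerSeries.subst_pow hxs,
    PowerSeries.subst_pow hxs, PowerSeries.subst_X hxs] at h2
  have h3S : (3 : MvPowerSeries τ R) = 1 := by
    rw [← map_ofNat (MvPowerSeries.C (σ := τ) (R := R)) 3, h3, map_one]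
  linear_combination (PowerSeries.subst x Q + (PowerSeries.subst x Q) ^ 2) * h3S + h2

end Groth.Agent.H65
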