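import Mathlib
import Groth.Prelude.Def_SGA1

/-!
# (ACT) for helper79's S2920 squad: the action of `G` on the second factor of `X ×_Y X`.
-/

set_option autoImplicit false
universe u
open CategoryTheory CategoryTheory.Limits AlgebraicGeometry

namespace Groth.Agent.H65.FreeFlat_ACT

theorem exists_action_on_pullback {X Y : Scheme.{u}} {G : Type u} [Group G] (ρ : G →* Aut X)
    (p : X ⟶ Y) (hinv : ∀ g : G, (ρ g).hom ≫ p = p) :
    ∃ ρ' : G →* Aut (pullback p p),
      (∀ g : G, (ρ' g).hom ≫ pullback.snd p p = pullback.snd p p ≫ (ρ g).hom) ∧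
      (∀ g : G, (ρ' g).hom ≫ pullback.fst p p = pullback.fst p p) := by
  -- the underlying morphisms
  let φ : G → (pullback p p ⟶ pullback p p) := fun g =>
    pullback.lift (pullback.fst p p) (pullback.snd p p ≫ (ρ g).hom)
      (by rw [Category.assoc, hinv g, pullback.condition])
  have hφfst : ∀ g, φ g ≫ pullback.fst p p = pullback.fst p p := fun g =>
    pullback.lift_fst _ _ _
  have hφsnd : ∀ g, φ g ≫ pullback.snd p p = pullback.snd p p ≫ (ρ g).hom := fun g =>
    pullback.lift_snd _ _ _
  have hmul : ∀ a b : G, (ρ (a * b)).hom = (ρ b).hom ≫ (ρ a).hom := fun a b => by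
    rw [map_mul]; rfl
  have hone : (ρ 1).hom = 𝟙 X := by
    rw [map_one]; rfl
  have hφone : φ 1 = 𝟙 _ := by
    apply pullback.hom_ext
    · rw [hφfst, Category.id_comp]
    · rw [hφsnd, hone, Category.comp_id, Category.id_comp]
  have hφmul : ∀ a b : G, φ (a * b) = φ b ≫ φ a := fun a b => by
    apply pullback.hom_ext
    · rw [hφfst, Category.assoc, hφfst, hφfst]
    · rw [hφsnd, Category.assoc, hφsnd, ← Category.assoc, hφsnd, Category.assoc, hmul]
  let ψ : G → Aut (pullback p p) := fun g =>
    { hom := φ g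
      inv := φ g⁻¹
      hom_inv_id := by rw [← hφmul, inv_mul_cancel, hφone]
      inv_hom_id := by rw [← hφmul, mul_inv_cancel, hφone] }
  refine ⟨{ toFun := ψ, map_one' := ?_, map_mul' := ?_ }, fun g => hφsnd g, fun g => hφfst g⟩
  · apply Iso.ext
    exact hφone
  · intro a b
    apply Iso.ext
    exact hφmul a b

end Groth.Agent.H65.FreeFlat_ACT
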