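import Groth.Agent.H65.GalCycDefs

/-! # (A) for S13083: `k̄`-points of `X` over `k` ↔ closed points of `X_{k̄}` -/

set_option autoImplicit false
universe u
open CategoryTheory CategoryTheory.Limits AlgebraicGeometry

namespace Groth.Agent.H65.GalCyc

variable {k : Type u} [Field k] {X : Scheme.{u}} (f : X ⟶ Spec (CommRingCat.of k))

theorem pt_props [LocallyOfFiniteType f] :
    (∀ q : Q f, IsClosed ({pt f q} : Set ↥(pullback f (jK k)))) ∧
    Function.Injective (pt f) ∧
    (∀ y : ↥(pullback f (jK k)), IsClosed ({y} : Set ↥(pullback f (jK k))) →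
      ∃ q : Q f, pt f q = y) := by
  haveI : LocallyOfFiniteType (pullback.snd f (jK k)) := inferInstance
  let E := pointEquivClosedPoint (K := AlgebraicClosure k) (pullback.snd f (jK k))
  have hE : ∀ q : Q f, (E ⟨sec f q, sec_snd f q⟩ : ↥(pullback f (jK k))) = pt f q := fun q => rfl
  refine ⟨?_, ?_, ?_⟩
  · intro q
    rw [← hE q]
    exact (E ⟨sec f q, sec_snd f q⟩).2
  · intro q q' h
    have h1 : E ⟨sec f q, sec_snd f q⟩ = E ⟨sec f q', sec_snd f q'⟩ := Subtype.ext h
    have h2 := E.injective h1
    have h3 : sec f q = sec f q' := congrArg Subtype.val h2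
    apply Subtype.ext
    rw [← sec_fst f q, ← sec_fst f q', h3]
  · intro y hy
    obtain ⟨p, hp⟩ := E.surjective ⟨y, hy⟩
    have hq : (p.1 ≫ pullback.fst f (jK k)) ≫ f = jK k := by
      rw [Category.assoc, pullback.condition, ← Category.assoc, p.2, Category.id_comp]
    let q0 : Q f := ⟨p.1 ≫ pullback.fst f (jK k), hq⟩
    refine ⟨q0, ?_⟩
    have hsec : sec f q0 = p.1 := by
      apply pullback.hom_ext
      · exact sec_fst f q0
      · exact (sec_snd f q0).trans p.2.symm
    have : pt f q0 = (E p : ↥(pullback f (jK k))) := by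
      unfold pt
      rw [hsec]
      rfl
    rw [this, hp]

end Groth.Agent.H65.GalCyc
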