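import Mathlib

/-!
# Abstract bookkeeping for S13083: 0-cycles downstairs vs invariant 0-cycles upstairs
-/

set_option autoImplicit false
open Function

namespace Groth.Agent.H65.GalCycAsm

variable {X Y G : Type*} [TopologicalSpace X] [TopologicalSpace Y]

/-- the fibrewise sum -/
theorem finsum_comp_eq (π : Y → X) (deg : X → ℕ)
    (hfib : ∀ x, IsClosed ({x} : Set X) → (π ⁻¹' {x}).Finite ∧ (π ⁻¹' {x}).ncard = deg x)
    (c : X → ℕ) (hc : (support c).Finite) (hcl : ∀ x, c x ≠ 0 → IsClosed ({x} : Set X)) :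
    (support (c ∘ π)).Finite ∧ ∑ᶠ y, c (π y) = ∑ᶠ x, c x * deg x := by
  classical
  have hsupp : support (c ∘ π) = ⋃ x ∈ support c, π ⁻¹' {x} := by
    ext y
    simp only [mem_support, comp_apply, Set.mem_iUnion, Set.mem_preimage, Set.mem_singleton_iff,
      exists_prop]
    constructor
    · intro h; exact ⟨π y, h, rfl⟩
    · rintro ⟨x, hx, rfl⟩; exact hx
  have hfin : (support (c ∘ π)).Finite := by
    rw [hsupp]
    exact hc.biUnion fun x hx => (hfib x (hcl x hx)).1
  refine ⟨hfin, ?_⟩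
  have h1 : ∑ᶠ y, c (π y) = ∑ y ∈ hfin.toFinset, c (π y) :=
    finsum_eq_sum_of_support_subset _ (by intro y hy; simpa using hy)
  have h2 : ∑ᶠ x, c x * deg x = ∑ x ∈ hc.toFinset, c x * deg x := by
    refine finsum_eq_sum_of_support_subset _ ?_
    intro x hx
    simp only [mem_support, ne_eq] at hx
    simp only [Set.Finite.coe_toFinset, mem_support, ne_eq]
    intro h0
    exact hx (by rw [h0, zero_mul])
  rw [h1, h2]
  have hmaps : ∀ y ∈ hfin.toFinset, π y ∈ hc.toFinset := by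
    intro y hy
    simpa using hy
  rw [← Finset.sum_fiberwise_of_maps_to hmaps]
  refine Finset.sum_congr rfl fun x hx => ?_
  have hxc : c x ≠ 0 := by simpa using hx
  obtain ⟨hxf, hxn⟩ := hfib x (hcl x hxc)
  have hfilter : hfin.toFinset.filter (fun y => π y = x) = hxf.toFinset := by
    ext y
    simp only [Finset.mem_filter, Set.Finite.mem_toFinset, mem_support, comp_apply,
      Set.mem_preimage, Set.mem_singleton_iff]
    constructor
    · exact fun h => h.2
    · intro h; exact ⟨by rw [h]; exact hxc, h⟩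
  rw [hfilter]
  rw [Finset.sum_congr rfl (fun y hy => by
    have : π y = x := by simpa using hy
    rw [this] : ∀ y ∈ hxf.toFinset, c (π y) = c x)]
  rw [Finset.sum_const, smul_eq_mul, mul_comm]
  congr 1
  rw [← hxn, Set.ncard_eq_toFinset_card _ hxf]

theorem bijOn_abstract (π : Y → X) (τ : G → Y → Y) (deg : X → ℕ)
    (hsurj : Surjective π)
    (hF : ∀ y, IsClosed ({y} : Set Y) ↔ IsClosed ({π y} : Set X))
    (hfib : ∀ x, IsClosed ({x} : Set X) → (π ⁻¹' {x}).Finite ∧ (π ⁻¹' {x}).ncard = deg x)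
    (htr : ∀ y y', π y = π y' → IsClosed ({π y} : Set X) → ∃ σ, τ σ y = y')
    (hτ : ∀ σ y, π (τ σ y) = π y) (n : ℕ) :
    Set.BijOn (fun c : X → ℕ => c ∘ π)
      {c : X → ℕ | (support c).Finite ∧ (∀ x, c x ≠ 0 → IsClosed ({x} : Set X)) ∧
        ∑ᶠ x, c x * deg x = n}
      {d : Y → ℕ | (support d).Finite ∧ (∀ y, d y ≠ 0 → IsClosed ({y} : Set Y)) ∧
        ∑ᶠ y, d y = n ∧ ∀ σ y, d (τ σ y) = d y} := by
  classical
  refine ⟨?_, ?_, ?_⟩
  · rintro c ⟨hc, hcl, hsum⟩
    obtain ⟨h1, h2⟩ := finsum_comp_eq π deg hfib c hc hcl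
    refine ⟨h1, ?_, ?_, ?_⟩
    · intro y hy
      exact (hF y).mpr (hcl _ hy)
    · show ∑ᶠ y, c (π y) = n
      rw [h2, hsum]
    · intro σ y
      show c (π (τ σ y)) = c (π y)
      rw [hτ]
  · intro c₁ _ c₂ _ h
    funext x
    obtain ⟨y, rfl⟩ := hsurj x
    exact congrFun h y
  · rintro d ⟨hd, hdcl, hsum, hinv⟩
    let s : X → Y := surjInv hsurj
    have hs : ∀ x, π (s x) = x := surjInv_eq hsurj
    have hcd : (d ∘ s) ∘ π = d := by
      funext y
      show d (s (π y)) = d y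
      by_cases hcl : IsClosed ({π y} : Set X)
      · obtain ⟨σ, hσ⟩ := htr (s (π y)) y (hs _) (by rw [hs]; exact hcl)
        calc d (s (π y)) = d (τ σ (s (π y))) := (hinv σ _).symm
          _ = d y := by rw [hσ]
      · have h1 : d y = 0 := by
          by_contra h
          exact hcl ((hF y).mp (hdcl y h))
        have h2 : d (s (π y)) = 0 := by
          by_contra h
          have := (hF _).mp (hdcl _ h)
          rw [hs] at this
          exact hcl this
        rw [h1, h2]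
    have hcfin : (support (d ∘ s)).Finite := by
      refine (hd.image π).subset ?_
      intro x hx
      exact ⟨s x, hx, hs x⟩
    have hccl : ∀ x, (d ∘ s) x ≠ 0 → IsClosed ({x} : Set X) := by
      intro x hx
      have := (hF _).mp (hdcl _ hx)
      rwa [hs] at this
    refine ⟨d ∘ s, ⟨hcfin, hccl, ?_⟩, hcd⟩
    obtain ⟨-, h2⟩ := finsum_comp_eq π deg hfib (d ∘ s) hcfin hccl
    rw [← h2, ← hsum]
    exact finsum_congr fun y => congrFun hcd y

end Groth.Agent.H65.GalCycAsm

namespace Groth.Agent.H65.GalCycAsm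

variable {X Y G Qt : Type*} [TopologicalSpace X] [TopologicalSpace Y]

theorem fib_of_pts (π : Y → X) (τ : G → Y → Y) (deg : X → ℕ)
    (pt : Qt → Y) (x0 : Qt → X) (act : G → Qt → Qt)
    (hA2 : Injective pt) (hA3 : ∀ y, IsClosed ({y} : Set Y) → ∃ q, pt q = y)
    (hB : ∀ q, π (pt q) = x0 q)
    (hC : ∀ σ q, τ σ (pt q) = pt (act σ q))
    (hD : ∀ q q', x0 q = x0 q' → ∃ σ, act σ q = q')
    (hE : ∀ x, IsClosed ({x} : Set X) →
      Finite {q : Qt // x0 q = x} ∧ Nat.card {q : Qt // x0 q = x} = deg x)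
    (hF : ∀ y, IsClosed ({y} : Set Y) ↔ IsClosed ({π y} : Set X)) :
    (∀ x, IsClosed ({x} : Set X) → (π ⁻¹' {x}).Finite ∧ (π ⁻¹' {x}).ncard = deg x) ∧
    (∀ y y', π y = π y' → IsClosed ({π y} : Set X) → ∃ σ, τ σ y = y') := by
  classical
  constructor
  · intro x hx
    have hset : π ⁻¹' {x} = pt '' {q | x0 q = x} := by
      ext y
      simp only [Set.mem_preimage, Set.mem_singleton_iff, Set.mem_image, Set.mem_ofPred_eq]
      constructor
      · intro hy
        have hyc : IsClosed ({y} : Set Y) := (hF y).mpr (by rw [hy]; exact hx)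
        obtain ⟨q, rfl⟩ := hA3 y hyc
        exact ⟨q, by rw [← hB, hy], rfl⟩
      · rintro ⟨q, hq, rfl⟩
        rw [hB, hq]
    obtain ⟨hfin, hcard⟩ := hE x hx
    have hSfin : ({q | x0 q = x} : Set Qt).Finite := by
      haveI : Finite ↥({q | x0 q = x} : Set Qt) := hfin
      exact Set.toFinite _
    rw [hset]
    refine ⟨hSfin.image pt, ?_⟩
    rw [Set.ncard_image_of_injective _ hA2, ← hcard]
    exact (Nat.card_coe_set_eq _).symm
  · intro y y' hyy' hcl
    have hyc : IsClosed ({y} : Set Y) := (hF y).mpr hcl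
    have hyc' : IsClosed ({y'} : Set Y) := (hF y').mpr (by rw [← hyy']; exact hcl)
    obtain ⟨q, rfl⟩ := hA3 y hyc
    obtain ⟨q', rfl⟩ := hA3 y' hyc'
    obtain ⟨σ, hσ⟩ := hD q q' (by rw [← hB, ← hB, hyy'])
    exact ⟨σ, by rw [hC, hσ]⟩

end Groth.Agent.H65.GalCycAsm
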