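import Groth.Agent.H65.GalCycDefs

/-! # (C) for S13083: the Galois automorphisms `τ σ` move `pt q` to `pt (σ · q)` -/

set_option autoImplicit false
universe u
open CategoryTheory CategoryTheory.Limits AlgebraicGeometry

namespace Groth.Agent.H65.GalCyc

variable {k : Type u} [Field k] {X : Scheme.{u}} (f : X ⟶ Spec (CommRingCat.of k))

theorem specσ_symm_comp (σ : AlgebraicClosure k ≃ₐ[k] AlgebraicClosure k) :
    specσ σ.symm ≫ specσ σ = 𝟙 _ := by
  rw [← Spec.map_comp, ← CommRingCat.ofHom_comp]
  have : ((σ.symm : AlgebraicClosure k →+* AlgebraicClosure k).comp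
      (σ : AlgebraicClosure k →+* AlgebraicClosure k)) = RingHom.id _ := by
    ext a
    exact σ.symm_apply_apply a
  rw [this]
  exact Spec.map_id _

theorem tau_pt
    (τ : (AlgebraicClosure k ≃ₐ[k] AlgebraicClosure k) → (pullback f (jK k) ⟶ pullback f (jK k)))
    (hτ1 : ∀ σ, τ σ ≫ pullback.fst f (jK k) = pullback.fst f (jK k))
    (hτ2 : ∀ σ, τ σ ≫ pullback.snd f (jK k) = pullback.snd f (jK k) ≫ specσ σ)
    (σ : AlgebraicClosure k ≃ₐ[k] AlgebraicClosure k) (q : Q f) :
    (τ σ).base (pt f q) = pt f (act f σ q) := by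
  have hsec : sec f (act f σ q) = specσ σ.symm ≫ sec f q ≫ τ σ := by
    apply pullback.hom_ext
    · rw [sec_fst, Category.assoc, Category.assoc, hτ1, sec_fst]
      rfl
    · rw [sec_snd, Category.assoc, Category.assoc, hτ2, ← Category.assoc (sec f q), sec_snd,
        Category.id_comp, specσ_symm_comp]
  unfold pt
  rw [hsec]
  have hcp : (specσ σ.symm).base (IsLocalRing.closedPoint (AlgebraicClosure k)) =
      IsLocalRing.closedPoint (AlgebraicClosure k) := Subsingleton.elim _ _
  show _ = (τ σ).base ((sec f q).base ((specσ σ.symm).base _))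
  rw [hcp]

end Groth.Agent.H65.GalCyc
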