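import Groth.Agent.H65.GalCycDefs

/-! # (D) for S13083: the Galois group acts transitively on the `k̄`-points over a given point -/

set_option autoImplicit false
universe u
open CategoryTheory CategoryTheory.Limits AlgebraicGeometry

namespace Groth.Agent.H65.GalCyc

theorem exists_aut (k E K : Type*) [Field k] [Field E] [Field K] [Algebra k K] [Normal k K]
    [Algebra k E] (ψ ψ' : E →ₐ[k] K) : ∃ σ : K ≃ₐ[k] K, ∀ e, σ (ψ' e) = ψ e := by
  letI : Algebra E K := ψ'.toRingHom.toAlgebra
  haveI : IsScalarTower k E K := IsScalarTower.of_algebraMap_eq (fun x => (ψ'.commutes x).symm)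
  let χ : E ≃ₐ[k] ψ.fieldRange := ψ.equivFieldRange
  refine ⟨χ.liftNormal K, fun e => ?_⟩
  have := χ.liftNormal_commutes K e
  exact this

variable {k : Type u} [Field k] {X : Scheme.{u}} (f : X ⟶ Spec (CommRingCat.of k))

/-- the structure map `k → κ(x)` -/
noncomputable def aX (x : X) : CommRingCat.of k ⟶ X.residueField x :=
  Spec.preimage (X.fromSpecResidueField x ≫ f)

theorem spec_aX (x : X) : Spec.map (aX f x) = X.fromSpecResidueField x ≫ f :=
  Spec.map_preimage _

theorem exists_phi (q : Q f) :
    ∃ (x : X) (φ : X.residueField x ⟶ CommRingCat.of (AlgebraicClosure k)),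
      x0 f q = x ∧ q.1 = Spec.map φ ≫ X.fromSpecResidueField x := by
  have h := (Scheme.SpecToEquivOfField (AlgebraicClosure k) X).symm_apply_apply q.1
  exact ⟨_, ((Scheme.SpecToEquivOfField (AlgebraicClosure k) X) q.1).2, rfl, h.symm⟩

theorem aX_comp_of_compat (x : X) (φ : X.residueField x ⟶ CommRingCat.of (AlgebraicClosure k))
    (h : (Spec.map φ ≫ X.fromSpecResidueField x) ≫ f = jK k) :
    aX f x ≫ φ = CommRingCat.ofHom (algebraMap k (AlgebraicClosure k)) := by
  apply Spec.map_injective
  rw [Spec.map_comp, spec_aX, ← Category.assoc]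
  exact h

theorem exists_act_eq (q q' : Q f) (h : x0 f q = x0 f q') :
    ∃ σ : AlgebraicClosure k ≃ₐ[k] AlgebraicClosure k, act f σ q = q' := by
  obtain ⟨x, φ, hx, hq⟩ := exists_phi f q
  obtain ⟨x', φ', hx', hq'⟩ := exists_phi f q'
  have hxx : x = x' := by rw [← hx, ← hx', h]
  subst hxx
  have hc := aX_comp_of_compat f x φ (by rw [← hq]; exact q.2)
  have hc' := aX_comp_of_compat f x φ' (by rw [← hq']; exact q'.2)
  letI : Algebra k (X.residueField x) := (aX f x).hom.toAlgebra
  let ψ : X.residueField x →ₐ[k] AlgebraicClosure k :=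
    { φ.hom with
      commutes' := fun r => by
        have := congrArg (fun g => g.hom r) hc
        exact this }
  let ψ' : X.residueField x →ₐ[k] AlgebraicClosure k :=
    { φ'.hom with
      commutes' := fun r => by
        have := congrArg (fun g => g.hom r) hc'
        exact this }
  obtain ⟨σ, hσ⟩ := exists_aut k (X.residueField x) (AlgebraicClosure k) ψ ψ'
  refine ⟨σ, ?_⟩
  apply Subtype.ext
  show specσ σ.symm ≫ q.1 = q'.1
  rw [hq, hq', ← Category.assoc, ← Spec.map_comp]
  congr 2
  ext e
  show σ.symm (φ.hom e) = φ'.hom e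
  rw [AlgEquiv.symm_apply_eq]
  exact (hσ e).symm

end Groth.Agent.H65.GalCyc
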