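import Mathlib
import Groth.Prelude.Def_ResDeg

/-!
# Definitions for S13083 (effective 0-cycles on `X` vs Galois-fixed 0-cycles on `X_{k̄}`)

`Q f` : the `k̄`-points of `X` over `k`; `sec f q` the section of `X_{k̄} → Spec k̄` attached to `q`,
`pt f q` its image point (a closed point of `X_{k̄}`), `x0 f q` the image point of `q` in `X`,
`act f σ q` the Galois action on `k̄`-points.
-/

set_option autoImplicit false
universe u
open CategoryTheory CategoryTheory.Limits AlgebraicGeometry

namespace Groth.Agent.H65.GalCyc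

/-- `Spec k̄ ⟶ Spec k`. -/
noncomputable abbrev jK (k : Type u) [Field k] :
    Spec (CommRingCat.of (AlgebraicClosure k)) ⟶ Spec (CommRingCat.of k) :=
  Spec.map (CommRingCat.ofHom (algebraMap k (AlgebraicClosure k)))

variable {k : Type u} [Field k] {X : Scheme.{u}} (f : X ⟶ Spec (CommRingCat.of k))

/-- The `k̄`-points of `X` over `k`. -/
def Q : Type u := {q : Spec (CommRingCat.of (AlgebraicClosure k)) ⟶ X // q ≫ f = jK k}

/-- The section of `X_{k̄} ⟶ Spec k̄` attached to a `k̄`-point. -/
noncomputable def sec (q : Q f) :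
    Spec (CommRingCat.of (AlgebraicClosure k)) ⟶ pullback f (jK k) :=
  pullback.lift q.1 (𝟙 _) (by rw [q.2, Category.id_comp])

/-- The (closed) point of `X_{k̄}` attached to a `k̄`-point. -/
noncomputable def pt (q : Q f) : ↥(pullback f (jK k)) :=
  (sec f q).base (IsLocalRing.closedPoint (AlgebraicClosure k))

/-- The image point in `X` of a `k̄`-point. -/
noncomputable def x0 (q : Q f) : X := q.1.base (IsLocalRing.closedPoint (AlgebraicClosure k))

/-- `Spec σ : Spec k̄ ⟶ Spec k̄`. -/
noncomputable abbrev specσ (σ : AlgebraicClosure k ≃ₐ[k] AlgebraicClosure k) :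
    Spec (CommRingCat.of (AlgebraicClosure k)) ⟶ Spec (CommRingCat.of (AlgebraicClosure k)) :=
  Spec.map (CommRingCat.ofHom (σ : AlgebraicClosure k →+* AlgebraicClosure k))

theorem specσ_jK (σ : AlgebraicClosure k ≃ₐ[k] AlgebraicClosure k) : specσ σ ≫ jK k = jK k := by
  rw [← Spec.map_comp, ← CommRingCat.ofHom_comp]
  congr 2
  ext a
  exact σ.commutes a

/-- The Galois action on `k̄`-points: `q ↦ Spec(σ⁻¹) ≫ q`. -/
noncomputable def act (σ : AlgebraicClosure k ≃ₐ[k] AlgebraicClosure k) (q : Q f) : Q f :=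
  ⟨specσ σ.symm ≫ q.1, by rw [Category.assoc, q.2, specσ_jK]⟩

theorem sec_fst (q : Q f) : sec f q ≫ pullback.fst f (jK k) = q.1 := pullback.lift_fst _ _ _

theorem sec_snd (q : Q f) : sec f q ≫ pullback.snd f (jK k) = 𝟙 _ := pullback.lift_snd _ _ _

theorem fst_pt (q : Q f) : (pullback.fst f (jK k)).base (pt f q) = x0 f q := by
  unfold pt x0
  rw [← sec_fst f q]
  rfl

end Groth.Agent.H65.GalCyc
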