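import Groth.Agent.H65.GalCycD

/-! # (E) for S13083: the number of `k̄`-points over a closed point is the residue degree -/

set_option autoImplicit false
universe u
open CategoryTheory CategoryTheory.Limits AlgebraicGeometry

namespace Groth.Agent.H65.GalCyc

variable {k : Type u} [Field k] {X : Scheme.{u}} (f : X ⟶ Spec (CommRingCat.of k))

/-- the structure map `k → κ(y)` for a point `y` of `Spec k` is bijective. -/
theorem aX_id_bijective (y : Spec (CommRingCat.of k)) :
    Function.Bijective (aX (𝟙 (Spec (CommRingCat.of k))) y).hom := by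
  constructor
  · exact (aX (𝟙 (Spec (CommRingCat.of k))) y).hom.injective
  · have hcl : IsClosed ({y} : Set (Spec (CommRingCat.of k))) := by
      have : ({y} : Set (Spec (CommRingCat.of k))) = Set.univ := by
        ext z
        simp only [Set.mem_singleton_iff, Set.mem_univ, iff_true]
        exact Subsingleton.elim (α := PrimeSpectrum k) z y
      rw [this]
      exact isClosed_univ
    haveI : IsClosedImmersion ((Spec (CommRingCat.of k)).fromSpecResidueField y) :=
      isClosed_singleton_iff_isClosedImmersion.mp hcl
    haveI : IsClosedImmersion (Spec.map (aX (𝟙 (Spec (CommRingCat.of k))) y)) := by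
      rw [spec_aX, Category.comp_id]
      infer_instance
    have hs := (IsClosedImmersion.isAffine_surjective_of_isAffine
      (Spec.map (aX (𝟙 (Spec (CommRingCat.of k))) y))).2
    have h1 := Scheme.ΓSpecIso_inv_naturality (aX (𝟙 (Spec (CommRingCat.of k))) y)
    intro b
    obtain ⟨a, ha⟩ := hs ((Scheme.ΓSpecIso _).inv b)
    refine ⟨(Scheme.ΓSpecIso _).hom a, ?_⟩
    have h2 := congrArg (fun g => g.hom ((Scheme.ΓSpecIso _).hom a)) h1
    simp only [CommRingCat.hom_comp, RingHom.coe_comp, Function.comp_apply] at h2
    have h3 : (Scheme.ΓSpecIso (CommRingCat.of k)).inv.hom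
        ((Scheme.ΓSpecIso (CommRingCat.of k)).hom.hom a) = a := by
      rw [← CommRingCat.comp_apply, Iso.hom_inv_id]; rfl
    rw [h3] at h2
    have h4 : (Scheme.ΓSpecIso _).inv.hom ((aX (𝟙 (Spec (CommRingCat.of k))) y).hom
        ((Scheme.ΓSpecIso (CommRingCat.of k)).hom.hom a)) = (Scheme.ΓSpecIso _).inv.hom b := by
      rw [h2]; exact ha
    exact (ConcreteCategory.bijective_of_isIso (Scheme.ΓSpecIso _).inv).1 h4

theorem aX_eq_comp (x : X) :
    aX f x = aX (𝟙 (Spec (CommRingCat.of k))) (f.base x) ≫ f.residueFieldMap x := by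
  apply Spec.map_injective
  rw [Spec.map_comp, spec_aX, spec_aX, Category.comp_id,
    Scheme.Hom.SpecMap_residueFieldMap_fromSpecResidueField]

theorem finrank_eq_residueDegree (x : X) :
    (letI : Algebra k (X.residueField x) := (aX f x).hom.toAlgebra
     Module.finrank k (X.residueField x)) = EGA4loc.residueDegree f x := by
  unfold EGA4loc.residueDegree
  letI a1 : Algebra k (X.residueField x) := (aX f x).hom.toAlgebra
  letI a2 : Algebra ((Spec (CommRingCat.of k)).residueField (f.base x)) (X.residueField x) :=
    (f.residueFieldMap x).hom.toAlgebra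
  let i : k ≃+* (Spec (CommRingCat.of k)).residueField (f.base x) :=
    RingEquiv.ofBijective (aX (𝟙 (Spec (CommRingCat.of k))) (f.base x)).hom
      (aX_id_bijective (f.base x))
  refine Algebra.finrank_eq_of_equiv_equiv i (RingEquiv.refl _) ?_
  ext r
  have := congrArg (fun g => g.hom r) (aX_eq_comp f x)
  exact this.symm

end Groth.Agent.H65.GalCyc

namespace Groth.Agent.H65.GalCyc

variable {k : Type u} [Field k] {X : Scheme.{u}} (f : X ⟶ Spec (CommRingCat.of k))

theorem finite_residueField [LocallyOfFiniteType f] (x : X) (hx : IsClosed ({x} : Set X)) :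
    (aX f x).hom.Finite := by
  haveI : IsClosedImmersion (X.fromSpecResidueField x) :=
    isClosed_singleton_iff_isClosedImmersion.mp hx
  haveI : LocallyOfFiniteType (X.fromSpecResidueField x ≫ f) := inferInstance
  have h1 : IsFinite (X.fromSpecResidueField x ≫ f) :=
    isFinite_iff_locallyOfFiniteType_of_jacobsonSpace.mpr inferInstance
  rw [← spec_aX] at h1
  exact (IsFinite.SpecMap_iff _).mp h1

theorem x0_mk_comp (x : X)
    (g : Spec (CommRingCat.of (AlgebraicClosure k)) ⟶ Spec (X.residueField x))
    (h : (g ≫ X.fromSpecResidueField x) ≫ f = jK k) :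
    x0 f ⟨g ≫ X.fromSpecResidueField x, h⟩ = x := by
  show (g ≫ X.fromSpecResidueField x).base (IsLocalRing.closedPoint (AlgebraicClosure k)) = x
  have h1 : (g ≫ X.fromSpecResidueField x).base (IsLocalRing.closedPoint (AlgebraicClosure k)) =
    (X.fromSpecResidueField x).base (g.base (IsLocalRing.closedPoint (AlgebraicClosure k))) := rfl
  rw [h1]
  exact Scheme.fromSpecResidueField_apply x _

theorem emb_compat (x : X)
    (ψ : letI : Algebra k (X.residueField x) := (aX f x).hom.toAlgebra
      X.residueField x →ₐ[k] AlgebraicClosure k) :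
    (Spec.map (CommRingCat.ofHom
      (letI : Algebra k (X.residueField x) := (aX f x).hom.toAlgebra
       (ψ : X.residueField x →+* AlgebraicClosure k))) ≫
      X.fromSpecResidueField x) ≫ f = jK k := by
  letI : Algebra k (X.residueField x) := (aX f x).hom.toAlgebra
  rw [Category.assoc, ← spec_aX, ← Spec.map_comp]
  congr 2
  ext r
  exact ψ.commutes r

/-- the `k̄`-point attached to a `k`-embedding `κ(x) → k̄`. -/
noncomputable def ofEmb (x : X)
    (ψ : letI : Algebra k (X.residueField x) := (aX f x).hom.toAlgebra
      X.residueField x →ₐ[k] AlgebraicClosure k) : {q : Q f // x0 f q = x} :=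
  letI : Algebra k (X.residueField x) := (aX f x).hom.toAlgebra
  ⟨⟨Spec.map (CommRingCat.ofHom (ψ : X.residueField x →+* AlgebraicClosure k)) ≫
      X.fromSpecResidueField x, emb_compat f x ψ⟩, x0_mk_comp f x _ _⟩

theorem ofEmb_bijective (x : X) : Function.Bijective (ofEmb f x) := by
  letI : Algebra k (X.residueField x) := (aX f x).hom.toAlgebra
  constructor
  · intro ψ ψ' h
    have h1 : Spec.map (CommRingCat.ofHom (ψ : X.residueField x →+* AlgebraicClosure k)) ≫
        X.fromSpecResidueField x =
        Spec.map (CommRingCat.ofHom (ψ' : X.residueField x →+* AlgebraicClosure k)) ≫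
        X.fromSpecResidueField x := congrArg (fun q => q.1.1) h
    have h2 := Spec.map_injective ((cancel_mono _).mp h1)
    ext e
    have := congrArg (fun g => g.hom e) h2
    exact this
  · rintro ⟨q, hq⟩
    obtain ⟨x', φ, hx', hq1⟩ := exists_phi f q
    have hxx : x' = x := by rw [← hx', hq]
    subst hxx
    have hc := aX_comp_of_compat f x' φ (by rw [← hq1]; exact q.2)
    let ψ : X.residueField x' →ₐ[k] AlgebraicClosure k :=
      { φ.hom with
        commutes' := fun r => by
          have := congrArg (fun g => g.hom r) hc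
          exact this }
    refine ⟨ψ, ?_⟩
    apply Subtype.ext
    apply Subtype.ext
    exact hq1.symm

theorem card_fibre [PerfectField k] [LocallyOfFiniteType f] (x : X)
    (hx : IsClosed ({x} : Set X)) :
    Finite {q : Q f // x0 f q = x} ∧
      Nat.card {q : Q f // x0 f q = x} = EGA4loc.residueDegree f x := by
  letI : Algebra k (X.residueField x) := (aX f x).hom.toAlgebra
  haveI : Module.Finite k (X.residueField x) := finite_residueField f x hx
  haveI : Algebra.IsSeparable k (X.residueField x) := inferInstance
  let e := Equiv.ofBijective (ofEmb f x) (ofEmb_bijective f x)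
  refine ⟨Finite.of_equiv _ e, ?_⟩
  rw [← Nat.card_congr e, ← finrank_eq_residueDegree f x]
  exact AlgHom.natCard_of_splits k (X.residueField x) (AlgebraicClosure k)
    (fun _ => IsAlgClosed.splits _)

end Groth.Agent.H65.GalCyc
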