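import Groth.Agent.H65.GalCycMain
import Groth.Agent.H66.GalCyc_F

/-! # Fibres of `X_{k̄} → X` over closed points: cardinality = residue degree (for S15086) -/

set_option autoImplicit false
universe u
open CategoryTheory CategoryTheory.Limits AlgebraicGeometry

namespace Groth.Agent.H65.GalCyc

variable {k : Type u} [Field k] {X : Scheme.{u}} (f : X ⟶ Spec (CommRingCat.of k))

/-- the canonical Galois automorphisms `id × Spec σ` of `X_{k̄}`. -/
noncomputable def tauCan (σ : AlgebraicClosure k ≃ₐ[k] AlgebraicClosure k) :
    pullback f (jK k) ⟶ pullback f (jK k) :=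
  pullback.lift (pullback.fst f (jK k)) (pullback.snd f (jK k) ≫ specσ σ)
    (by rw [pullback.condition, Category.assoc, specσ_jK])

theorem fibre_card [PerfectField k] [LocallyOfFiniteType f] (x : X)
    (hx : IsClosed ({x} : Set X)) :
    ((pullback.fst f (jK k)).base ⁻¹' {x}).Finite ∧
      ((pullback.fst f (jK k)).base ⁻¹' {x}).ncard = EGA4loc.residueDegree f x := by
  obtain ⟨-, hA2, hA3⟩ := pt_props f
  have h := (Groth.Agent.H65.GalCycAsm.fib_of_pts
    (pullback.fst f (jK k)).base (fun σ => (tauCan f σ).base) (EGA4loc.residueDegree f)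
    (pt f) (x0 f) (act f) hA2 hA3 (fst_pt f)
    (tau_pt f (tauCan f) (fun σ => pullback.lift_fst _ _ _) (fun σ => pullback.lift_snd _ _ _))
    (exists_act_eq f) (card_fibre f) (fun y => Groth.Agent.H66.GalCyc_F.closed_iff f y)).1
  exact h x hx

theorem aX_comp {Y : Scheme.{u}} (g : Y ⟶ Spec (CommRingCat.of k)) (φ : X ⟶ Y) (hφ : φ ≫ g = f)
    (x : X) : aX f x = aX g (φ.base x) ≫ φ.residueFieldMap x := by
  apply Spec.map_injective
  rw [Spec.map_comp, spec_aX, spec_aX, ← Category.assoc,
    Scheme.Hom.SpecMap_residueFieldMap_fromSpecResidueField, Category.assoc, hφ]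

/-- multiplicativity of residue degrees in the tower `k → κ(φ x) → κ(x)`. -/
theorem residueDegree_eq_mul [LocallyOfFiniteType f] {Y : Scheme.{u}}
    (g : Y ⟶ Spec (CommRingCat.of k)) (φ : X ⟶ Y)
    (hφ : φ ≫ g = f) (x : X) (hx : IsClosed ({x} : Set X)) :
    (letI : Algebra (Y.residueField (φ.base x)) (X.residueField x) :=
        (φ.residueFieldMap x).hom.toAlgebra
     EGA4loc.residueDegree f x = EGA4loc.residueDegree g (φ.base x) *
        Module.finrank (Y.residueField (φ.base x)) (X.residueField x) ∧
      0 < Module.finrank (Y.residueField (φ.base x)) (X.residueField x) ∧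
      (Module.finrank (Y.residueField (φ.base x)) (X.residueField x) = 1 ↔
        Function.Bijective (φ.residueFieldMap x).hom)) := by
  letI a1 : Algebra k (Y.residueField (φ.base x)) := (aX g (φ.base x)).hom.toAlgebra
  letI a2 : Algebra (Y.residueField (φ.base x)) (X.residueField x) :=
    (φ.residueFieldMap x).hom.toAlgebra
  letI a3 : Algebra k (X.residueField x) := (aX f x).hom.toAlgebra
  haveI : IsScalarTower k (Y.residueField (φ.base x)) (X.residueField x) :=
    IsScalarTower.of_algebraMap_eq (fun r => by
      have := congrArg (fun h => h.hom r) (aX_comp f g φ hφ x)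
      exact this)
  haveI : Module.Finite k (X.residueField x) := finite_residueField f x hx
  haveI : Module.Finite (Y.residueField (φ.base x)) (X.residueField x) :=
    Module.Finite.of_restrictScalars_finite k _ _
  refine ⟨?_, Module.finrank_pos, ?_⟩
  · rw [← finrank_eq_residueDegree f x, ← finrank_eq_residueDegree g (φ.base x)]
    exact (Module.finrank_mul_finrank k (Y.residueField (φ.base x)) (X.residueField x)).symm
  · constructor
    · intro h1
      refine ⟨(φ.residueFieldMap x).hom.injective, ?_⟩
      have h2 := Subalgebra.bot_eq_top_of_finrank_eq_one h1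
      exact Algebra.surjective_algebraMap_iff.mpr h2.symm
    · intro hb
      have h2 : (⊥ : Subalgebra (Y.residueField (φ.base x)) (X.residueField x)) = ⊤ :=
        (Algebra.surjective_algebraMap_iff.mp hb.2).symm
      exact Subalgebra.bot_eq_top_iff_finrank_eq_one.mp h2

end Groth.Agent.H65.GalCyc
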