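import Groth.Agent.H65.GalCycA
import Groth.Agent.H65.GalCycC
import Groth.Agent.H65.GalCycE
import Groth.Agent.H65.GalCycAsm

/-! # Assembly for S13083, given the closedness criterion (F) as a hypothesis -/

set_option autoImplicit false
universe u
open CategoryTheory CategoryTheory.Limits AlgebraicGeometry

namespace Groth.Agent.H65.GalCyc

variable {k : Type u} [Field k] {X : Scheme.{u}} (f : X ⟶ Spec (CommRingCat.of k))

theorem pi_surjective : Function.Surjective (pullback.fst f (jK k)).base := by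
  haveI : Surjective (jK k) := by
    refine ⟨fun x => ⟨IsLocalRing.closedPoint _, Subsingleton.elim _ _⟩⟩
  exact (pullback.fst f (jK k)).surjective

theorem main_of_closed_iff [PerfectField k] [LocallyOfFiniteType f]
    (hF : ∀ y : ↥(pullback f (jK k)), IsClosed ({y} : Set ↥(pullback f (jK k))) ↔
      IsClosed ({(pullback.fst f (jK k)).base y} : Set X))
    (τ : (AlgebraicClosure k ≃ₐ[k] AlgebraicClosure k) → (pullback f (jK k) ⟶ pullback f (jK k)))
    (hτ1 : ∀ σ, τ σ ≫ pullback.fst f (jK k) = pullback.fst f (jK k))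
    (hτ2 : ∀ σ, τ σ ≫ pullback.snd f (jK k) = pullback.snd f (jK k) ≫ specσ σ)
    (n : ℕ) :
    Set.BijOn
      (fun c : X → ℕ => c ∘ (pullback.fst f (jK k)).base)
      {c : X → ℕ | (Function.support c).Finite ∧ (∀ x, c x ≠ 0 → IsClosed ({x} : Set X)) ∧
        ∑ᶠ x, c x * EGA4loc.residueDegree f x = n}
      {d : ↥(pullback f (jK k)) → ℕ |
        (Function.support d).Finite ∧
        (∀ y, d y ≠ 0 → IsClosed ({y} : Set ↥(pullback f (jK k)))) ∧
        ∑ᶠ y, d y = n ∧ ∀ σ y, d ((τ σ).base y) = d y} := by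
  obtain ⟨-, hA2, hA3⟩ := pt_props f
  have hτ' : ∀ σ y, (pullback.fst f (jK k)).base ((τ σ).base y) =
      (pullback.fst f (jK k)).base y := by
    intro σ y
    have := congrArg (fun g => g.base y) (hτ1 σ)
    exact this
  obtain ⟨hfib, htr⟩ := Groth.Agent.H65.GalCycAsm.fib_of_pts
    (pullback.fst f (jK k)).base (fun σ => (τ σ).base) (EGA4loc.residueDegree f)
    (pt f) (x0 f) (act f) hA2 hA3 (fst_pt f) (tau_pt f τ hτ1 hτ2) (exists_act_eq f)
    (card_fibre f) hF
  exact Groth.Agent.H65.GalCycAsm.bijOn_abstract (pullback.fst f (jK k)).base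
    (fun σ => (τ σ).base) (EGA4loc.residueDegree f) (pi_surjective f) hF hfib htr hτ' n

end Groth.Agent.H65.GalCyc
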