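import Groth.Agent.H65.FieldMono

/-!
# Descent of the gerbe conditions along fppf covers of algebraic stacks (helper65)
-/

set_option autoImplicit false
open CategoryTheory CategoryTheory.Limits AlgebraicGeometry Opposite
universe u

namespace Groth.Agent.H65.GerbeDesc

open FibCat Stk Groth.Agent.H32.FibProd Groth.Agent.H32.Fp2 Groth.Agent.H32.Fp3
  Groth.Agent.H32.Fp4 Groth.Agent.H32.SpBridge Groth.Agent.H32.PFacts
  Groth.Agent.H32.AlgStackEquiv Groth.Agent.H32.AtlasRep Groth.Agent.H32.SpComp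
  Groth.Agent.H32.StackOps Groth.Agent.H32.SectSt Groth.Agent.H32.Repr Groth.Agent.H32.SpTrack
  Groth.Agent.H32.PshFp Groth.Agent.H32.Sect Groth.Agent.H32.DiagDescent Groth.Agent.H32.Cover
  Groth.Agent.H32.DiagRep Groth.Agent.H32.GoodMore Groth.Agent.H32.DiagApps
  Groth.Agent.H65.QC Groth.Agent.H65.SpMaps Groth.Agent.H65.LocQ Groth.Agent.H65.DiagLfp
  Groth.Agent.H65.LocQDesc Groth.Agent.H65.LocQPts Groth.Agent.H65.LocQRep
  Groth.Agent.H65.LocQCover Groth.Agent.H65.LocQIso Groth.Agent.H65.LocQBase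
  Groth.Agent.H65.LocQLift Groth.Agent.H65.SmoothST Groth.Agent.H65.OverYoneda
  Groth.Agent.H32.StPoints Groth.Agent.H32.StTop Groth.Agent.H65.FieldChart
  Groth.Agent.H65.FieldMono

variable {S : Scheme.{u}}

/-- objects of the target of a surjective flat lfp morphism of algebraic stacks lift to the
source after a surjective flat lfp base change. -/
theorem exists_fppf_lift {𝒴' 𝒴 : AlgSt.Cat S}
    (h𝒴' : AlgSt.IsAlgStack Scheme.fppfPrecoverage 𝒴')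
    (h𝒴 : AlgSt.IsAlgStack Scheme.fppfPrecoverage 𝒴) (g : 𝒴' ⥤ᵇ 𝒴)
    (hg₁ : AlgSt.IsSurjective g) (hg₂ : AlgSt.LocQ (AlgSp.LocP @Flat) g)
    (hg₃ : AlgSt.LocQ (AlgSp.LocP @LocallyOfFinitePresentation) g) (y : 𝒴.obj) :
    ∃ (W : Over S) (w : W ⟶ 𝒴.p.obj y) (y' : 𝒴'.obj) (τ : g.obj y' ⟶ y),
      Flat w.left ∧ LocallyOfFinitePresentation w.left ∧ Function.Surjective w.left ∧
      𝒴.p.IsHomLift w τ := by
  have iY := h𝒴.isStack.1
  have : 𝒴.p.IsFibered := Groth.Agent.H32.Split.isFibered_of_isFibGrpd 𝒴 iY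
  obtain ⟨t, -, τ, -, hτl⟩ := Groth.Agent.H32.Yoneda2.exists_based_functor
      (Groth.Agent.H32.Split.hT (𝒴.p.obj y)) y rfl
  obtain ⟨W, w, x', hwf, hwp, ⟨ε⟩, hlift⟩ := exists_flat_lfp_chart_lift h𝒴' h𝒴 g hg₂ hg₃ t
  let μ : (AlgSt.overMap w).obj (Over.mk (𝟙 W)) ⟶ Groth.Agent.H32.Split.T (𝒴.p.obj y) :=
    Over.homMk (𝟙 W ≫ w) (by simp [AlgSt.overMap])
  have l2 : 𝒴.p.IsHomLift (𝟙 W) (appIso ε (Over.mk (𝟙 W))).hom :=
    appIso_isHomLift ε (Over.mk (𝟙 W))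
  have hμ : (FibCat.overCat (𝒴.p.obj y)).p.IsHomLift (𝟙 W ≫ w) μ := by
    show (FibCat.overCat (𝒴.p.obj y)).p.IsHomLift ((FibCat.overCat (𝒴.p.obj y)).p.map μ) μ
    infer_instance
  have l3 : 𝒴.p.IsHomLift (𝟙 W ≫ w) (t.map μ) := inferInstance
  refine ⟨W, w, x'.obj (Over.mk (𝟙 W)), (appIso ε (Over.mk (𝟙 W))).hom ≫ t.map μ ≫ τ, hwf, hwp,
    fun u => hlift u (hg₁ _), ?_⟩
  have h := lift_id_comp _ _ _ _ l2 (lift_comp_id _ _ _ _ l3 hτl)
  rw [Category.id_comp] at h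
  exact h

/-- variant with the base named and the source of the cover the base of the lift. -/
theorem exists_fppf_lift' {𝒴' 𝒴 : AlgSt.Cat S}
    (h𝒴' : AlgSt.IsAlgStack Scheme.fppfPrecoverage 𝒴')
    (h𝒴 : AlgSt.IsAlgStack Scheme.fppfPrecoverage 𝒴) (g : 𝒴' ⥤ᵇ 𝒴)
    (hg₁ : AlgSt.IsSurjective g) (hg₂ : AlgSt.LocQ (AlgSp.LocP @Flat) g)
    (hg₃ : AlgSt.LocQ (AlgSp.LocP @LocallyOfFinitePresentation) g) (y : 𝒴.obj) (U : Over S)
    (hU : 𝒴.p.obj y = U) :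
    ∃ (y' : 𝒴'.obj) (w : 𝒴'.p.obj y' ⟶ U) (τ : g.obj y' ⟶ y),
      Flat w.left ∧ LocallyOfFinitePresentation w.left ∧ Function.Surjective w.left ∧
      𝒴.p.IsHomLift w τ := by
  subst hU
  obtain ⟨W, w, y', τ, h1, h2, h3, h4⟩ := exists_fppf_lift h𝒴' h𝒴 g hg₁ hg₂ hg₃ y
  have hW : 𝒴'.p.obj y' = W :=
    (g.w_obj y').symm.trans (IsHomLift.domain_eq 𝒴.p w τ)
  subst hW
  exact ⟨y', w, τ, h1, h2, h3, h4⟩

/-- a sieve that contains the composites of a covering sieve on the source of a surjective flat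
lfp morphism with that morphism is covering. -/
theorem mem_J_of_comp {U W : Over S} (w : W ⟶ U) (h1 : Flat w.left)
    (h2 : LocallyOfFinitePresentation w.left) (h3 : Function.Surjective w.left)
    (R : Sieve U) (R' : Sieve W) (hR' : R' ∈ QuotSh.J Scheme.fppfPrecoverage S W)
    (hRR' : ∀ ⦃V : Over S⦄ (v : V ⟶ W), R' v → R (v ≫ w)) :
    R ∈ QuotSh.J Scheme.fppfPrecoverage S U := by
  have hS : Sieve.generate (Presieve.singleton w) ∈ QuotSh.J Scheme.fppfPrecoverage S U := by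
    refine Groth.Agent.H50.mem_J_of_fppf_family (fun _ : PUnit.{1} => W) (fun _ => w)
      (fun τ' => ?_) (fun _ => h1) (fun _ => h2) _
      (fun _ => ⟨W, 𝟙 W, w, Presieve.singleton.mk, Category.id_comp w⟩)
    obtain ⟨t, ht⟩ := h3 τ'
    exact ⟨PUnit.unit, t, ht⟩
  refine (QuotSh.J Scheme.fppfPrecoverage S).transitive hS R ?_
  rintro Y f ⟨Z, k, w', hw', rfl⟩
  cases hw'
  refine (QuotSh.J Scheme.fppfPrecoverage S).superset_covering ?_
    ((QuotSh.J Scheme.fppfPrecoverage S).pullback_stable k hR')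
  intro V v hv
  have := hRR' (v ≫ k) hv
  simpa using this

end Groth.Agent.H65.GerbeDesc
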