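import Groth.Agent.H65.ClosedRed
import Groth.Agent.H32.RepStack
import Groth.Agent.S12817

/-!
# A gerbe morphism of algebraic stacks is a homeomorphism on points (helper65)
-/

set_option autoImplicit false
open CategoryTheory CategoryTheory.Limits AlgebraicGeometry Opposite
universe u

namespace Groth.Agent.H65.GerbeHomeo

open FibCat Stk Groth.Agent.H32.FibProd Groth.Agent.H32.Fp2 Groth.Agent.H32.Fp3
  Groth.Agent.H32.Fp4 Groth.Agent.H32.SpBridge Groth.Agent.H32.PFacts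
  Groth.Agent.H32.AlgStackEquiv Groth.Agent.H32.AtlasRep Groth.Agent.H32.SpComp
  Groth.Agent.H32.StackOps Groth.Agent.H32.SectSt Groth.Agent.H32.Repr Groth.Agent.H32.SpTrack
  Groth.Agent.H32.PshFp Groth.Agent.H32.Sect Groth.Agent.H32.DiagDescent Groth.Agent.H32.Cover
  Groth.Agent.H32.DiagRep Groth.Agent.H32.GoodMore Groth.Agent.H32.DiagApps
  Groth.Agent.H65.QC Groth.Agent.H65.SpMaps Groth.Agent.H65.LocQ Groth.Agent.H65.DiagLfp
  Groth.Agent.H65.LocQDesc Groth.Agent.H65.LocQPts Groth.Agent.H65.LocQRep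
  Groth.Agent.H65.LocQCover Groth.Agent.H65.LocQIso Groth.Agent.H65.LocQBase
  Groth.Agent.H65.LocQLift Groth.Agent.H65.SmoothST Groth.Agent.H65.OverYoneda
  Groth.Agent.H32.StPoints Groth.Agent.H32.StTop Groth.Agent.H65.FieldChart
  Groth.Agent.H65.FieldMono Groth.Agent.H65.GerbeDesc Groth.Agent.H65.ClosedRed

variable {S : Scheme.{u}} {𝒳 𝒴 : AlgSt.Cat S}

/-- two functors from a slice category to a category fibred in groupoids are isomorphic as soon as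
their values at the identity are related by a morphism over the identity. -/
theorem nonempty_iso_of_app {U : Over S} (iY : IsFibGrpd 𝒴.p) (G H : FibCat.overCat U ⥤ᵇ 𝒴)
    (t : G.obj (Groth.Agent.H32.Split.T U) ⟶ H.obj (Groth.Agent.H32.Split.T U))
    (ht : 𝒴.p.IsHomLift (𝟙 ((FibCat.overCat U).p.obj (Groth.Agent.H32.Split.T U))) t) :
    Nonempty (G ≅ H) := by
  obtain ⟨α, -⟩ := Groth.Agent.H32.Yoneda2.exists_natTrans (Groth.Agent.H32.Split.hT U)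
    (fun X => sc_of_isFibGrpd 𝒴.p iY _ _) t (ht := ht)
  have := Groth.Agent.H32.RepStack.isIso_natTrans iY α
  exact ⟨asIso α⟩

/-- local lifts of an object along a functor whose objects lift locally, through a given point of
the base. -/
theorem exists_local_lift (f : 𝒳 ⥤ᵇ 𝒴)
    (hO : Gerb.LocSurjObj (QuotSh.J Scheme.fppfPrecoverage S) f) (y : 𝒴.obj) (V : Over S)
    (hV : 𝒴.p.obj y = V) (t : ↥V.left) :
    ∃ (T' : Over S) (g : T' ⟶ V) (x : 𝒳.obj) (m : f.obj x ⟶ y), Flat g.left ∧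
      LocallyOfFinitePresentation g.left ∧ (∃ t' : ↥T'.left, g.left t' = t) ∧
      𝒴.p.IsHomLift g m := by
  subst hV
  obtain ⟨R, hR, h⟩ := hO y
  obtain ⟨T', g, hRg, hfl, hfp, t', ht'⟩ := Groth.Agent.H50.exists_fppf_of_mem_J hR t
  obtain ⟨x, m, hm⟩ := h g hRg
  exact ⟨T', g, x, m, hfl, hfp, ⟨t', ht'⟩, hm⟩

/-- the restriction of an object to the residue field of a point of its base. -/
theorem exists_fpt_over (iX : IsFibGrpd 𝒳.p) (x : 𝒳.obj) (T' : Over S) (hx : 𝒳.p.obj x = T')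
    (t' : ↥T'.left) : ∃ (r : AlgSt.FPt 𝒳) (_ : r.obj ⟶ x), True := by
  let ρ : Over.mk (T'.left.fromSpecResidueField t' ≫ T'.hom) ⟶ T' :=
    Over.homMk (T'.left.fromSpecResidueField t') rfl
  obtain ⟨x', φ, hφ⟩ := exists_lift_of_eq 𝒳.p iX hx ρ
  exact ⟨{ K := ↥(T'.left.residueField t')
           str := T'.left.fromSpecResidueField t' ≫ T'.hom
           obj := x'
           lies := IsHomLift.domain_eq 𝒳.p ρ φ }, φ, trivial⟩

/-- a functor whose objects lift locally is surjective on points. -/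
theorem surjective_of_locSurjObj (iX : IsFibGrpd 𝒳.p) (f : 𝒳 ⥤ᵇ 𝒴)
    (hO : Gerb.LocSurjObj (QuotSh.J Scheme.fppfPrecoverage S) f) :
    Function.Surjective (AlgSt.Points.map f) := by
  intro q
  obtain ⟨q, rfl⟩ := AlgSt.Points.mk_surjective q
  obtain ⟨τ⟩ : Nonempty ↥(Over.mk q.str).left :=
    inferInstanceAs (Nonempty ↥(Spec (CommRingCat.of q.K)))
  obtain ⟨T', g, x, m, -, -, ⟨t', -⟩, hm⟩ := exists_local_lift f hO q.obj _ q.lies τ
  have hx : 𝒳.p.obj x = T' := (f.w_obj x).symm.trans (IsHomLift.domain_eq 𝒴.p g m)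
  obtain ⟨r, φ, -⟩ := exists_fpt_over iX x T' hx t'
  exact ⟨AlgSt.Points.mk r, AlgSt.Points.sound ⟨r.map f, 𝟙 _, f.map φ ≫ m, trivial⟩⟩

/-- a functor whose morphisms between images lift locally is injective on points. -/
theorem injective_of_locSurjHom (iX : IsFibGrpd 𝒳.p) (iY : IsFibGrpd 𝒴.p) (f : 𝒳 ⥤ᵇ 𝒴)
    (hH : Gerb.LocSurjHom (QuotSh.J Scheme.fppfPrecoverage S) f) :
    Function.Injective (AlgSt.Points.map f) := by
  intro p₁ p₂ h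
  obtain ⟨p₁, rfl⟩ := AlgSt.Points.mk_surjective p₁
  obtain ⟨p₂, rfl⟩ := AlgSt.Points.mk_surjective p₂
  have hrel : AlgSt.FPt.Rel (p₁.map f) (p₂.map f) :=
    (Groth.Agent.S12817.result 𝒴 iY).eqvGen_iff.mp (Quot.eqvGen_exact h)
  obtain ⟨r, a, b, -⟩ : ∃ (r : AlgSt.FPt 𝒴) (_ : r.obj ⟶ f.obj p₁.obj)
      (_ : r.obj ⟶ f.obj p₂.obj), True := hrel
  obtain ⟨x₁, φ₁, hφ₁⟩ := exists_lift_of_eq 𝒳.p iX (f.w_obj p₁.obj).symm (𝒴.p.map a)
  obtain ⟨x₂, φ₂, hφ₂⟩ := exists_lift_of_eq 𝒳.p iX (f.w_obj p₂.obj).symm (𝒴.p.map b)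
  have l1 : 𝒴.p.IsHomLift (𝒴.p.map a) (f.map φ₁) := inferInstance
  have l2 : 𝒴.p.IsHomLift (𝒴.p.map b) (f.map φ₂) := inferInstance
  have sc1 : 𝒴.p.IsStronglyCartesian (𝒴.p.map a) (f.map φ₁) := sc_of_isFibGrpd 𝒴.p iY _ _
  have sc2 : 𝒴.p.IsStronglyCartesian (𝒴.p.map b) (f.map φ₂) := sc_of_isFibGrpd 𝒴.p iY _ _
  obtain ⟨c₁, hc₁⟩ : ∃ c₁ : r.obj ⟶ f.obj x₁, 𝒴.p.IsHomLift (𝟙 (𝒴.p.obj r.obj)) c₁ :=
    ⟨Functor.IsCartesian.map 𝒴.p (𝒴.p.map a) (f.map φ₁) a, inferInstance⟩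
  obtain ⟨c₂, hc₂⟩ : ∃ c₂ : r.obj ⟶ f.obj x₂, 𝒴.p.IsHomLift (𝟙 (𝒴.p.obj r.obj)) c₂ :=
    ⟨Functor.IsCartesian.map 𝒴.p (𝒴.p.map b) (f.map φ₂) b, inferInstance⟩
  have ic₁ : IsIso c₁ := isIso_of_isFibGrpd 𝒴.p iY (𝟙 (𝒴.p.obj r.obj)) c₁
  have hT₁ : 𝒳.p.obj x₁ = 𝒴.p.obj r.obj := IsHomLift.domain_eq 𝒳.p (𝒴.p.map a) φ₁
  have hb' : 𝒴.p.IsHomLift (𝟙 (𝒳.p.obj x₁)) (inv c₁ ≫ c₂) := by
    rw [hT₁]
    have h1 : 𝒴.p.IsHomLift (𝟙 (𝒴.p.obj r.obj)) (inv c₁) := inferInstance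
    exact lift_id_comp _ _ _ _ h1 hc₂
  obtain ⟨R, hR, hR2⟩ := hH x₁ x₂ (inv c₁ ≫ c₂) hb'
  obtain ⟨τ⟩ : Nonempty ↥(𝒳.p.obj x₁).left := by
    rw [hT₁, r.lies]
    exact inferInstanceAs (Nonempty ↥(Spec (CommRingCat.of r.K)))
  obtain ⟨T', g, hRg, -, -, t', -⟩ := Groth.Agent.H50.exists_fppf_of_mem_J hR τ
  obtain ⟨x₀, φ, ψ, hφ, hψ, -⟩ := hR2 g hRg
  obtain ⟨r', ρ, -⟩ := exists_fpt_over iX x₀ T' (IsHomLift.domain_eq 𝒳.p g φ) t'
  exact AlgSt.Points.sound ⟨r', ρ ≫ φ ≫ φ₁, ρ ≫ ψ ≫ φ₂, trivial⟩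

/-- a functor between algebraic stacks whose objects lift locally and which is injective on
points is open on points. -/
theorem isOpenMap_of_locSurjObj (h𝒳 : AlgSt.IsAlgStack Scheme.fppfPrecoverage 𝒳)
    (h𝒴 : AlgSt.IsAlgStack Scheme.fppfPrecoverage 𝒴) (f : 𝒳 ⥤ᵇ 𝒴)
    (hO : Gerb.LocSurjObj (QuotSh.J Scheme.fppfPrecoverage S) f)
    (hinj : Function.Injective (AlgSt.Points.map f)) : IsOpenMap (AlgSt.Points.map f) := by
  have iX := h𝒳.isStack.1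
  have iY := h𝒴.isStack.1
  have : 𝒳.p.IsFibered := Groth.Agent.H32.Split.isFibered_of_isFibGrpd 𝒳 iX
  intro W hW V v hv
  rw [isOpen_iff_forall_mem_open]
  intro t ht
  obtain ⟨T', g, x, m, hfl, hfp, ⟨t', ht'⟩, hm⟩ :=
    exists_local_lift f hO (v.obj (Groth.Agent.H32.Split.T V)) V (v.w_obj _) t
  have hx : 𝒳.p.obj x = T' := (f.w_obj x).symm.trans (IsHomLift.domain_eq 𝒴.p g m)
  obtain ⟨x', -, τ, -, hτl⟩ := Groth.Agent.H32.Yoneda2.exists_based_functor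
    (Groth.Agent.H32.Split.hT T') x hx
  let μ : (AlgSt.overMap g).obj (Groth.Agent.H32.Split.T T') ⟶ Groth.Agent.H32.Split.T V :=
    Over.homMk g (by simp [AlgSt.overMap])
  have hμ : (FibCat.overCat V).p.IsHomLift g μ := by
    show (FibCat.overCat V).p.IsHomLift ((FibCat.overCat V).p.map μ) μ
    infer_instance
  have l1 : 𝒴.p.IsHomLift g (v.map μ) := inferInstance
  have sc1 : 𝒴.p.IsStronglyCartesian g (v.map μ) := sc_of_isFibGrpd 𝒴.p iY _ _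
  have hτl' : 𝒳.p.IsHomLift (𝟙 T') τ := hτl
  have l2 : 𝒴.p.IsHomLift (𝟙 T') (f.map τ) := inferInstance
  have l3 : 𝒴.p.IsHomLift g (f.map τ ≫ m) := lift_id_comp _ _ _ _ l2 hm
  obtain ⟨tt, htt⟩ : ∃ tt : f.obj (x'.obj (Groth.Agent.H32.Split.T T')) ⟶
      v.obj ((AlgSt.overMap g).obj (Groth.Agent.H32.Split.T T')), 𝒴.p.IsHomLift (𝟙 T') tt :=
    ⟨Functor.IsCartesian.map 𝒴.p g (v.map μ) (f.map τ ≫ m), inferInstance⟩
  obtain ⟨ε⟩ := nonempty_iso_of_app iY (BasedFunctor.comp x' f)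
    (BasedFunctor.comp (AlgSt.overMap g) v) tt htt
  refine ⟨g.left '' (AlgSt.Points.ofChart x' ⁻¹' W), ?_, ?_, ?_⟩
  · rintro _ ⟨t'', ht'', rfl⟩
    refine ⟨AlgSt.Points.ofChart x' t'', ht'', ?_⟩
    rw [← ofChart_comp, ofChart_congr ε, ofChart_overMap]
  · exact g.left.isOpenMap _ ((ofChart_continuous h𝒳 T' x').isOpen_preimage W hW)
  · obtain ⟨w, hw, hw2⟩ := ht
    refine ⟨t', ?_, ht'⟩
    have e : AlgSt.Points.map f w = AlgSt.Points.map f (AlgSt.Points.ofChart x' t') := by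
      rw [hw2, ← ht', ← ofChart_overMap, ← ofChart_congr ε, ofChart_comp]
    have e' := hinj e
    show AlgSt.Points.ofChart x' t' ∈ W
    rw [← e']
    exact hw

/-- a gerbe morphism of algebraic stacks is a homeomorphism on points. -/
theorem isHomeomorph_of_isGerbeOver (h𝒳 : AlgSt.IsAlgStack Scheme.fppfPrecoverage 𝒳)
    (h𝒴 : AlgSt.IsAlgStack Scheme.fppfPrecoverage 𝒴) (f : 𝒳 ⥤ᵇ 𝒴)
    (hf : Gerb.IsGerbeOver (QuotSh.J Scheme.fppfPrecoverage S) f) :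
    IsHomeomorph (AlgSt.Points.map f) := by
  have iX := h𝒳.isStack.1
  have iY := h𝒴.isStack.1
  have hinj := injective_of_locSurjHom iX iY f hf.2
  exact ⟨continuous_map h𝒴 f, isOpenMap_of_locSurjObj h𝒳 h𝒴 f hf.1 hinj,
    hinj, surjective_of_locSurjObj iX f hf.1⟩

end Groth.Agent.H65.GerbeHomeo
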