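import Groth.Agent.H65.GerbeFlat
import Groth.Agent.H32.StQCMor
import Groth.Agent.H32.AlgStackFp
import Groth.Agent.S12983
import Groth.Agent.S12985

/-!
# Gerbes are quasi-compact; products of gerbes (helper65)
-/

set_option autoImplicit false
open CategoryTheory CategoryTheory.Limits AlgebraicGeometry Opposite
universe u

namespace Groth.Agent.H65.GerbeQC

open FibCat Stk Groth.Agent.H32.FibProd Groth.Agent.H32.Fp2 Groth.Agent.H32.Fp3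
  Groth.Agent.H32.Fp4 Groth.Agent.H32.SpBridge Groth.Agent.H32.Repr
  Groth.Agent.H32.AlgStackFp Groth.Agent.H32.Prod Groth.Agent.H32.StQC Groth.Agent.H32.StUniv
  Groth.Agent.H65.FieldMono Groth.Agent.H65.GerbeHomeo Groth.Agent.H65.GerbeFlat

variable {S : Scheme.{u}}

theorem comp_aux {C : Type*} [Category C] {A B B' D D' E : C} (a : A ⟶ B) (b : B ⟶ B')
    (c' : B' ⟶ E) (c : B ⟶ D) (d : D ⟶ E) (t : A ⟶ D') (e : D' ⟶ D) (h1 : b ≫ c' = c ≫ d)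
    (h2 : a ≫ c = t ≫ e) : (a ≫ b) ≫ c' = t ≫ e ≫ d := by
  rw [Category.assoc, h1, ← Category.assoc, h2, Category.assoc]

section prod
variable {𝒳₁ 𝒳₂ 𝒴₁ 𝒴₂ 𝒵 : AlgSt.Cat S} (f₁ : 𝒳₁ ⥤ᵇ 𝒴₁) (f₂ : 𝒳₂ ⥤ᵇ 𝒴₂) (s₁ : 𝒴₁ ⥤ᵇ 𝒵)
  (s₂ : 𝒴₂ ⥤ᵇ 𝒵)

theorem prodF2_iso (q : (fp (BasedFunctor.comp f₁ s₁) (BasedFunctor.comp f₂ s₂)).obj) :
    ((prodF2 f₁ f₂ s₁ s₂).obj q).obj.iso.hom = q.obj.iso.hom := rfl

/-- objects lift locally along the product of two functors along which objects lift locally. -/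
theorem prodF2_locSurjObj (iZ : IsFibGrpd 𝒵.p)
    (h₁ : Gerb.LocSurjObj (QuotSh.J Scheme.fppfPrecoverage S) f₁)
    (h₂ : Gerb.LocSurjObj (QuotSh.J Scheme.fppfPrecoverage S) f₂) :
    Gerb.LocSurjObj (QuotSh.J Scheme.fppfPrecoverage S) (prodF2 f₁ f₂ s₁ s₂) := by
  have _ := iZ
  intro p
  have hθ : 𝒵.p.IsHomLift (𝟙 (𝒴₁.p.obj p.obj.fst)) p.obj.iso.hom := fp_iso_isHomLift s₁ s₂ p
  obtain ⟨R₁, hR₁, H₁⟩ := h₁ p.obj.fst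
  obtain ⟨R₂, hR₂, H₂⟩ := locSurjObj_at f₂ h₂ p.obj.snd (𝒴₁.p.obj p.obj.fst)
    (fp_snd_obj_eq s₁ s₂ p)
  refine ⟨R₁ ⊓ R₂, (QuotSh.J Scheme.fppfPrecoverage S).intersection_covering hR₁ hR₂,
    fun V v' hv => ?_⟩
  obtain ⟨v, hvv⟩ : ∃ v : V ⟶ 𝒴₁.p.obj p.obj.fst, v = v' := ⟨v', rfl⟩
  subst hvv
  obtain ⟨x₁, g₁, hg₁⟩ := H₁ v hv.1
  obtain ⟨x₂, g₂, hg₂⟩ := H₂ v hv.2
  have hs1 : 𝒵.p.IsHomLift v (s₁.map g₁) := inferInstance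
  have hs2 : 𝒵.p.IsHomLift v (s₂.map g₂) := inferInstance
  have hc : 𝒵.p.IsHomLift v (s₁.map g₁ ≫ p.obj.iso.hom) := lift_comp_id _ _ _ _ hs1 hθ
  obtain ⟨θ', hθ', hfac⟩ := Groth.Agent.H84.exists_factor 𝒵.p v (s₂.map g₂) (𝟙 V) v (by simp)
    (s₁.map g₁ ≫ p.obj.iso.hom)
  have iθ : IsIso θ' := isIso_of_isFibGrpd 𝒵.p iZ (𝟙 V) θ'
  have hV : V = 𝒳₁.p.obj x₁ :=
    ((f₁.w_obj x₁).symm.trans (IsHomLift.domain_eq 𝒴₁.p v g₁)).symm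
  obtain ⟨Θ, hΘ⟩ : ∃ Θ : (BasedFunctor.comp f₁ s₁).obj x₁ ≅ (BasedFunctor.comp f₂ s₂).obj x₂,
      Θ.hom = θ' := ⟨@asIso _ _ _ _ θ' iθ, rfl⟩
  have hθ'' : 𝒵.p.IsHomLift (𝟙 (𝒳₁.p.obj x₁)) Θ.hom := by
    rw [hΘ]; exact isHomLift_id_of_eq 𝒵.p hV _ hθ'
  refine ⟨mkObj (BasedFunctor.comp f₁ s₁) (BasedFunctor.comp f₂ s₂) x₁ x₂ Θ hθ'',
    mkHom _ _ g₁ g₂ ?_, ?_⟩
  · rw [prodF2_iso]
    change s₁.map g₁ ≫ p.obj.iso.hom = Θ.hom ≫ s₂.map g₂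
    rw [hΘ]
    exact hfac.symm
  · exact (fp_isHomLift_iff _ _ v _).mpr hg₁

/-- morphisms between images lift locally along the product of two functors along which they
do. -/
theorem prodF2_locSurjHom (iZ : IsFibGrpd 𝒵.p)
    (h₁ : Gerb.LocSurjHom (QuotSh.J Scheme.fppfPrecoverage S) f₁)
    (h₂ : Gerb.LocSurjHom (QuotSh.J Scheme.fppfPrecoverage S) f₂) :
    Gerb.LocSurjHom (QuotSh.J Scheme.fppfPrecoverage S) (prodF2 f₁ f₂ s₁ s₂) := by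
  have _ := iZ
  intro q q' b hb
  have hq : 𝒵.p.IsHomLift (𝟙 (𝒳₁.p.obj q.obj.fst)) q.obj.iso.hom :=
    fp_iso_isHomLift (BasedFunctor.comp f₁ s₁) (BasedFunctor.comp f₂ s₂) q
  have e2 : 𝒳₂.p.obj q.obj.snd = 𝒳₁.p.obj q.obj.fst :=
    fp_snd_obj_eq (BasedFunctor.comp f₁ s₁) (BasedFunctor.comp f₂ s₂) q
  obtain ⟨b₁, b₂, hb₁, hb₂, wb⟩ : ∃ (b₁ : f₁.obj q.obj.fst ⟶ f₁.obj q'.obj.fst)
      (b₂ : f₂.obj q.obj.snd ⟶ f₂.obj q'.obj.snd),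
      𝒴₁.p.IsHomLift (𝟙 (𝒳₁.p.obj q.obj.fst)) b₁ ∧ 𝒴₂.p.IsHomLift (𝟙 (𝒳₂.p.obj q.obj.snd)) b₂ ∧
      s₁.map b₁ ≫ q'.obj.iso.hom = q.obj.iso.hom ≫ s₂.map b₂ ∧ b.hom.fst = b₁ ∧ b.hom.snd = b₂ := by
    refine ⟨b.hom.fst, b.hom.snd, (fp_isHomLift_iff s₁ s₂ _ b).mp hb, ?_, b.hom.w, rfl, rfl⟩
    have := fp_isHomLift_snd' s₁ s₂ _ b (h := hb)
    exact isHomLift_id_of_eq 𝒴₂.p e2.symm _ this
  obtain ⟨wb, hbf, hbs⟩ := wb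
  obtain ⟨R₁, hR₁, H₁⟩ := h₁ q.obj.fst q'.obj.fst b₁ hb₁
  obtain ⟨R₂', hR₂', H₂'⟩ := h₂ q.obj.snd q'.obj.snd b₂ hb₂
  obtain ⟨R₂, hR₂, H₂⟩ := Groth.Agent.H84.cover_transport (QuotSh.J Scheme.fppfPrecoverage S)
    e2 R₂' hR₂'
  refine ⟨R₁ ⊓ R₂, (QuotSh.J Scheme.fppfPrecoverage S).intersection_covering hR₁ hR₂,
    fun V v' hv => ?_⟩
  obtain ⟨v, hvv⟩ : ∃ v : V ⟶ 𝒳₁.p.obj q.obj.fst, v = v' := ⟨v', rfl⟩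
  subst hvv
  obtain ⟨x₀, φ, ψ, hφ, hψ, e₁⟩ := H₁ v hv.1
  obtain ⟨z₀, φ₂, ψ₂, hφ₂', hψ₂', e₂⟩ := H₂' _ (H₂ v hv.2)
  have hφ₂ : 𝒳₂.p.IsHomLift v φ₂ := (IsHomLift.lift_comp_eqToHom_iff _ _ _ _).mp hφ₂'
  have hψ₂ : 𝒳₂.p.IsHomLift v ψ₂ := (IsHomLift.lift_comp_eqToHom_iff _ _ _ _).mp hψ₂'
  have l1 : 𝒵.p.IsHomLift v (s₁.map (f₁.map φ)) := inferInstance
  have l2 : 𝒵.p.IsHomLift v (s₂.map (f₂.map φ₂)) := inferInstance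
  obtain ⟨m, hm⟩ : ∃ m : s₁.obj (f₁.obj x₀) ⟶ s₂.obj (f₂.obj q.obj.snd),
      m = s₁.map (f₁.map φ) ≫ q.obj.iso.hom := ⟨_, rfl⟩
  have hc : 𝒵.p.IsHomLift v m := by
    rw [hm]; exact lift_comp_id _ _ _ _ l1 hq
  obtain ⟨θ₀, hθ₀, hfac⟩ := Groth.Agent.H84.exists_factor 𝒵.p v (s₂.map (f₂.map φ₂)) (𝟙 V) v
    (by simp) m
  rw [hm] at hfac
  have iθ : IsIso θ₀ := isIso_of_isFibGrpd 𝒵.p iZ (𝟙 V) θ₀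
  have hV : V = 𝒳₁.p.obj x₀ := (IsHomLift.domain_eq 𝒳₁.p v φ).symm
  obtain ⟨Θ, hΘ⟩ : ∃ Θ : (BasedFunctor.comp f₁ s₁).obj x₀ ≅ (BasedFunctor.comp f₂ s₂).obj z₀,
      Θ.hom = θ₀ := ⟨@asIso _ _ _ _ θ₀ iθ, rfl⟩
  have hΘl : 𝒵.p.IsHomLift (𝟙 (𝒳₁.p.obj x₀)) Θ.hom := by
    rw [hΘ]; exact isHomLift_id_of_eq 𝒵.p hV _ hθ₀
  have w1 : (BasedFunctor.comp f₁ s₁).map φ ≫ q.obj.iso.hom =
      Θ.hom ≫ (BasedFunctor.comp f₂ s₂).map φ₂ := by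
    rw [hΘ]; exact hfac.symm
  have w2 : (BasedFunctor.comp f₁ s₁).map ψ ≫ q'.obj.iso.hom =
      Θ.hom ≫ (BasedFunctor.comp f₂ s₂).map ψ₂ := by
    change s₁.map (f₁.map ψ) ≫ q'.obj.iso.hom = Θ.hom ≫ s₂.map (f₂.map ψ₂)
    rw [← e₁, ← e₂, s₁.map_comp, s₂.map_comp]
    exact comp_aux _ _ _ _ _ _ _ wb w1
  let q₀ := mkObj (BasedFunctor.comp f₁ s₁) (BasedFunctor.comp f₂ s₂) x₀ z₀ Θ hΘl
  refine ⟨q₀, mkHom _ _ φ φ₂ w1, mkHom _ _ ψ ψ₂ w2,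
    (fp_isHomLift_iff _ _ v _).mpr hφ, (fp_isHomLift_iff _ _ v _).mpr hψ, ?_⟩
  refine fp_hom_ext _ _ ?_ ?_
  · change f₁.map φ ≫ b.hom.fst = f₁.map ψ
    rw [hbf]; exact e₁
  · change f₂.map φ₂ ≫ b.hom.snd = f₂.map ψ₂
    rw [hbs]; exact e₂

end prod

variable {𝒳 𝒴 : AlgSt.Cat S}

/-- a gerbe is a quasi-compact morphism. -/
theorem isQuasiCompactMor_of_gerbe (h𝒳 : AlgSt.IsAlgStack Scheme.fppfPrecoverage 𝒳)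
    (h𝒴 : AlgSt.IsAlgStack Scheme.fppfPrecoverage 𝒴) (f : 𝒳 ⥤ᵇ 𝒴)
    (hf : Gerb.IsGerbeOver (QuotSh.J Scheme.fppfPrecoverage S) f) :
    AlgSt.IsQuasiCompactMor Scheme.fppfPrecoverage f := by
  intro 𝒵 h𝒵 hqc g
  have hfp := isAlgStack_fp' h𝒳 h𝒴 h𝒵 g f
  have hger := Groth.Agent.S16864.result S 𝒳 𝒴 𝒵 h𝒳 h𝒴 h𝒵 f g hf
  have hh := isHomeomorph_of_isGerbeOver hfp h𝒵 _ hger
  have hc := compactSpace_of_isQuasiCompact h𝒵 hqc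
  exact isQuasiCompact_of_compactSpace hfp (hh.homeomorph.symm.compactSpace)

/-- the diagonal of the target of a gerbe over the base is quasi-compact if that of the source
is. -/
theorem isQuasiCompactMor_diag_of_gerbe (h𝒳 : AlgSt.IsAlgStack Scheme.fppfPrecoverage 𝒳)
    (h𝒴 : AlgSt.IsAlgStack Scheme.fppfPrecoverage 𝒴) (f : 𝒳 ⥤ᵇ 𝒴)
    (hf : Gerb.IsGerbeOver (QuotSh.J Scheme.fppfPrecoverage S) f)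
    (hΔ : AlgSt.IsQuasiCompactMor Scheme.fppfPrecoverage (FibCat.diag (FibCat.toSelf 𝒳))) :
    AlgSt.IsQuasiCompactMor Scheme.fppfPrecoverage (FibCat.diag (FibCat.toSelf 𝒴)) := by
  have iX := h𝒳.isStack.1
  have hself : IsFibGrpd (FibCat.selfOver (Over S)).p := self_isFibGrpd
  have hPX := isAlgStack_prod h𝒳 h𝒳
  have hPY := isAlgStack_prod h𝒴 h𝒴
  have e := eq_toSelf (BasedFunctor.comp f (FibCat.toSelf 𝒴))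
  rw [← e] at hΔ hPX
  have hP : Gerb.IsGerbeOver (QuotSh.J Scheme.fppfPrecoverage S)
      (prodF2 f f (FibCat.toSelf 𝒴) (FibCat.toSelf 𝒴)) :=
    ⟨prodF2_locSurjObj f f _ _ hself hf.1 hf.1, prodF2_locSurjHom f f _ _ hself hf.2 hf.2⟩
  have hPqc := isQuasiCompactMor_of_gerbe hPX hPY _ hP
  have hp := Groth.Agent.S12983.result S 𝒳 _ _ h𝒳 hPX hPY
    (FibCat.diag (BasedFunctor.comp f (FibCat.toSelf 𝒴)))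
    (prodF2 f f (FibCat.toSelf 𝒴) (FibCat.toSelf 𝒴)) hΔ hPqc
  exact Groth.Agent.S12985.result S 𝒳 𝒴 _ h𝒳 h𝒴 hPY f _ (FibCat.diag (FibCat.toSelf 𝒴))
    (Iso.refl _) (surjective_of_locSurjObj iX f hf.1) hp

end Groth.Agent.H65.GerbeQC
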