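import Groth.Agent.H65.GerbeHomeo
import Groth.Agent.S10557
import Groth.Agent.S12843
import Groth.Agent.S12819

/-!
# Sections of gerbes over algebraic spaces (helper65)
-/

set_option autoImplicit false
open CategoryTheory CategoryTheory.Limits AlgebraicGeometry Opposite
universe u

namespace Groth.Agent.H65.GerbeSect

open FibCat Stk Groth.Agent.H32.FibProd Groth.Agent.H32.Fp2 Groth.Agent.H32.Fp3
  Groth.Agent.H32.Fp4 Groth.Agent.H32.SpBridge Groth.Agent.H32.PFacts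
  Groth.Agent.H32.AlgStackEquiv Groth.Agent.H32.AtlasRep Groth.Agent.H32.SpComp
  Groth.Agent.H32.StackOps Groth.Agent.H32.SectSt Groth.Agent.H32.Repr Groth.Agent.H32.SpTrack
  Groth.Agent.H32.PshFp Groth.Agent.H32.Sect Groth.Agent.H32.DiagDescent Groth.Agent.H32.Cover
  Groth.Agent.H32.DiagRep Groth.Agent.H32.GoodMore Groth.Agent.H32.DiagApps
  Groth.Agent.H65.QC Groth.Agent.H65.SpMaps Groth.Agent.H65.LocQ Groth.Agent.H65.DiagLfp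
  Groth.Agent.H65.LocQDesc Groth.Agent.H65.LocQPts Groth.Agent.H65.LocQRep
  Groth.Agent.H65.LocQCover Groth.Agent.H65.LocQIso Groth.Agent.H65.LocQBase
  Groth.Agent.H65.LocQLift Groth.Agent.H65.SmoothST Groth.Agent.H65.OverYoneda
  Groth.Agent.H32.StPoints Groth.Agent.H32.StTop Groth.Agent.H65.FieldChart
  Groth.Agent.H65.FieldMono Groth.Agent.H65.GerbeDesc Groth.Agent.H65.ClosedRed
  Groth.Agent.H65.GerbeHomeo

variable {S : Scheme.{u}} {𝒳 𝒰 : AlgSt.Cat S}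

/-- two lifts of one morphism of the base to a common target, in a category fibred in groupoids,
are related by a morphism over the identity. -/
theorem exists_hom_id_of_lifts (iX : IsFibGrpd 𝒳.p) {V W : Over S} (v : V ⟶ W) {a b c : 𝒳.obj}
    (φ : a ⟶ c) (μ : b ⟶ c) (hφ : 𝒳.p.IsHomLift v φ) (hμ : 𝒳.p.IsHomLift v μ) :
    ∃ θ : a ⟶ b, 𝒳.p.IsHomLift (𝟙 V) θ := by
  have := sc_of_isFibGrpd 𝒳.p iX v μ
  exact ⟨Functor.IsStronglyCartesian.map 𝒳.p v μ (show v = 𝟙 V ≫ v by simp) φ, inferInstance⟩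

/-- local triviality, objectwise. -/
theorem exists_cover_hom (iX : IsFibGrpd 𝒳.p) (π : 𝒳 ⥤ᵇ 𝒰)
    (hH : Gerb.LocSurjHom (QuotSh.J Scheme.fppfPrecoverage S) π) (x : 𝒰 ⥤ᵇ 𝒳)
    (e : BasedFunctor.comp x π ≅ BasedFunctor.id 𝒰) (ξ : 𝒳.obj) (W : Over S)
    (hbase : 𝒳.p.obj ξ = W) :
    ∃ R ∈ QuotSh.J Scheme.fppfPrecoverage S W, ∀ ⦃V : Over S⦄ (v : V ⟶ W), R v →
      ∀ (b : 𝒳.obj) (μ : b ⟶ ξ), 𝒳.p.IsHomLift v μ →
        ∃ t : b ⟶ x.obj (π.obj b), 𝒳.p.IsHomLift (𝟙 V) t := by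
  subst hbase
  have hb : 𝒰.p.IsHomLift (𝟙 (𝒳.p.obj ξ)) (appIso e (π.obj ξ)).inv := by
    have h1 := appIso_isHomLift e.symm (π.obj ξ)
    exact isHomLift_id_of_eq 𝒰.p (π.w_obj ξ) _ h1
  obtain ⟨R, hR, h⟩ := hH ξ (x.obj (π.obj ξ)) (appIso e (π.obj ξ)).inv hb
  refine ⟨R, hR, fun V v hv b μ hμ => ?_⟩
  obtain ⟨x₀, φ, ψ, hφ, hψ, -⟩ := h v hv
  obtain ⟨θ₁, hθ₁⟩ := exists_hom_id_of_lifts iX v φ μ hφ hμ
  have hμ2 : 𝒳.p.IsHomLift v (x.map (π.map μ)) := inferInstance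
  obtain ⟨θ₂, hθ₂⟩ := exists_hom_id_of_lifts iX v ψ (x.map (π.map μ)) hψ hμ2
  have : IsIso θ₁ := isIso_of_isFibGrpd 𝒳.p iX (𝟙 V) θ₁
  have h1 : 𝒳.p.IsHomLift (𝟙 V) (inv θ₁) := inferInstance
  exact ⟨inv θ₁ ≫ θ₂, lift_id_comp _ _ _ _ h1 hθ₂⟩

/-- **Local triviality.**  If `x` is a section of `π`, whose morphisms between images lift
locally, then every chart `w` of `𝒳` is, locally on its source, isomorphic to `x` applied to its
image under `π`. -/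
theorem exists_cover_iso (iX : IsFibGrpd 𝒳.p) (π : 𝒳 ⥤ᵇ 𝒰)
    (hH : Gerb.LocSurjHom (QuotSh.J Scheme.fppfPrecoverage S) π) (x : 𝒰 ⥤ᵇ 𝒳)
    (e : BasedFunctor.comp x π ≅ BasedFunctor.id 𝒰) {W : Over S} (w : FibCat.overCat W ⥤ᵇ 𝒳) :
    ∃ R ∈ QuotSh.J Scheme.fppfPrecoverage S W, ∀ ⦃V : Over S⦄ (v : V ⟶ W), R v →
      Nonempty (BasedFunctor.comp (AlgSt.overMap v) w ≅
        BasedFunctor.comp (BasedFunctor.comp (BasedFunctor.comp (AlgSt.overMap v) w) π) x) := by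
  obtain ⟨R, hR, h⟩ := exists_cover_hom iX π hH x e (w.obj (Groth.Agent.H32.Split.T W)) W
    (w.w_obj _)
  refine ⟨R, hR, fun V v hv => ?_⟩
  let k : (AlgSt.overMap v).obj (Groth.Agent.H32.Split.T V) ⟶ Groth.Agent.H32.Split.T W :=
    Over.homMk v (by change v ≫ 𝟙 _ = 𝟙 _ ≫ v; simp)
  have hk : (FibCat.overCat W).p.IsHomLift v k := by
    show (FibCat.overCat W).p.IsHomLift ((FibCat.overCat W).p.map k) k
    infer_instance
  have hμ : 𝒳.p.IsHomLift v (w.map k) := inferInstance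
  obtain ⟨t, ht⟩ := h v hv _ (w.map k) hμ
  exact nonempty_iso_of_app iX (BasedFunctor.comp (AlgSt.overMap v) w)
    (BasedFunctor.comp (BasedFunctor.comp (BasedFunctor.comp (AlgSt.overMap v) w) π) x) t ht

variable {𝒱 : AlgSt.Cat S}

/-- the comparison functor `𝒱 ×_𝒳 𝒱 ⟶ 𝒱 ×_𝒳 𝒰` attached to an isomorphism `a ≅ a ≫ π ≫ x`. -/
def retr (a : 𝒱 ⥤ᵇ 𝒳) (x : 𝒰 ⥤ᵇ 𝒳) (π : 𝒳 ⥤ᵇ 𝒰)
    (ε : a ≅ BasedFunctor.comp (BasedFunctor.comp a π) x) : fp a a ⥤ᵇ fp a x :=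
  FibCat.fpLift (fpFst a a) (BasedFunctor.comp (fpSnd a a) (BasedFunctor.comp a π))
    (fpIso a a ≪≫ whiskerLeftIso (fpSnd a a) ε)

theorem retr_fst (a : 𝒱 ⥤ᵇ 𝒳) (x : 𝒰 ⥤ᵇ 𝒳) (π : 𝒳 ⥤ᵇ 𝒰)
    (ε : a ≅ BasedFunctor.comp (BasedFunctor.comp a π) x) :
    BasedFunctor.comp (retr a x π ε) (fpFst a x) = fpFst a a := rfl

theorem retr_iso (a : 𝒱 ⥤ᵇ 𝒳) (x : 𝒰 ⥤ᵇ 𝒳) (π : 𝒳 ⥤ᵇ 𝒰)
    (ε : a ≅ BasedFunctor.comp (BasedFunctor.comp a π) x) (q : (fp a a).obj) :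
    ((retr a x π ε).obj q).obj.iso.hom = q.obj.iso.hom ≫ (appIso ε q.obj.snd).hom := rfl

/-- the comparison functor is essentially surjective over the identity when `x` is a section
of `π`. -/
theorem retr_essSurj (a : 𝒱 ⥤ᵇ 𝒳) (x : 𝒰 ⥤ᵇ 𝒳) (π : 𝒳 ⥤ᵇ 𝒰)
    (e : BasedFunctor.comp x π ≅ BasedFunctor.id 𝒰)
    (ε : a ≅ BasedFunctor.comp (BasedFunctor.comp a π) x) (p : (fp a x).obj) :
    ∃ (q : (fp a a).obj) (m : (retr a x π ε).obj q ⟶ p),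
      (fp a x).p.IsHomLift (𝟙 ((fp a x).p.obj p)) m := by
  have hβ : 𝒳.p.IsHomLift (𝟙 (𝒱.p.obj p.obj.fst)) p.obj.iso.hom := fp_iso_isHomLift a x p
  have hu : 𝒰.p.obj p.obj.snd = 𝒱.p.obj p.obj.fst := fp_snd_obj_eq a x p
  -- the isomorphism `π (a c) ≅ u`
  have h1 : 𝒰.p.IsHomLift (𝟙 (𝒱.p.obj p.obj.fst)) (π.map p.obj.iso.hom) := inferInstance
  have h2 : 𝒰.p.IsHomLift (𝟙 (𝒱.p.obj p.obj.fst)) (appIso e p.obj.snd).hom :=
    isHomLift_id_of_eq 𝒰.p hu _ (appIso_isHomLift e p.obj.snd)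
  obtain ⟨δ, hδdef⟩ : ∃ δ : π.obj (a.obj p.obj.fst) ≅ p.obj.snd,
      δ = π.toFunctor.mapIso p.obj.iso ≪≫ appIso e p.obj.snd := ⟨_, rfl⟩
  have hδ : 𝒰.p.IsHomLift (𝟙 (𝒱.p.obj p.obj.fst)) δ.hom := by
    rw [hδdef]; exact lift_id_comp _ _ _ _ h1 h2
  have hδ' : 𝒰.p.IsHomLift (𝟙 (𝒱.p.obj p.obj.fst)) δ.inv := by
    have : δ.inv = inv δ.hom := by simp
    rw [this]; infer_instance
  -- the automorphism of `a c`
  have h3 : 𝒳.p.IsHomLift (𝟙 (𝒱.p.obj p.obj.fst)) (x.map δ.inv) := inferInstance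
  have h4 : 𝒳.p.IsHomLift (𝟙 (𝒱.p.obj p.obj.fst)) (appIso ε p.obj.fst).inv :=
    appIso_isHomLift ε.symm p.obj.fst
  let εc : a.obj p.obj.fst ≅ x.obj (π.obj (a.obj p.obj.fst)) := appIso ε p.obj.fst
  obtain ⟨α, hαdef⟩ : ∃ α : a.obj p.obj.fst ≅ a.obj p.obj.fst,
      α = p.obj.iso ≪≫ (x.toFunctor.mapIso δ).symm ≪≫ εc.symm :=
    ⟨_, rfl⟩
  have hα : 𝒳.p.IsHomLift (𝟙 (𝒱.p.obj p.obj.fst)) α.hom := by
    rw [hαdef]
    exact lift_id_comp _ _ _ _ hβ (lift_id_comp _ _ _ _ h3 h4)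
  refine ⟨mkObj a a p.obj.fst p.obj.fst α hα, mkHom _ _ (𝟙 _) δ.hom ?_, ?_⟩
  · rw [retr_iso]
    change a.toFunctor.map (𝟙 p.obj.fst) ≫ p.obj.iso.hom =
      (α.hom ≫ εc.hom) ≫ x.toFunctor.map δ.hom
    rw [hαdef]
    simp only [Iso.trans_hom, Iso.symm_hom, Functor.mapIso_inv, Category.assoc,
      Iso.inv_hom_id_assoc, CategoryTheory.Functor.map_id, Category.id_comp]
    rw [← x.toFunctor.map_comp, Iso.inv_hom_id, x.toFunctor.map_id, Category.comp_id]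
  · rw [fp_isHomLift_iff]
    change 𝒱.p.IsHomLift (𝟙 (𝒱.p.obj p.obj.fst)) (𝟙 p.obj.fst)
    infer_instance

/-- essential surjectivity over identities. -/
def EssSurjId {𝒜 ℬ : AlgSt.Cat S} (F : 𝒜 ⥤ᵇ ℬ) : Prop :=
  ∀ y : ℬ.obj, ∃ (x : 𝒜.obj) (m : F.obj x ⟶ y), ℬ.p.IsHomLift (𝟙 (ℬ.p.obj y)) m

theorem essSurjId_comp {𝒜 ℬ 𝒞 : AlgSt.Cat S} (F : 𝒜 ⥤ᵇ ℬ) (G : ℬ ⥤ᵇ 𝒞) (hF : EssSurjId F)
    (hG : EssSurjId G) : EssSurjId (BasedFunctor.comp F G) := by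
  intro z
  obtain ⟨y, m₂, hm₂⟩ := hG z
  obtain ⟨x, m₁, hm₁⟩ := hF y
  have hy : ℬ.p.obj y = 𝒞.p.obj z := (G.w_obj y).symm.trans (IsHomLift.domain_eq 𝒞.p (𝟙 (𝒞.p.obj z)) m₂)
  have h1 : 𝒞.p.IsHomLift (𝟙 (ℬ.p.obj y)) (G.map m₁) := inferInstance
  exact ⟨x, G.map m₁ ≫ m₂, lift_id_comp _ _ _ _ (isHomLift_id_of_eq 𝒞.p hy _ h1) hm₂⟩

theorem essSurjId_of_isEquivOver {𝒜 ℬ : AlgSt.Cat S} (F : 𝒜 ⥤ᵇ ℬ) (hF : IsEquivOver F) :
    EssSurjId F := by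
  obtain ⟨F', -, ⟨κ⟩⟩ := hF
  exact fun y => ⟨F'.obj y, (appIso κ y).hom, appIso_isHomLift κ y⟩

/-- a functor between categories of presheaves which is essentially surjective over identities
induces a sectionwise surjective map of presheaves. -/
theorem surjective_pshMapOf {P Q : AlgSp.PSp S} (Φ : Stk.ofPsh P ⥤ᵇ Stk.ofPsh Q)
    (hΦ : EssSurjId Φ) (W : (Over S)ᵒᵖ) : Function.Surjective ((pshMapOf Φ).app W) := by
  intro s
  obtain ⟨b₀, M, hM⟩ := hΦ ⟨W.unop, s⟩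
  have hM' : (Stk.ofPsh Q).p.IsHomLift (𝟙 W.unop) M := hM
  have hb : b₀.base = W.unop :=
    (Φ.w_obj b₀).symm.trans (IsHomLift.domain_eq (Stk.ofPsh Q).p (𝟙 W.unop) M)
  obtain ⟨m₁, hm₁⟩ := Groth.Agent.H32.PshStack.exists_hom_of_secAs_eq
    (⟨W.unop, Groth.Agent.H32.PshStack.secAs b₀ hb⟩ : EltObj P) b₀ rfl hb
    (Groth.Agent.H32.PshFp.secAs_mk _ _ _)
  have h1 : (Stk.ofPsh Q).p.IsHomLift (𝟙 W.unop) (Φ.map m₁) :=
    (BasedFunctor.isHomLift_iff Φ _ _).mpr hm₁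
  have h2 : (Stk.ofPsh Q).p.IsHomLift (𝟙 W.unop) (Φ.map m₁ ≫ M) := lift_id_comp _ _ _ _ h1 hM'
  refine ⟨Groth.Agent.H32.PshStack.secAs b₀ hb, ?_⟩
  have := Groth.Agent.H32.PshStack.secAs_eq_of_hom (Φ.map m₁ ≫ M) h2
    (Φ.w_obj ⟨W.unop, Groth.Agent.H32.PshStack.secAs b₀ hb⟩) rfl
  exact this.trans (Groth.Agent.H32.PshFp.secAs_mk _ _ _)

/-- **Descent along a covering retraction.**  If `ℬ ⟶ 𝒜` is essentially surjective over
identities, commutes with the projections to `G`, and `ℬ ⟶ G` has `P`, then `𝒜 ⟶ G` has `P`,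
for `P` descending along surjections of sheaves. -/
theorem prop_of_essSurj (P : MorphismProperty (AlgSp.Sp S))
    (hdesc : ∀ {X Y Z : AlgSp.Space S} (g : X ⟶ Y) (h : Y ⟶ Z),
      Sheaf.IsLocallySurjective g.hom → P (g ≫ h).hom → P h.hom)
    {𝒜 ℬ : AlgSt.Cat S} (A B G : AlgSp.Space S)
    (eA : AlgSt.ofSp A.obj ⥤ᵇ 𝒜) (heA : IsEquivOver eA)
    (eB : AlgSt.ofSp B.obj ⥤ᵇ ℬ) (heB : IsEquivOver eB)
    (qA : 𝒜 ⥤ᵇ AlgSt.ofSp G.obj) (qB : ℬ ⥤ᵇ AlgSt.ofSp G.obj) (ρ : ℬ ⥤ᵇ 𝒜)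
    (hρq : BasedFunctor.comp ρ qA ≅ qB) (hρ : EssSurjId ρ)
    (hB : P (ObjectProperty.homMk (pshMapOf (BasedFunctor.comp eB qB)) : B.obj ⟶ G.obj)) :
    P (ObjectProperty.homMk (pshMapOf (BasedFunctor.comp eA qA)) : A.obj ⟶ G.obj) := by
  obtain ⟨eA', hEA', -, ⟨κ⟩⟩ := exists_inv_isEquivOver heA
  obtain ⟨Φ, hΦdef⟩ : ∃ Φ : AlgSt.ofSp B.obj ⥤ᵇ AlgSt.ofSp A.obj,
      Φ = BasedFunctor.comp (BasedFunctor.comp eB ρ) eA' := ⟨_, rfl⟩
  have hΦ : EssSurjId Φ := by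
    rw [hΦdef]
    exact essSurjId_comp _ _ (essSurjId_comp _ _ (essSurjId_of_isEquivOver eB heB) hρ)
      (essSurjId_of_isEquivOver eA' hEA')
  let g : B ⟶ A := ObjectProperty.homMk (ObjectProperty.homMk (pshMapOf Φ))
  let h : A ⟶ G := ObjectProperty.homMk (ObjectProperty.homMk
    (pshMapOf (BasedFunctor.comp eA qA)))
  have hg : Sheaf.IsLocallySurjective g.hom :=
    Presheaf.isLocallySurjective_of_surjective _ _ (fun W => surjective_pshMapOf Φ hΦ W)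
  have hcomp : (g ≫ h).hom =
      (ObjectProperty.homMk (pshMapOf (BasedFunctor.comp eB qB)) : B.obj ⟶ G.obj) := by
    apply ObjectProperty.hom_ext
    change pshMapOf Φ ≫ pshMapOf (BasedFunctor.comp eA qA) = pshMapOf (BasedFunctor.comp eB qB)
    rw [← pshMapOf_comp, hΦdef]
    apply pshMapOf_congr
    exact (whiskerLeftIso (BasedFunctor.comp eB ρ) (whiskerRightIso κ qA) ≪≫
      whiskerLeftIso eB hρq).hom
  have := hdesc g h hg (by rw [hcomp]; exact hB)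
  exact this

/-- if `x` is a section of `π` and the chart `a` (from an algebraic space) is isomorphic to
`a ≫ π ≫ x` and has `P`, then the projection `V ×_𝒳 𝒰 ⟶ V` has `P`. -/
theorem prop_fp_of_section (P : MorphismProperty (AlgSp.Sp S))
    (hdesc : ∀ {X Y Z : AlgSp.Space S} (g : X ⟶ Y) (h : Y ⟶ Z),
      Sheaf.IsLocallySurjective g.hom → P (g ≫ h).hom → P h.hom)
    (hP : AlgSp.IsLocalOnBase AlgSp.IsFppfCover P) (iX : IsFibGrpd 𝒳.p)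
    (V : AlgSp.Space S) (a : AlgSt.ofSp V.obj ⥤ᵇ 𝒳) (ha : AlgSt.RepByAlgSpWith P a)
    (x : 𝒰 ⥤ᵇ 𝒳) (π : 𝒳 ⥤ᵇ 𝒰) (e : BasedFunctor.comp x π ≅ BasedFunctor.id 𝒰)
    (ε : a ≅ BasedFunctor.comp (BasedFunctor.comp a π) x)
    (A : AlgSp.Space S) (eA : AlgSt.ofSp A.obj ⥤ᵇ fp a x) (heA : IsEquivOver eA) :
    P (ObjectProperty.homMk (pshMapOf (BasedFunctor.comp eA (fpFst a x))) : A.obj ⟶ V.obj) := by
  obtain ⟨B, eB, heB⟩ := Groth.Agent.H32.SpBoot.repByAlgSp_fp_ofSp (ofSp_isFibGrpd V.obj) iX V a a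
    (rep1_of_with ha)
  have hB := P_baseChange P hP a ha V B a eB heB
  exact prop_of_essSurj P hdesc A B V eA heA eB heB (fpFst a x) (fpFst a a) (retr a x π ε)
    (Iso.refl _) (retr_essSurj a x π e ε) hB

/-- **Stage 1.**  For a section `x` of `π` (whose morphisms between images lift locally) and a
chart `w` of `𝒳` with `P`, the projection `W ×_𝒳 𝒰 ⟶ W` has `P`. -/
theorem prop_fp_chart (P : MorphismProperty (AlgSp.Sp S)) (hG : Good P)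
    (hdesc : ∀ {X Y Z : AlgSp.Space S} (g : X ⟶ Y) (h : Y ⟶ Z),
      Sheaf.IsLocallySurjective g.hom → P (g ≫ h).hom → P h.hom)
    (hfppf : ∀ ⦃X Y : AlgSp.Sp S⦄ (a : X ⟶ Y), AlgSp.LocP @Flat a →
      AlgSp.LocP @LocallyOfFinitePresentation a → P a)
    (iX : IsFibGrpd 𝒳.p) (iU : IsFibGrpd 𝒰.p) (π : 𝒳 ⥤ᵇ 𝒰)
    (hH : Gerb.LocSurjHom (QuotSh.J Scheme.fppfPrecoverage S) π) (x : 𝒰 ⥤ᵇ 𝒳)
    (e : BasedFunctor.comp x π ≅ BasedFunctor.id 𝒰) (hx : AlgSt.RepByAlgSp1 x)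
    {W : Over S} (w : FibCat.overCat W ⥤ᵇ 𝒳) (hw : AlgSt.RepByAlgSpWith P w)
    (F : AlgSp.Space S) (eF : AlgSt.ofSp F.obj ⥤ᵇ fp w x) (heF : IsEquivOver eF) :
    P (AlgSt.spMapOfOver (BasedFunctor.comp eF (fpFst w x))) := by
  obtain ⟨R, hR, hiso⟩ := exists_cover_iso iX π hH x e w
  obtain ⟨V, v, hv, hcov⟩ := Groth.Agent.H32.AtlasCover.exists_family_of_mem_J hR
  have iW : IsFibGrpd (AlgSt.ofSp ((AlgSp.yon S).obj W)).p := ofSp_isFibGrpd _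
  have hw' : AlgSt.RepByAlgSpWith P (BasedFunctor.comp (AlgSt.toOverCat W) w) :=
    with_precomp_equiv P iW (Groth.Agent.S6411.over_isFibGrpd W) iX (AlgSt.toOverCat W)
      (toOverCat_isEquivOver W) w hw
  have ha : ∀ τ, AlgSt.RepByAlgSpWith P (BasedFunctor.comp
      (Stk.ofPshMap ((AlgSp.yon S).map (v τ)).hom) (BasedFunctor.comp (AlgSt.toOverCat W) w)) := by
    intro τ
    refine with_comp hG (ofSp_isFibGrpd _) iW iX _ _ ?_ hw'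
    exact with_ofPshMap_of_prop P hG.bc ⟨(AlgSp.yon S).obj (V τ), AlgSp.IsAlgSpace.yon_obj (V τ)⟩
      ⟨(AlgSp.yon S).obj W, AlgSp.IsAlgSpace.yon_obj W⟩ ((AlgSp.yon S).map (v τ))
      (hfppf _ (hcov.1 τ).1 (hcov.1 τ).2)
  have hrep : ∀ τ, AlgSt.RepByAlgSp (fp (BasedFunctor.comp
      (Stk.ofPshMap ((AlgSp.yon S).map (v τ)).hom) (BasedFunctor.comp (AlgSt.toOverCat W) w)) x) :=
    fun τ => Groth.Agent.H32.SpBoot.repByAlgSp_fp_ofSp iU iX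
      ⟨(AlgSp.yon S).obj (V τ), AlgSp.IsAlgSpace.yon_obj (V τ)⟩ _ x hx
  choose Fi ei hei using hrep
  refine P_of_cover P hG.loc x W w F eF heF
    (fun τ => ⟨(AlgSp.yon S).obj (V τ), AlgSp.IsAlgSpace.yon_obj (V τ)⟩)
    (fun τ => (AlgSp.yon S).map (v τ)) hcov Fi ei hei (fun τ => ?_)
  obtain ⟨ε⟩ := hiso (v τ) (hv τ)
  exact prop_fp_of_section P hdesc hG.loc iX
    ⟨(AlgSp.yon S).obj (V τ), AlgSp.IsAlgSpace.yon_obj (V τ)⟩ _ (ha τ) x π e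
    (whiskerLeftIso (AlgSt.toOverCat (V τ)) ε) (Fi τ) (ei τ) (hei τ)

/-- a 1-morphism `𝒵 ⟶ (Sch/W)` whose source is represented by an algebraic space with `P`
(stable under base change) is representable with `P`. -/
theorem with_of_prop_spMapOfOver (P : MorphismProperty (AlgSp.Sp S)) (hG : Good P)
    {𝒵 : AlgSt.Cat S} (iZ : IsFibGrpd 𝒵.p) {W : Over S} (q : 𝒵 ⥤ᵇ FibCat.overCat W)
    (F : AlgSp.Space S) (eF : AlgSt.ofSp F.obj ⥤ᵇ 𝒵) (heF : IsEquivOver eF)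
    (h0 : P (AlgSt.spMapOfOver (BasedFunctor.comp eF q))) : AlgSt.RepByAlgSpWith P q := by
  have iF : IsFibGrpd (AlgSt.ofSp F.obj).p := ofSp_isFibGrpd _
  have iW := Groth.Agent.S6411.over_isFibGrpd W
  have iW' : IsFibGrpd (AlgSt.ofSp ((AlgSp.yon S).obj W)).p := ofSp_isFibGrpd _
  have h1 : AlgSt.RepByAlgSpWith P
      (Stk.ofPshMap (AlgSt.spMapOfOver (BasedFunctor.comp eF q)).hom) :=
    with_ofPshMap_of_prop P hG.bc F ⟨(AlgSp.yon S).obj W, AlgSp.IsAlgSpace.yon_obj W⟩ _ h0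
  obtain ⟨iso1⟩ : Nonempty (Stk.ofPshMap (AlgSt.spMapOfOver (BasedFunctor.comp eF q)).hom ≅
      BasedFunctor.comp (BasedFunctor.comp eF q) (AlgSt.ofOverCat W)) := by
    rw [spMapOfOver_hom]
    exact ofPshMap_pshMapOf _
  have h2 : AlgSt.RepByAlgSpWith P
      (BasedFunctor.comp (BasedFunctor.comp eF q) (AlgSt.ofOverCat W)) :=
    with_of_iso P iF iW' iso1.symm h1
  have h3 : AlgSt.RepByAlgSpWith P (BasedFunctor.comp eF q) :=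
    (with_postcomp_equiv P iF iW iW' (BasedFunctor.comp eF q) (AlgSt.ofOverCat W)
      (ofOverCat_isEquivOver W)).mp h2
  obtain ⟨eF', heF', -, ⟨κ⟩⟩ := exists_inv_isEquivOver heF
  have h4 : AlgSt.RepByAlgSpWith P (BasedFunctor.comp eF' (BasedFunctor.comp eF q)) :=
    with_precomp_equiv P iZ iF iW eF' heF' _ h3
  exact with_of_iso P iZ iW (whiskerRightIso κ q).symm h4

/-- **Stage 2.**  A section `x` of `π` (whose morphisms between images lift locally) from an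
algebraic stack `𝒰` to an algebraic stack `𝒳` is representable with `P`, for `P` among flat,
locally of finite presentation (any good `P` implied by smooth and by flat + lfp which descends
along surjections of sheaves). -/
theorem with_gerbe_section (P : MorphismProperty (AlgSp.Sp S)) (hG : Good P)
    (hdesc : ∀ {X Y Z : AlgSp.Space S} (g : X ⟶ Y) (h : Y ⟶ Z),
      Sheaf.IsLocallySurjective g.hom → P (g ≫ h).hom → P h.hom)
    (hfppf : ∀ ⦃X Y : AlgSp.Sp S⦄ (a : X ⟶ Y), AlgSp.LocP @Flat a →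
      AlgSp.LocP @LocallyOfFinitePresentation a → P a)
    (h𝒳 : AlgSt.IsAlgStack Scheme.fppfPrecoverage 𝒳)
    (h𝒰 : AlgSt.IsAlgStack Scheme.fppfPrecoverage 𝒰) (π : 𝒳 ⥤ᵇ 𝒰)
    (hH : Gerb.LocSurjHom (QuotSh.J Scheme.fppfPrecoverage S) π) (x : 𝒰 ⥤ᵇ 𝒳)
    (e : BasedFunctor.comp x π ≅ BasedFunctor.id 𝒰) (hx : AlgSt.RepByAlgSp1 x) :
    AlgSt.RepByAlgSpWith P x := by
  have iX := h𝒳.isStack.1
  have iU := h𝒰.isStack.1
  obtain ⟨W, w, hw1, hw2⟩ := h𝒳.atlas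
  have iW := Groth.Agent.S6411.over_isFibGrpd W
  have hwfl : AlgSt.RepByAlgSpWith (AlgSp.LocP @Flat) w := with_imp flat_of_smooth hw1
  have hwfp : AlgSt.RepByAlgSpWith (AlgSp.LocP @LocallyOfFinitePresentation) w :=
    with_imp lfp_of_smooth hw1
  have hwP : AlgSt.RepByAlgSpWith P w :=
    with_imp (fun X Y a ha => hfppf a (flat_of_smooth a ha) (lfp_of_smooth a ha)) hw1
  refine (Groth.Agent.S12843.result h𝒰 h𝒳 (Groth.Agent.H65.LocQ.isAlgStack_overCat W) P hG.bc hG.loc x hx w hwfl hwfp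
    hw2).mpr ?_
  obtain ⟨F, eF, heF⟩ := hx W w
  exact with_of_prop_spMapOfOver P hG (fp_isFibGrpd _ _ iW iU iX) (fpFst w x) F eF heF
    (prop_fp_chart P hG hdesc hfppf iX iU π hH x e hx w hwP F eF heF)

/-- every 1-morphism from an algebraic space to an algebraic stack is representable by algebraic
spaces. -/
theorem rep1_ofSp (h𝒳 : AlgSt.IsAlgStack Scheme.fppfPrecoverage 𝒳) (U : AlgSp.Space S)
    (x : AlgSt.ofSp U.obj ⥤ᵇ 𝒳) : AlgSt.RepByAlgSp1 x := by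
  intro T t
  have h1 := Groth.Agent.H32.SpBoot.repByAlgSp_fp_ofSp (Groth.Agent.S6411.over_isFibGrpd T)
    h𝒳.isStack.1 U x t (rep1_chart h𝒳 t)
  exact repByAlgSp_of_equiv (swap x t) (swap_isEquivOver x t) h1

/-- a section of a functor whose morphisms between images lift locally is surjective on points. -/
theorem isSurjective_section (iX : IsFibGrpd 𝒳.p) (iU : IsFibGrpd 𝒰.p) (π : 𝒳 ⥤ᵇ 𝒰)
    (hH : Gerb.LocSurjHom (QuotSh.J Scheme.fppfPrecoverage S) π) (x : 𝒰 ⥤ᵇ 𝒳)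
    (e : BasedFunctor.comp x π ≅ BasedFunctor.id 𝒰) : AlgSt.IsSurjective x := by
  intro r
  refine ⟨AlgSt.Points.map π r, injective_of_locSurjHom iX iU π hH ?_⟩
  rw [← Groth.Agent.H32.StPoints.map_comp, Groth.Agent.H32.StPoints.map_congr e,
    Groth.Agent.H32.StPoints.map_id]

/-- **A section of a gerbe over an algebraic space is flat, locally of finite presentation and
surjective.** -/
theorem section_flat_lfp_surjective (h𝒳 : AlgSt.IsAlgStack Scheme.fppfPrecoverage 𝒳)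
    (U : AlgSp.Space S) (π : 𝒳 ⥤ᵇ AlgSt.ofSp U.obj)
    (hH : Gerb.LocSurjHom (QuotSh.J Scheme.fppfPrecoverage S) π)
    (x : AlgSt.ofSp U.obj ⥤ᵇ 𝒳)
    (e : BasedFunctor.comp x π ≅ BasedFunctor.id (AlgSt.ofSp U.obj)) :
    AlgSt.RepByAlgSpWith (AlgSp.LocP @Flat) x ∧
      AlgSt.RepByAlgSpWith (AlgSp.LocP @LocallyOfFinitePresentation) x ∧
      AlgSt.RepByAlgSpWith AlgSp.IsSurjectiveMor x := by
  have h𝒰 := isAlgStack_ofSp U
  have hx := rep1_ofSp h𝒳 U x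
  refine ⟨?_, ?_, ?_⟩
  · exact with_gerbe_section _ good_flat
      (fun g h hg => (Groth.Agent.S10557.result g h hg).1) (fun _ _ _ h _ => h) h𝒳 h𝒰 π hH x e hx
  · exact with_gerbe_section _ good_lfp
      (fun g h hg => (Groth.Agent.S10557.result g h hg).2.2) (fun _ _ _ _ h => h) h𝒳 h𝒰 π hH x e hx
  · exact (Groth.Agent.S12819.result h𝒰 h𝒳 x hx).mp
      (isSurjective_section h𝒳.isStack.1 h𝒰.isStack.1 π hH x e)

end Groth.Agent.H65.GerbeSect
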