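import Groth.Agent.H65.GerbeFlat
import Groth.Agent.H32.CompMap
import Groth.Agent.H32.SmLocus
import Groth.Agent.H51.LocSurj
import Groth.Agent.H49.FppfSource

/-!
# Gerbes are smooth (helper65)
-/

set_option autoImplicit false
open CategoryTheory CategoryTheory.Limits AlgebraicGeometry Opposite
universe u

namespace Groth.Agent.H65.GerbeSmooth

open FibCat Stk Groth.Agent.H32.FibProd Groth.Agent.H32.Fp2 Groth.Agent.H32.Fp3
  Groth.Agent.H32.Fp4 Groth.Agent.H32.SpBridge Groth.Agent.H32.PFacts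
  Groth.Agent.H32.AlgStackEquiv Groth.Agent.H32.AtlasRep Groth.Agent.H32.SpComp
  Groth.Agent.H32.StackOps Groth.Agent.H32.SectSt Groth.Agent.H32.Repr Groth.Agent.H32.SpTrack
  Groth.Agent.H32.PshFp Groth.Agent.H32.Sect Groth.Agent.H32.DiagDescent Groth.Agent.H32.Cover
  Groth.Agent.H32.DiagRep Groth.Agent.H32.GoodMore Groth.Agent.H32.DiagApps
  Groth.Agent.H65.QC Groth.Agent.H65.SpMaps Groth.Agent.H65.LocQ Groth.Agent.H65.DiagLfp
  Groth.Agent.H65.LocQDesc Groth.Agent.H65.LocQPts Groth.Agent.H65.LocQRep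
  Groth.Agent.H65.LocQCover Groth.Agent.H65.LocQIso Groth.Agent.H65.LocQBase
  Groth.Agent.H65.LocQLift Groth.Agent.H65.SmoothST Groth.Agent.H65.OverYoneda
  Groth.Agent.H32.StPoints Groth.Agent.H32.StTop Groth.Agent.H65.FieldChart
  Groth.Agent.H65.FieldMono Groth.Agent.H65.GerbeDesc Groth.Agent.H65.ClosedRed
  Groth.Agent.H65.GerbeHomeo Groth.Agent.H65.GerbeSect Groth.Agent.H65.GerbeFlat

variable {S : Scheme.{u}} {𝒳 𝒴 : AlgSt.Cat S}

/-- smoothness descends along surjective flat maps of algebraic spaces locally of finite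
presentation. -/
theorem locP_smooth_of_comp {X Y Z : AlgSp.Space S} (g : X ⟶ Y) (h : Y ⟶ Z)
    (hg : Sheaf.IsLocallySurjective g.hom) (hfl : AlgSp.LocP @Flat g.hom)
    (hfp : AlgSp.LocP @LocallyOfFinitePresentation g.hom)
    (hP : AlgSp.LocP @Smooth (g ≫ h).hom) : AlgSp.LocP @Smooth h.hom := by
  intro V W a b k ha hb comm
  obtain ⟨U, a', f', ha', hcomm, Ui, s, -, -, hsurj⟩ :=
    Groth.Agent.H51.exists_local_sections X.property Y.property g.hom hg a ha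
  have h1 : Smooth (f' ≫ k).left := hP a' b (f' ≫ k) ha' hb (by
    change a' ≫ g.hom ≫ h.hom = _
    rw [← Category.assoc, hcomm, Category.assoc, comm, Functor.map_comp, Category.assoc])
  have h2 : Flat f'.left := hfl a' a f' ha' ha hcomm
  have h3 : LocallyOfFinitePresentation f'.left := hfp a' a f' ha' ha hcomm
  have hs : ∀ v : ↥V.left, ∃ _ : Unit, v ∈ Set.range f'.left := fun v => by
    obtain ⟨x, hx⟩ := hsurj v
    exact ⟨(), (s v).left x, by simpa using hx⟩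
  exact Groth.Agent.H49.FppfSource.smooth_of_comp_of_fppf_family (fun _ : Unit => f'.left) k.left
    (fun _ => h2) (fun _ => h3) hs (fun _ => by simpa using h1)

section chain

variable {𝒜 ℬ : AlgSt.Cat S}

/-- **Descent along a flat covering functor locally of finite presentation.** -/
theorem prop_of_locSurj' (P : MorphismProperty (AlgSp.Sp S))
    (hdesc : ∀ {X Y Z : AlgSp.Space S} (g : X ⟶ Y) (h : Y ⟶ Z),
      Sheaf.IsLocallySurjective g.hom → AlgSp.LocP @Flat g.hom →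
      AlgSp.LocP @LocallyOfFinitePresentation g.hom → P (g ≫ h).hom → P h.hom)
    (iA : IsFibGrpd 𝒜.p) (iB : IsFibGrpd ℬ.p) (A B G : AlgSp.Space S)
    (eA : AlgSt.ofSp A.obj ⥤ᵇ 𝒜) (heA : IsEquivOver eA)
    (eB : AlgSt.ofSp B.obj ⥤ᵇ ℬ) (heB : IsEquivOver eB)
    (qA : 𝒜 ⥤ᵇ AlgSt.ofSp G.obj) (qB : ℬ ⥤ᵇ AlgSt.ofSp G.obj) (ρ : ℬ ⥤ᵇ 𝒜)
    (hρq : BasedFunctor.comp ρ qA ≅ qB)
    (hρ : Gerb.LocSurjObj (QuotSh.J Scheme.fppfPrecoverage S) ρ)
    (hρ1 : AlgSt.RepByAlgSpWith (AlgSp.LocP @Flat) ρ)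
    (hρ2 : AlgSt.RepByAlgSpWith (AlgSp.LocP @LocallyOfFinitePresentation) ρ)
    (hB : P (ObjectProperty.homMk (pshMapOf (BasedFunctor.comp eB qB)) : B.obj ⟶ G.obj)) :
    P (ObjectProperty.homMk (pshMapOf (BasedFunctor.comp eA qA)) : A.obj ⟶ G.obj) := by
  obtain ⟨eA', hEA', -, ⟨κ⟩⟩ := exists_inv_isEquivOver heA
  obtain ⟨Φ, hΦdef⟩ : ∃ Φ : AlgSt.ofSp B.obj ⥤ᵇ AlgSt.ofSp A.obj,
      Φ = BasedFunctor.comp (BasedFunctor.comp eB ρ) eA' := ⟨_, rfl⟩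
  have hΦ : Gerb.LocSurjObj (QuotSh.J Scheme.fppfPrecoverage S) Φ := by
    rw [hΦdef]
    refine locSurjObj_comp _ _ (locSurjObj_comp _ _
      (locSurjObj_of_essSurjId (ofSp_isFibGrpd _) eB (essSurjId_of_isEquivOver eB heB)) hρ) ?_
    exact locSurjObj_of_essSurjId iA eA'
      (essSurjId_of_isEquivOver eA' hEA')
  have eΦ : BasedFunctor.comp Φ eA ≅ BasedFunctor.comp eB ρ := by
    rw [hΦdef]
    exact whiskerLeftIso (BasedFunctor.comp eB ρ) κ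
  have hΦ1 : AlgSt.RepByAlgSpWith (AlgSp.LocP @Flat) Φ :=
    (Groth.Agent.S12782.result iB iA (ofSp_isFibGrpd _) (ofSp_isFibGrpd _) _ ρ Φ eB eA heB heA
      eΦ).mp hρ1
  have hΦ2 : AlgSt.RepByAlgSpWith (AlgSp.LocP @LocallyOfFinitePresentation) Φ :=
    (Groth.Agent.S12782.result iB iA (ofSp_isFibGrpd _) (ofSp_isFibGrpd _) _ ρ Φ eB eA heB heA
      eΦ).mp hρ2
  let g : B ⟶ A := ObjectProperty.homMk (ObjectProperty.homMk (pshMapOf Φ))
  let h : A ⟶ G := ObjectProperty.homMk (ObjectProperty.homMk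
    (pshMapOf (BasedFunctor.comp eA qA)))
  have hg : Sheaf.IsLocallySurjective g.hom := locSurj_pshMapOf Φ hΦ
  have hg1 : AlgSp.LocP @Flat g.hom := prop_pshMapOf _ good_flat.loc B A Φ hΦ1
  have hg2 : AlgSp.LocP @LocallyOfFinitePresentation g.hom :=
    prop_pshMapOf _ good_lfp.loc B A Φ hΦ2
  have hcomp : (g ≫ h).hom =
      (ObjectProperty.homMk (pshMapOf (BasedFunctor.comp eB qB)) : B.obj ⟶ G.obj) := by
    apply ObjectProperty.hom_ext
    change pshMapOf Φ ≫ pshMapOf (BasedFunctor.comp eA qA) = pshMapOf (BasedFunctor.comp eB qB)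
    rw [← pshMapOf_comp, hΦdef]
    apply pshMapOf_congr
    exact (whiskerLeftIso (BasedFunctor.comp eB ρ) (whiskerRightIso κ qA) ≪≫
      whiskerLeftIso eB hρq).hom
  have := hdesc g h hg hg1 hg2 (by rw [hcomp]; exact hB)
  exact this

/-- if the chart `a` of `𝒴` lifts to `β` of `𝒳`, the diagonal of `f` is flat and locally of finite
presentation, `f` has morphisms between images lifting locally and `w` has `P`, then the projection
`V ×_𝒴 𝒲 ⟶ V` has `P`. -/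
theorem prop_fp_of_lift' (P : MorphismProperty (AlgSp.Sp S))
    (hdesc : ∀ {X Y Z : AlgSp.Space S} (g : X ⟶ Y) (h : Y ⟶ Z),
      Sheaf.IsLocallySurjective g.hom → AlgSp.LocP @Flat g.hom →
      AlgSp.LocP @LocallyOfFinitePresentation g.hom → P (g ≫ h).hom → P h.hom)
    (hP : AlgSp.IsLocalOnBase AlgSp.IsFppfCover P) (iX : IsFibGrpd 𝒳.p) (iY : IsFibGrpd 𝒴.p)
    (f : 𝒳 ⥤ᵇ 𝒴) (hH : Gerb.LocSurjHom (QuotSh.J Scheme.fppfPrecoverage S) f)
    (hΔ1 : AlgSt.RepByAlgSpWith (AlgSp.LocP @Flat) (FibCat.diag f))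
    (hΔ2 : AlgSt.RepByAlgSpWith (AlgSp.LocP @LocallyOfFinitePresentation) (FibCat.diag f))
    {𝒲 : AlgSt.Cat S} (iW : IsFibGrpd 𝒲.p) (w : 𝒲 ⥤ᵇ 𝒳) (hw : AlgSt.RepByAlgSpWith P w)
    (V : AlgSp.Space S) (a : AlgSt.ofSp V.obj ⥤ᵇ 𝒴) (β : AlgSt.ofSp V.obj ⥤ᵇ 𝒳)
    (ε : a ≅ BasedFunctor.comp β f) (A : AlgSp.Space S)
    (eA : AlgSt.ofSp A.obj ⥤ᵇ fp a (BasedFunctor.comp w f)) (heA : IsEquivOver eA) :
    P (ObjectProperty.homMk (pshMapOf (BasedFunctor.comp eA (fpFst a (BasedFunctor.comp w f)))) :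
      A.obj ⟶ V.obj) := by
  obtain ⟨B, eB, heB⟩ := Groth.Agent.H32.SpBoot.repByAlgSp_fp_ofSp iW iX V β w (rep1_of_with hw)
  have hB := P_baseChange P hP w hw V B β eB heB
  have iV : IsFibGrpd (AlgSt.ofSp V.obj).p := ofSp_isFibGrpd V.obj
  have hρ1 : AlgSt.RepByAlgSpWith (AlgSp.LocP @Flat) (diagBC β w f) :=
    Groth.Agent.H32.CompMap.with_compMap β w f (whiskerRightIso (fpIso β w) f) (fun _ => rfl) _
      iV iW iX iY hΔ1
  have hρ2 : AlgSt.RepByAlgSpWith (AlgSp.LocP @LocallyOfFinitePresentation) (diagBC β w f) :=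
    Groth.Agent.H32.CompMap.with_compMap β w f (whiskerRightIso (fpIso β w) f) (fun _ => rfl) _
      iV iW iX iY hΔ2
  exact prop_of_locSurj' P hdesc (fp_isFibGrpd _ _ iV iW iY) (fp_isFibGrpd _ _ iV iW iX) A B V
    (BasedFunctor.comp eA (congrLeft ε (BasedFunctor.comp w f)))
    (isEquivOver_comp _ _ heA (congrLeft_isEquivOver ε _)) eB heB
    (fpFst (BasedFunctor.comp β f) (BasedFunctor.comp w f)) (fpFst β w) (diagBC β w f) (Iso.refl _)
    (diagBC_locSurjObj iV iW iX iY β w f hH) hρ1 hρ2 hB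

/-- **A chart of a gerbe composed with the gerbe is representable with `P`** (for `P` descending
along surjective flat maps locally of finite presentation). -/
theorem with_chart_gerbe' (P : MorphismProperty (AlgSp.Sp S)) (hG : Good P)
    (hdesc : ∀ {X Y Z : AlgSp.Space S} (g : X ⟶ Y) (h : Y ⟶ Z),
      Sheaf.IsLocallySurjective g.hom → AlgSp.LocP @Flat g.hom →
      AlgSp.LocP @LocallyOfFinitePresentation g.hom → P (g ≫ h).hom → P h.hom)
    (h𝒳 : AlgSt.IsAlgStack Scheme.fppfPrecoverage 𝒳)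
    (h𝒴 : AlgSt.IsAlgStack Scheme.fppfPrecoverage 𝒴) (f : 𝒳 ⥤ᵇ 𝒴)
    (hf : Gerb.IsGerbeOver (QuotSh.J Scheme.fppfPrecoverage S) f)
    {W : Over S} (w : FibCat.overCat W ⥤ᵇ 𝒳) (hw : AlgSt.RepByAlgSpWith P w) :
    AlgSt.RepByAlgSpWith P (BasedFunctor.comp w f) := by
  have iX := h𝒳.isStack.1
  have iY := h𝒴.isStack.1
  have iW := Groth.Agent.S6411.over_isFibGrpd W
  obtain ⟨hΔ1, hΔ2, -⟩ := diag_with h𝒳 h𝒴 f hf
  have hz1 : AlgSt.RepByAlgSp1 (BasedFunctor.comp w f) := rep1_chart h𝒴 _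
  intro T t
  obtain ⟨F, eF, heF⟩ := hz1 T t
  refine ⟨F, eF, heF, ?_⟩
  obtain ⟨R, hR, hlift⟩ := exists_cover_lift iX iY f hf.1 t
  obtain ⟨V, v, hv, hcov⟩ := Groth.Agent.H32.AtlasCover.exists_family_of_mem_J hR
  have hrep : ∀ τ, AlgSt.RepByAlgSp (fp (BasedFunctor.comp
      (Stk.ofPshMap ((AlgSp.yon S).map (v τ)).hom) (BasedFunctor.comp (AlgSt.toOverCat T) t))
      (BasedFunctor.comp w f)) :=
    fun τ => Groth.Agent.H32.SpBoot.repByAlgSp_fp_ofSp iW iY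
      ⟨(AlgSp.yon S).obj (V τ), AlgSp.IsAlgSpace.yon_obj (V τ)⟩ _ (BasedFunctor.comp w f) hz1
  choose Fi ei hei using hrep
  refine P_of_cover P hG.loc (BasedFunctor.comp w f) T t F eF heF
    (fun τ => ⟨(AlgSp.yon S).obj (V τ), AlgSp.IsAlgSpace.yon_obj (V τ)⟩)
    (fun τ => (AlgSp.yon S).map (v τ)) hcov Fi ei hei (fun τ => ?_)
  obtain ⟨b, ⟨ε⟩⟩ := hlift (v τ) (hv τ)
  exact prop_fp_of_lift' P hdesc hG.loc iX iY f hf.2 hΔ1 hΔ2 iW w hw
    ⟨(AlgSp.yon S).obj (V τ), AlgSp.IsAlgSpace.yon_obj (V τ)⟩ _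
    (BasedFunctor.comp (AlgSt.toOverCat (V τ)) b)
    (whiskerLeftIso (AlgSt.toOverCat (V τ)) ε) (Fi τ) (ei τ) (hei τ)

/-- **A gerbe has every good smooth-local property implied by smoothness which descends along
surjective flat maps locally of finite presentation.** -/
theorem locQ_of_gerbe' (P : MorphismProperty (AlgSp.Sp S)) (hP : AlgSp.IsSmoothLocalST P)
    (hG : Good P)
    (hdesc : ∀ {X Y Z : AlgSp.Space S} (g : X ⟶ Y) (h : Y ⟶ Z),
      Sheaf.IsLocallySurjective g.hom → AlgSp.LocP @Flat g.hom →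
      AlgSp.LocP @LocallyOfFinitePresentation g.hom → P (g ≫ h).hom → P h.hom)
    (hsm : ∀ ⦃X Y : AlgSp.Sp S⦄ (a : X ⟶ Y), AlgSp.LocP @Smooth a → P a)
    (h𝒳 : AlgSt.IsAlgStack Scheme.fppfPrecoverage 𝒳)
    (h𝒴 : AlgSt.IsAlgStack Scheme.fppfPrecoverage 𝒴) (f : 𝒳 ⥤ᵇ 𝒴)
    (hf : Gerb.IsGerbeOver (QuotSh.J Scheme.fppfPrecoverage S) f) : AlgSt.LocQ P f := by
  have iX := h𝒳.isStack.1
  obtain ⟨W, w, hw1, hw2⟩ := h𝒳.atlas
  have iW := Groth.Agent.S6411.over_isFibGrpd W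
  have hz := with_chart_gerbe' P hG hdesc h𝒳 h𝒴 f hf w (with_imp hsm hw1)
  have hz1 : AlgSt.RepByAlgSp1 (BasedFunctor.comp w f) := rep1_chart h𝒴 _
  obtain ⟨U, V, x', y, h, α, hx1, hx2, hy, hPh⟩ :=
    (Groth.Agent.S12993.result S P hP hG.bc hG.loc (FibCat.overCat W) 𝒴 (Groth.Agent.H65.LocQ.isAlgStack_overCat W) h𝒴
      _ hz1).mpr hz
  have iU := Groth.Agent.S6411.over_isFibGrpd U
  exact ⟨U, V, BasedFunctor.comp x' w, y, h, α, with_comp good_smooth iU iW iX x' w hx1 hw1,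
    with_comp good_surjective iU iW iX x' w hx2 hw2, hy, hPh⟩

/-- **A gerbe is smooth.** -/
theorem locQ_smooth_of_gerbe (h𝒳 : AlgSt.IsAlgStack Scheme.fppfPrecoverage 𝒳)
    (h𝒴 : AlgSt.IsAlgStack Scheme.fppfPrecoverage 𝒴) (f : 𝒳 ⥤ᵇ 𝒴)
    (hf : Gerb.IsGerbeOver (QuotSh.J Scheme.fppfPrecoverage S) f) :
    AlgSt.LocQ (AlgSp.LocP @Smooth) f :=
  locQ_of_gerbe' _ Groth.Agent.H32.SmLocus.isSmoothLocalST_smooth good_smooth
    (fun g h hg h1 h2 h3 => locP_smooth_of_comp g h hg h1 h2 h3) (fun _ _ _ h => h) h𝒳 h𝒴 f hf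

end chain

end Groth.Agent.H65.GerbeSmooth
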