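import Groth.Prelude.Def_HRes
import Groth.Agent.H65.ExtNat

/-!
# Coherence of `HRes.pullConst` with `overMapPullbackId` / `overMapPullbackComp`
and the identity / composition laws of `HRes.pull`.
-/

namespace Groth.Agent.H65.HResCoh

open CategoryTheory CategoryTheory.Limits AlgebraicGeometry Opposite Abelian

universe u

variable (K : Precoverage Scheme.{u})

theorem pullConst_inv_id (S : Scheme.{u}) (M : AddCommGrpCat.{u + 1}) :
    (HRes.pullConst K (𝟙 S) M).inv ≫
      (K.toGrothendieck.overMapPullbackId AddCommGrpCat.{u + 1} S).hom.app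
        ((constantSheaf (QuotSh.J K S) AddCommGrpCat.{u + 1}).obj M) = 𝟙 _ := by
  apply Sheaf.hom_ext
  refine sheafify_hom_ext _ _ _ ((constantSheaf (QuotSh.J K S) AddCommGrpCat.{u + 1}).obj M).property ?_
  have h1 := (Over.map (𝟙 S)).toSheafify_pullbackSheafificationCompatibility AddCommGrpCat.{u + 1}
    (QuotSh.J K S) (QuotSh.J K S) ((Functor.const _).obj M)
  have h2 : toSheafify (QuotSh.J K S) ((Functor.const (Over S)ᵒᵖ).obj M) ≫
      (HRes.pullConst K (𝟙 S) M).inv.hom =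
      (Over.map (𝟙 S)).op.whiskerLeft
        (toSheafify (QuotSh.J K S) ((Functor.const (Over S)ᵒᵖ).obj M)) := h1
  have h3 : ∀ {P Q R T : (Over S)ᵒᵖ ⥤ AddCommGrpCat.{u + 1}} (a : P ⟶ Q) (b : Q ⟶ R) (c : R ⟶ T)
      (d : P ⟶ R) (_ : a ≫ b = d) (e : P ⟶ T) (_ : d ≫ c = e), a ≫ (b ≫ c) = e := by
    intros; subst_vars; simp
  refine h3 _ _ _ _ h2 _ ?_
  apply NatTrans.ext
  funext U
  have h4 := (toSheafify (QuotSh.J K S) ((Functor.const (Over S)ᵒᵖ).obj M)).naturality
    ((Over.mapId S).inv.app (Opposite.unop U)).op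
  have h5 := GrothendieckTopology.overMapPullbackId_hom_app_hom_app K.toGrothendieck
    AddCommGrpCat.{u + 1} S ((constantSheaf (QuotSh.J K S) AddCommGrpCat.{u + 1}).obj M) U
  show (toSheafify (QuotSh.J K S) ((Functor.const (Over S)ᵒᵖ).obj M)).app
      (op ((Over.map (𝟙 S)).obj (unop U))) ≫
      ((K.toGrothendieck.overMapPullbackId AddCommGrpCat.{u + 1} S).hom.app
        ((constantSheaf (QuotSh.J K S) AddCommGrpCat.{u + 1}).obj M)).hom.app U =
    (toSheafify (QuotSh.J K S) ((Functor.const (Over S)ᵒᵖ).obj M)).app U ≫ 𝟙 _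
  rw [h5, Category.comp_id]
  refine h4.symm.trans ?_
  exact Category.id_comp _

theorem toSheafify_pullConst_inv {S T : Scheme.{u}} (f : T ⟶ S) (M : AddCommGrpCat.{u + 1}) :
    toSheafify (QuotSh.J K T) ((Functor.const (Over T)ᵒᵖ).obj M) ≫
      (HRes.pullConst K f M).inv.hom =
      (Over.map f).op.whiskerLeft
        (toSheafify (QuotSh.J K S) ((Functor.const (Over S)ᵒᵖ).obj M)) :=
  (Over.map f).toSheafify_pullbackSheafificationCompatibility AddCommGrpCat.{u + 1}
    (QuotSh.J K T) (QuotSh.J K S) ((Functor.const _).obj M)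

theorem toSheafify_pullConst_inv_app {S T : Scheme.{u}} (f : T ⟶ S) (M : AddCommGrpCat.{u + 1})
    (U : (Over T)ᵒᵖ) :
    (toSheafify (QuotSh.J K T) ((Functor.const (Over T)ᵒᵖ).obj M)).app U ≫
      (HRes.pullConst K f M).inv.hom.app U =
      (toSheafify (QuotSh.J K S) ((Functor.const (Over S)ᵒᵖ).obj M)).app
        (op ((Over.map f).obj (unop U))) :=
  congrArg (fun t => NatTrans.app t U) (toSheafify_pullConst_inv K f M)

theorem pullConst_inv_comp {S T T' : Scheme.{u}} (f : T ⟶ S) (g : T' ⟶ T)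
    (M : AddCommGrpCat.{u + 1}) :
    (HRes.pullConst K g M).inv ≫
      (BigSite.pullBig K g AddCommGrpCat.{u + 1}).map (HRes.pullConst K f M).inv ≫
      (K.toGrothendieck.overMapPullbackComp AddCommGrpCat.{u + 1} g f).hom.app
        ((constantSheaf (QuotSh.J K S) AddCommGrpCat.{u + 1}).obj M) =
    (HRes.pullConst K (g ≫ f) M).inv := by
  apply Sheaf.hom_ext
  refine sheafify_hom_ext _ _ _
    ((BigSite.pullBig K (g ≫ f) AddCommGrpCat.{u + 1}).obj
      ((constantSheaf (QuotSh.J K S) AddCommGrpCat.{u + 1}).obj M)).property ?_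
  apply NatTrans.ext
  funext U
  have h5 := GrothendieckTopology.overMapPullbackComp_hom_app_hom_app K.toGrothendieck
    AddCommGrpCat.{u + 1} g f ((constantSheaf (QuotSh.J K S) AddCommGrpCat.{u + 1}).obj M) U
  have h4 := (toSheafify (QuotSh.J K S) ((Functor.const (Over S)ᵒᵖ).obj M)).naturality
    ((Over.mapComp g f).hom.app (Opposite.unop U)).op
  show (toSheafify (QuotSh.J K T') ((Functor.const (Over T')ᵒᵖ).obj M)).app U ≫
      ((HRes.pullConst K g M).inv.hom.app U ≫
        (HRes.pullConst K f M).inv.hom.app (op ((Over.map g).obj (unop U))) ≫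
        ((K.toGrothendieck.overMapPullbackComp AddCommGrpCat.{u + 1} g f).hom.app
          ((constantSheaf (QuotSh.J K S) AddCommGrpCat.{u + 1}).obj M)).hom.app U) =
    (toSheafify (QuotSh.J K T') ((Functor.const (Over T')ᵒᵖ).obj M)).app U ≫
      (HRes.pullConst K (g ≫ f) M).inv.hom.app U
  rw [toSheafify_pullConst_inv_app]
  have h3 : ∀ {A B C D E : AddCommGrpCat.{u + 1}} (a : A ⟶ B) (b : B ⟶ C) (c : C ⟶ D) (d : D ⟶ E)
      (ab : A ⟶ C) (_ : a ≫ b = ab) (abc : A ⟶ D) (_ : ab ≫ c = abc) (r : A ⟶ E)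
      (_ : abc ≫ d = r), a ≫ (b ≫ c ≫ d) = r := by
    intros; subst_vars; simp
  refine h3 _ _ _ _ _ (toSheafify_pullConst_inv_app K g M U) _
    (toSheafify_pullConst_inv_app K f M (op ((Over.map g).obj (unop U)))) _ ?_
  rw [h5]
  refine h4.symm.trans ?_
  exact Category.id_comp _

theorem pull_id (S : Scheme.{u}) (F : BigSite.Ab K S) (n : ℕ) (x : BigSite.H K S F n) :
    Sheaf.H.map ((K.toGrothendieck.overMapPullbackId AddCommGrpCat.{u + 1} S).hom.app F) n
      (HRes.pull K (𝟙 S) F n x) = x := by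
  rw [HRes.pull_apply, Sheaf.H.map_apply]
  have hnat := ExtNat.mapExactFunctor_natTrans (BigSite.pullBig K (𝟙 S) AddCommGrpCat.{u + 1})
    (𝟭 _) (K.toGrothendieck.overMapPullbackId AddCommGrpCat.{u + 1} S).hom x
  rw [ExtNat.mapExactFunctor_id] at hnat
  have hc := pullConst_inv_id K S (AddCommGrpCat.of (ULift.{u + 1} ℤ))
  rw [Ext.comp_assoc _ _ _ (zero_add n) (add_zero n) (by lia), hnat,
    ← Ext.comp_assoc _ _ _ (zero_add 0) (zero_add n) (by lia), Ext.mk₀_comp_mk₀, hc, Ext.mk₀_id_comp]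

theorem pull_comp {S T T' : Scheme.{u}} (f : T ⟶ S) (g : T' ⟶ T) (F : BigSite.Ab K S) (n : ℕ)
    (x : BigSite.H K S F n) :
    HRes.pull K (g ≫ f) F n x =
      Sheaf.H.map ((K.toGrothendieck.overMapPullbackComp AddCommGrpCat.{u + 1} g f).hom.app F) n
        (HRes.pull K g ((BigSite.pullBig K f AddCommGrpCat.{u + 1}).obj F) n
          (HRes.pull K f F n x)) := by
  rw [HRes.pull_apply, HRes.pull_apply, HRes.pull_apply, Sheaf.H.map_apply,
    Ext.mapExactFunctor_comp, Ext.mapExactFunctor_mk₀]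
  haveI : PreservesFiniteLimits (BigSite.pullBig K f AddCommGrpCat.{u + 1} ⋙
      BigSite.pullBig K g AddCommGrpCat.{u + 1}) := comp_preservesFiniteLimits _ _
  haveI : PreservesFiniteColimits (BigSite.pullBig K f AddCommGrpCat.{u + 1} ⋙
      BigSite.pullBig K g AddCommGrpCat.{u + 1}) := comp_preservesFiniteColimits _ _
  have hnat := ExtNat.mapExactFunctor_natTrans
    (BigSite.pullBig K f AddCommGrpCat.{u + 1} ⋙ BigSite.pullBig K g AddCommGrpCat.{u + 1})
    (BigSite.pullBig K (g ≫ f) AddCommGrpCat.{u + 1})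
    (K.toGrothendieck.overMapPullbackComp AddCommGrpCat.{u + 1} g f).hom x
  rw [ExtNat.mapExactFunctor_comp_functor] at hnat
  have hc := pullConst_inv_comp K f g (AddCommGrpCat.of (ULift.{u + 1} ℤ))
  rw [Ext.comp_assoc _ _ _ (zero_add n) (add_zero n) (by lia),
    Ext.comp_assoc _ _ _ (zero_add n) (add_zero n) (by lia), hnat,
    ← Ext.comp_assoc _ _ _ (zero_add 0) (zero_add n) (by lia), Ext.mk₀_comp_mk₀,
    ← Ext.comp_assoc _ _ _ (zero_add 0) (zero_add n) (by lia), Ext.mk₀_comp_mk₀, Category.assoc, hc]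

end Groth.Agent.H65.HResCoh
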