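import Mathlib
import Groth.Agent.H69.DirColim
import Groth.Agent.H15.NilPair.Base
import Groth.Agent.H15.NilPair.Sys
import Groth.Agent.H15.IntPair.Sys

/-!
# (Mdf) + (Ma) for helper15's S18014 squad.
-/

set_option autoImplicit false
universe u
open CategoryTheory MvPolynomial Limits
open Groth.Agent.H69 Groth.Agent.H15.IntPair
open Groth.Agent.H15.NilPair (PS IT Cq mkq mkq_surjective mkq_eq_zero mkq_eq_zero_iff fp tr tr_mkq
  tr_refl tr_trans toE toE_mkq toE_tr gen_top X_mem_PS PS_mono dirNat)
open scoped Classical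

namespace Groth.Agent.H65.IntPair_Mdf

variable {A B C : Type u} [CommRing A] [CommRing B] [CommRing C] [Algebra A B] [Algebra A C]
  [Algebra B C] [IsScalarTower A B C]

lemma isNilpotent_of_le {R : Type*} [CommRing R] {I K : Ideal R} (h : K ≤ I)
    (hI : IsNilpotent I) : IsNilpotent K := by
  obtain ⟨n, hn⟩ := hI
  refine ⟨n, ?_⟩
  have h1 := Ideal.pow_right_mono h n
  rw [hn] at h1
  exact le_bot_iff.1 h1

theorem nil_ker_stage (j : J A B C) :
    (IsNilpotent (RingHom.ker (algebraMap A B)) → IsNilpotent (RingHom.ker (algebraMap A (FB j)))) ∧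
    (IsNilpotent (RingHom.ker (algebraMap A C)) → IsNilpotent (RingHom.ker (algebraMap A (FC j)))) := by
  constructor
  · refine isNilpotent_of_le (fun a ha => ?_)
    rw [RingHom.mem_ker] at ha ⊢
    rw [← (toB j).commutes a, ha, map_zero]
  · refine isNilpotent_of_le (fun a ha => ?_)
    rw [RingHom.mem_ker] at ha ⊢
    rw [← (toC j).commutes a, ha, map_zero]

theorem surj_A_FB (h : Function.Surjective (algebraMap A B)) (j : J A B C) :
    Function.Surjective (algebraMap A (FB j)) := by
  rw [Algebra.surjective_algebraMap_iff]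
  refine (gen_top (⊥ : Subalgebra A (FB j)) (fun v hv => ?_)).symm
  have hv' : v ∈ j.1.Z.disjSum (∅ : Finset C) := hv
  rcases Finset.mem_disjSum.mp hv' with ⟨b, hb, rfl⟩ | ⟨d, hd, rfl⟩
  · exact j.2.2.2.2.2.1 h b hb
  · exact absurd hd (Finset.notMem_empty d)

end Groth.Agent.H65.IntPair_Mdf
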