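import Mathlib.GroupTheory.Sylow
import Mathlib.GroupTheory.Index
import Mathlib.Algebra.Ring.Action.Basic
import Mathlib.RingTheory.Ideal.Quotient.Basic
import Mathlib.RingTheory.Ideal.Quotient.Operations
import Mathlib.GroupTheory.GroupAction.Quotient

set_option autoImplicit false

namespace Groth.Agent.H65

theorem exists_invariant_lift {A : Type*} [CommRing A] {G : Type*} [Group G] [Finite G]
    [MulSemiringAction G A] (P : Subgroup G) (hP : IsUnit ((P.index : ℕ) : A))
    (I : Ideal A) (f : A) (hf : ∀ g : G, g • f - f ∈ I) :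
    ∃ a : A, (∀ g : G, g • a = a) ∧ a - f ^ Nat.card P ∈ I := by
  classical
  let _ : Fintype G := Fintype.ofFinite G
  let _ : Fintype P := Fintype.ofFinite P
  let _ : Fintype (G ⧸ P) := Fintype.ofFinite _
  set N : A := ∏ h : P, ((h : G) • f) with hN
  have hgN : ∀ g : G, g • N = ∏ h : P, ((g * (h : G)) • f) := by
    intro g
    rw [hN, Finset.smul_prod']
    simp [mul_smul]
  have hPN : ∀ h : P, (h : G) • N = N := by
    intro h
    rw [hgN]
    exact Fintype.prod_equiv (Equiv.mulLeft h) _ _ (fun x => rfl)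
  have hcong : ∀ g : G, g • N - f ^ Nat.card P ∈ I := by
    intro g
    rw [hgN, ← Ideal.Quotient.eq, map_prod, map_pow]
    have h1 : ∀ h : P, Ideal.Quotient.mk I ((g * (h : G)) • f) = Ideal.Quotient.mk I f :=
      fun h => Ideal.Quotient.eq.mpr (hf _)
    simp only [h1, Finset.prod_const, Finset.card_univ, Nat.card_eq_fintype_card]
  let φ : G ⧸ P → A := Quotient.lift (fun g => g • N) (by
    intro g₁ g₂ h
    have h' : g₁⁻¹ * g₂ ∈ P := QuotientGroup.leftRel_apply.mp h
    have h2 := hPN ⟨_, h'⟩
    show g₁ • N = g₂ • N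
    calc g₁ • N = g₁ • ((g₁⁻¹ * g₂) • N) := by rw [h2]
      _ = g₂ • N := by rw [smul_smul, mul_inv_cancel_left])
  have hφ : ∀ g : G, φ (QuotientGroup.mk g) = g • N := fun g => rfl
  have hgφ : ∀ (g : G) (q : G ⧸ P), g • φ q = φ (g • q) := by
    intro g q
    induction q using QuotientGroup.induction_on with
    | H x =>
      rw [hφ, smul_smul]
      rfl
  obtain ⟨u, hu⟩ := hP.exists_left_inv
  have hgu : ∀ g : G, g • u = u := by
    intro g
    have h1 : g • u * ((P.index : ℕ) : A) = 1 := by
      have h3 := congrArg (fun x => MulSemiringAction.toRingHom G A g x) hu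
      simp only [map_mul, map_natCast, map_one] at h3
      exact h3
    calc g • u = g • u * (((P.index : ℕ) : A) * u) := by rw [mul_comm _ u, hu, mul_one]
      _ = (g • u * ((P.index : ℕ) : A)) * u := by ring
      _ = u := by rw [h1, one_mul]
  refine ⟨u * ∑ q : G ⧸ P, φ q, ?_, ?_⟩
  · intro g
    rw [smul_mul', hgu, Finset.smul_sum]
    congr 1
    simp only [hgφ]
    exact Fintype.sum_equiv (MulAction.toPerm g) _ _ (fun q => rfl)
  · have h4 : u * ∑ q : G ⧸ P, φ q - f ^ Nat.card P =
        u * ∑ q : G ⧸ P, (φ q - f ^ Nat.card P) := by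
      rw [Finset.sum_sub_distrib, Finset.sum_const, Finset.card_univ, mul_sub, nsmul_eq_mul,
        ← mul_assoc, ← Nat.card_eq_fintype_card, ← Subgroup.index_eq_card, hu, one_mul]
    rw [h4]
    apply I.mul_mem_left
    apply I.sum_mem
    intro q _
    induction q using QuotientGroup.induction_on with
    | H x => exact hcong x

end Groth.Agent.H65
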