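import Groth.Agent.H65.QCMor

/-!
# Functors between categories of algebraic spaces and their maps of sheaves (helper65)
-/

set_option autoImplicit false
open CategoryTheory CategoryTheory.Limits AlgebraicGeometry Opposite
universe u

namespace Groth.Agent.H65.SpMaps

open FibCat Stk Groth.Agent.H32.FibProd Groth.Agent.H32.Fp2 Groth.Agent.H32.Fp3
  Groth.Agent.H32.Fp4 Groth.Agent.H32.SpBridge Groth.Agent.H32.PFacts
  Groth.Agent.H32.AlgStackEquiv Groth.Agent.H32.AtlasRep Groth.Agent.H32.SpComp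
  Groth.Agent.H32.StackOps Groth.Agent.H32.SectSt Groth.Agent.H32.Repr Groth.Agent.H32.SpTrack
  Groth.Agent.H32.PshFp Groth.Agent.H32.Sect Groth.Agent.H65.QC

variable {S : Scheme.{u}}

/-- two functors between categories of presheaves with the same map of presheaves are
isomorphic. -/
theorem iso_of_pshMapOf_eq {P Q : AlgSp.PSp S} (Φ Ψ : Stk.ofPsh P ⥤ᵇ Stk.ofPsh Q)
    (h : pshMapOf Φ = pshMapOf Ψ) : Nonempty (Φ ≅ Ψ) := by
  obtain ⟨α⟩ := ofPshMap_pshMapOf Φ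
  obtain ⟨β⟩ := ofPshMap_pshMapOf Ψ
  rw [h] at α
  exact ⟨α.symm ≪≫ β⟩

/-- a functor `ofSp F ⟶ ofSp G` representable by algebraic spaces with `P` (fppf local on the base)
gives a map of sheaves with `P`. -/
theorem prop_pshMapOf (P : MorphismProperty (AlgSp.Sp S))
    (hP : AlgSp.IsLocalOnBase AlgSp.IsFppfCover P) (F G : AlgSp.Space S)
    (Φ : AlgSt.ofSp F.obj ⥤ᵇ AlgSt.ofSp G.obj) (hΦ : AlgSt.RepByAlgSpWith P Φ) :
    P (ObjectProperty.homMk (pshMapOf Φ) : F.obj ⟶ G.obj) := by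
  have hid : IsEquivOver (BasedFunctor.id (AlgSt.ofSp G.obj)) := isEquivOver_id _
  obtain ⟨E2, hE2, -, ⟨ε2⟩⟩ :=
    exists_inv_isEquivOver (fpSnd_isEquivOver (BasedFunctor.id (AlgSt.ofSp G.obj)) Φ hid)
  have h := P_baseChange P hP Φ hΦ G F (BasedFunctor.id _) E2 hE2
  have e : pshMapOf (BasedFunctor.comp E2 (fpFst (BasedFunctor.id (AlgSt.ofSp G.obj)) Φ)) =
      pshMapOf Φ := by
    apply pshMapOf_congr
    exact ((whiskerLeftIso E2 (fpIso (BasedFunctor.id (AlgSt.ofSp G.obj)) Φ)) ≪≫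
        whiskerRightIso ε2 Φ).hom
  rw [e] at h
  exact h

/-- a functor `ofSp F ⟶ (Sch/U)` representable by algebraic spaces with `P` (fppf local on the
base) gives a map of sheaves `F ⟶ h_U` with `P`. -/
theorem prop_pshMapOf_over (P : MorphismProperty (AlgSp.Sp S))
    (hP : AlgSp.IsLocalOnBase AlgSp.IsFppfCover P) (F : AlgSp.Space S) (U : Over S)
    (Φ : AlgSt.ofSp F.obj ⥤ᵇ FibCat.overCat U) (hΦ : AlgSt.RepByAlgSpWith P Φ) :
    P (ObjectProperty.homMk (pshMapOf (BasedFunctor.comp Φ (AlgSt.ofOverCat U))) :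
      F.obj ⟶ (AlgSp.yon S).obj U) := by
  have hU := Groth.Agent.S6411.over_isFibGrpd U
  have hU' : IsFibGrpd (AlgSt.ofSp ((AlgSp.yon S).obj U)).p := ofSp_isFibGrpd _
  exact prop_pshMapOf P hP F ⟨(AlgSp.yon S).obj U, AlgSp.IsAlgSpace.yon_obj U⟩ _
    ((with_postcomp_equiv P (ofSp_isFibGrpd F.obj) hU hU' Φ (AlgSt.ofOverCat U)
      (ofOverCat_isEquivOver U)).mpr hΦ)

/-- a chart `(Sch/U) ⟶ ofSp F` representable by algebraic spaces with `P` (fppf local on the base)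
gives a map of sheaves `h_U ⟶ F` with `P`. -/
theorem prop_pointMap (P : MorphismProperty (AlgSp.Sp S))
    (hP : AlgSp.IsLocalOnBase AlgSp.IsFppfCover P) (F : AlgSp.Space S) (U : Over S)
    (x : FibCat.overCat U ⥤ᵇ AlgSt.ofSp F.obj) (hx : AlgSt.RepByAlgSpWith P x) :
    P (ObjectProperty.homMk (pointMap x) : (AlgSp.yon S).obj U ⟶ F.obj) := by
  have hU := Groth.Agent.S6411.over_isFibGrpd U
  have hU' : IsFibGrpd (AlgSt.ofSp ((AlgSp.yon S).obj U)).p := ofSp_isFibGrpd _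
  exact prop_pshMapOf P hP ⟨(AlgSp.yon S).obj U, AlgSp.IsAlgSpace.yon_obj U⟩ F _
    (with_precomp_equiv P hU' hU (ofSp_isFibGrpd F.obj) (AlgSt.toOverCat U)
      (toOverCat_isEquivOver U) x hx)

/-- the equation of maps of sheaves of a 2-commutative square of charts of algebraic spaces. -/
theorem pointMap_sq {F G : AlgSp.Sp S} (a : F ⟶ G) {U V : Over S}
    (x : FibCat.overCat U ⥤ᵇ AlgSt.ofSp F) (y : FibCat.overCat V ⥤ᵇ AlgSt.ofSp G) (h : U ⟶ V)
    (α : BasedFunctor.comp x (AlgSt.ofSpMap a) ≅ BasedFunctor.comp (AlgSt.overMap h) y) :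
    pointMap x ≫ a.hom = ((AlgSp.yon S).map h).hom ≫ pointMap y := by
  have e1 : pshMapOf (BasedFunctor.comp (BasedFunctor.comp (AlgSt.toOverCat U) x)
      (AlgSt.ofSpMap a)) = pointMap x ≫ a.hom := by
    rw [pshMapOf_comp, pshMapOf_ofPshMap]
    rfl
  have e2 : pshMapOf (BasedFunctor.comp (Stk.ofPshMap ((AlgSp.yon S).map h).hom)
      (BasedFunctor.comp (AlgSt.toOverCat V) y)) = ((AlgSp.yon S).map h).hom ≫ pointMap y := by
    rw [pshMapOf_comp, pshMapOf_ofPshMap]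
    rfl
  rw [← e1, ← e2]
  apply pshMapOf_congr
  exact (whiskerLeftIso (AlgSt.toOverCat U) α).hom

/-- a commutative square of maps of sheaves gives a 2-commutative square of charts. -/
theorem iso_of_pointMap_sq {F G : AlgSp.Sp S} (a : F ⟶ G) {U V : Over S}
    (ξ : (AlgSp.yon S).obj U ⟶ F) (η : (AlgSp.yon S).obj V ⟶ G) (h : U ⟶ V)
    (w : ξ ≫ a = (AlgSp.yon S).map h ≫ η) :
    Nonempty (BasedFunctor.comp (ofPoint ξ.hom) (AlgSt.ofSpMap a) ≅
      BasedFunctor.comp (AlgSt.overMap h) (ofPoint η.hom)) := by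
  have e1 : pshMapOf (BasedFunctor.comp (Stk.ofPshMap ξ.hom) (AlgSt.ofSpMap a)) =
      ξ.hom ≫ a.hom := by
    rw [pshMapOf_comp, pshMapOf_ofPshMap, pshMapOf_ofPshMap]
  have e2 : pshMapOf (BasedFunctor.comp (Stk.ofPshMap ((AlgSp.yon S).map h).hom)
      (Stk.ofPshMap η.hom)) = ((AlgSp.yon S).map h).hom ≫ η.hom := by
    rw [pshMapOf_comp, pshMapOf_ofPshMap, pshMapOf_ofPshMap]
  have w' : ξ.hom ≫ a.hom = ((AlgSp.yon S).map h).hom ≫ η.hom := congrArg (fun t => t.hom) w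
  obtain ⟨β⟩ := iso_of_pshMapOf_eq
    (BasedFunctor.comp (Stk.ofPshMap ξ.hom) (AlgSt.ofSpMap a))
    (BasedFunctor.comp (Stk.ofPshMap ((AlgSp.yon S).map h).hom) (Stk.ofPshMap η.hom))
    (by rw [e1, e2, w'])
  exact ⟨whiskerLeftIso (AlgSt.ofOverCat U) β⟩

end Groth.Agent.H65.SpMaps
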