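import Groth.Agent.H65.DiagLfp
import Groth.Agent.S12991

/-!
# Base change of properties read on smooth chart squares (helper65)
-/

set_option autoImplicit false
open CategoryTheory CategoryTheory.Limits AlgebraicGeometry Opposite
universe u

namespace Groth.Agent.H65.LocQBC

open FibCat Stk Groth.Agent.H32.FibProd Groth.Agent.H32.Fp2 Groth.Agent.H32.Fp3
  Groth.Agent.H32.Fp4 Groth.Agent.H32.SpBridge Groth.Agent.H32.PFacts
  Groth.Agent.H32.AlgStackEquiv Groth.Agent.H32.AtlasRep Groth.Agent.H32.SpComp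
  Groth.Agent.H32.StackOps Groth.Agent.H32.SectSt Groth.Agent.H32.Repr Groth.Agent.H32.SpTrack
  Groth.Agent.H32.PshFp Groth.Agent.H32.Sect Groth.Agent.H32.DiagDescent Groth.Agent.H32.Cover
  Groth.Agent.H32.DiagRep
  Groth.Agent.H65.QC Groth.Agent.H65.SpMaps Groth.Agent.H65.LocQ Groth.Agent.H65.DiagLfp

variable {S : Scheme.{u}} {𝒳 𝒴 : AlgSt.Cat S}

/-- base change of `LocQ P f` to a scheme over the target. -/
theorem locQ_fpFst_scheme {P : MorphismProperty (AlgSp.Sp S)} (hP : AlgSp.IsSmoothLocalST P)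
    (hPb : BC P) (h𝒳 : AlgSt.IsAlgStack Scheme.fppfPrecoverage 𝒳)
    (h𝒴 : AlgSt.IsAlgStack Scheme.fppfPrecoverage 𝒴) (f : 𝒳 ⥤ᵇ 𝒴)
    (hLoc : AlgSt.LocQ P f) {T : Over S} (t : FibCat.overCat T ⥤ᵇ 𝒴) :
    AlgSt.LocQ P (fpFst t f) := by
  have iX := h𝒳.isStack.1
  have iY := h𝒴.isStack.1
  have iT := Groth.Agent.S6411.over_isFibGrpd T
  obtain ⟨V, y, hy1, hy2⟩ := h𝒴.atlas
  have iV := Groth.Agent.S6411.over_isFibGrpd V
  obtain ⟨U, x, h, α, hx1, hx2, hℓ1, hℓ2⟩ := exists_square h𝒳 h𝒴 f y hy1 hy2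
  have iU := Groth.Agent.S6411.over_isFibGrpd U
  obtain ⟨U₀, V₀, x₀, y₀, h₀, α₀, r1, r2, r3, r4⟩ := hLoc
  have hPh : P ((AlgSp.yon S).map h) :=
    prop_of_squares hP iX iY f x₀ y₀ h₀ α₀ r1 r2 r3 r4 x y h α hy1 hℓ1
  -- the chart `u : U ⟶ V ×_𝒴 𝒳`
  have iP : IsFibGrpd (fp f y).p := fp_isFibGrpd _ _ iX iV iY
  have iP' : IsFibGrpd (fp y f).p := fp_isFibGrpd _ _ iV iX iY
  obtain ⟨u, hudef⟩ : ∃ u : FibCat.overCat U ⥤ᵇ fp y f,
      u = BasedFunctor.comp (FibCat.fpLift x (AlgSt.overMap h) α) (swap f y) := ⟨_, rfl⟩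
  have hu1 : AlgSt.RepByAlgSpWith (AlgSp.LocP @Smooth) u := by
    rw [hudef]
    exact (with_postcomp_equiv _ iU iP iP' _ (swap f y) (swap_isEquivOver f y)).mpr hℓ1
  have hu2 : AlgSt.RepByAlgSpWith AlgSp.IsSurjectiveMor u := by
    rw [hudef]
    exact (with_postcomp_equiv _ iU iP iP' _ (swap f y) (swap_isEquivOver f y)).mpr hℓ2
  have hug : BasedFunctor.comp u (fpFst y f) = AlgSt.overMap h := by
    rw [hudef]
    rfl
  -- a smooth surjective scheme chart of `T` mapping to `V`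
  obtain ⟨V'', b, k, θ, hb1, hb2, -, -⟩ :=
    exists_square (isAlgStack_overCat T) h𝒴 t y hy1 hy2
  have iV'' := Groth.Agent.S6411.over_isFibGrpd V''
  have iV''' : IsFibGrpd (AlgSt.ofSp ((AlgSp.yon S).obj V'')).p := ofSp_isFibGrpd _
  -- the base change of `h` to `V''`
  have hR : AlgSt.RepByAlgSpWith P (BasedFunctor.comp u (fpFst y f)) := by
    rw [hug]
    exact with_overMap_of_prop P hPb h hPh
  obtain ⟨R, eR, heR, hφ⟩ := hR V'' (AlgSt.overMap k)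
  -- the chart `x_R : R ⟶ T ×_𝒴 𝒳`
  have iKH : IsFibGrpd (fp (AlgSt.overMap k) (BasedFunctor.comp u (fpFst y f))).p :=
    fp_isFibGrpd _ _ iV'' iU iV
  have iKG : IsFibGrpd (fp (AlgSt.overMap k) (fpFst y f)).p := fp_isFibGrpd _ _ iV'' iP' iV
  have iKY : IsFibGrpd (fp (BasedFunctor.comp (AlgSt.overMap k) y) f).p :=
    fp_isFibGrpd _ _ iV'' iX iY
  have iBT : IsFibGrpd (fp (BasedFunctor.comp b t) f).p := fp_isFibGrpd _ _ iV'' iX iY
  have iQ : IsFibGrpd (fp t f).p := fp_isFibGrpd _ _ iT iX iY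
  obtain ⟨E2, hE2, -, ⟨ε2⟩⟩ := exists_inv_isEquivOver (paste_isEquivOver (AlgSt.overMap k) y f)
  obtain ⟨Φ, hΦdef⟩ : ∃ Φ : fp (AlgSt.overMap k) (BasedFunctor.comp u (fpFst y f)) ⥤ᵇ fp t f,
      Φ = BasedFunctor.comp (pasteMidR (AlgSt.overMap k) u (fpFst y f))
        (BasedFunctor.comp E2 (BasedFunctor.comp (congrLeft θ.symm f) (pasteMid b t f))) :=
    ⟨_, rfl⟩
  have hΦ : ∀ (Q : MorphismProperty (AlgSp.Sp S)) (_ : Good Q),
      AlgSt.RepByAlgSpWith Q u → AlgSt.RepByAlgSpWith Q b → AlgSt.RepByAlgSpWith Q Φ := by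
    intro Q hG hQu hQb
    rw [hΦdef]
    have s1 : AlgSt.RepByAlgSpWith Q (pasteMidR (AlgSt.overMap k) u (fpFst y f)) :=
      with_pasteMidR Q iV'' iP' iV iU (AlgSt.overMap k) u (fpFst y f) hQu
    have s4 : AlgSt.RepByAlgSpWith Q (pasteMid b t f) := with_pasteMid Q iV'' iT iY iX b t f hQb
    have s3 : AlgSt.RepByAlgSpWith Q
        (BasedFunctor.comp (congrLeft θ.symm f) (pasteMid b t f)) :=
      with_precomp_equiv Q iKY iBT iQ _ (congrLeft_isEquivOver θ.symm f) _ s4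
    have s2 : AlgSt.RepByAlgSpWith Q
        (BasedFunctor.comp E2 (BasedFunctor.comp (congrLeft θ.symm f) (pasteMid b t f))) :=
      with_precomp_equiv Q iKG iKY iQ E2 hE2 _ s3
    exact with_comp hG iKH iKG iQ _ _ s1 s2
  have hxR1 : AlgSt.RepByAlgSpWith (AlgSp.LocP @Smooth) (BasedFunctor.comp eR Φ) :=
    with_precomp_equiv _ (ofSp_isFibGrpd R.obj) iKH iQ eR heR _ (hΦ _ good_smooth hu1 hb1)
  have hxR2 : AlgSt.RepByAlgSpWith AlgSp.IsSurjectiveMor (BasedFunctor.comp eR Φ) :=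
    with_precomp_equiv _ (ofSp_isFibGrpd R.obj) iKH iQ eR heR _ (hΦ _ good_surjective hu2 hb2)
  -- the chart of `T`
  have hyT : AlgSt.RepByAlgSpWith (AlgSp.LocP @Smooth)
      (BasedFunctor.comp (AlgSt.toOverCat V'') b) :=
    with_precomp_equiv _ iV''' iV'' iT (AlgSt.toOverCat V'') (toOverCat_isEquivOver V'') b hb1
  -- the 2-isomorphism
  obtain ⟨γ⟩ := ofPshMap_pshMapOf (BasedFunctor.comp (BasedFunctor.comp eR
    (fpFst (AlgSt.overMap k) (BasedFunctor.comp u (fpFst y f)))) (AlgSt.ofOverCat V''))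
  rw [← spMapOfOver_hom] at γ
  have hQst : AlgSt.IsAlgStack Scheme.fppfPrecoverage (fp t f) :=
    Groth.Agent.H32.AlgStackFp.isAlgStack_fp iY h𝒴.diag (isAlgStack_overCat T) h𝒳 t f
  refine (Groth.Agent.S12991.result S P hP (fp t f) (FibCat.overCat T) hQst (isAlgStack_overCat T)
    (fpFst t f)).mpr ⟨R, ⟨(AlgSp.yon S).obj V'', AlgSp.IsAlgSpace.yon_obj V''⟩,
      BasedFunctor.comp eR Φ, BasedFunctor.comp (AlgSt.toOverCat V'') b,
      ObjectProperty.homMk (AlgSt.spMapOfOver (BasedFunctor.comp eR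
        (fpFst (AlgSt.overMap k) (BasedFunctor.comp u (fpFst y f))))), ?_, hxR1, hxR2, hyT, hφ⟩
  subst hΦdef
  exact (whiskerLeftIso eR (whiskerLeftIso (pasteMidR (AlgSt.overMap k) u (fpFst y f))
      (whiskerRightIso ε2 (BasedFunctor.comp (fpFst (AlgSt.overMap k) (fpFst y f)) b)))) ≪≫
    (whiskerRightIso (whiskerRightIso γ (AlgSt.toOverCat V'')) b).symm

end Groth.Agent.H65.LocQBC
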