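import Groth.Agent.H65.LocQIso

/-!
# Descent along the base of properties read on chart squares (helper65)
-/

set_option autoImplicit false
open CategoryTheory CategoryTheory.Limits AlgebraicGeometry Opposite
universe u

namespace Groth.Agent.H65.LocQBase

open FibCat Stk Groth.Agent.H32.FibProd Groth.Agent.H32.Fp2 Groth.Agent.H32.Fp3
  Groth.Agent.H32.Fp4 Groth.Agent.H32.SpBridge Groth.Agent.H32.PFacts
  Groth.Agent.H32.AlgStackEquiv Groth.Agent.H32.AtlasRep Groth.Agent.H32.SpComp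
  Groth.Agent.H32.StackOps Groth.Agent.H32.SectSt Groth.Agent.H32.Repr Groth.Agent.H32.SpTrack
  Groth.Agent.H32.PshFp Groth.Agent.H32.Sect Groth.Agent.H32.DiagDescent Groth.Agent.H32.Cover
  Groth.Agent.H32.DiagRep Groth.Agent.H32.GoodMore Groth.Agent.H32.DiagApps
  Groth.Agent.H65.QC Groth.Agent.H65.SpMaps Groth.Agent.H65.LocQ Groth.Agent.H65.DiagLfp
  Groth.Agent.H65.LocQDesc Groth.Agent.H65.LocQPts Groth.Agent.H65.LocQRep
  Groth.Agent.H65.LocQCover Groth.Agent.H65.LocQIso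

variable {S : Scheme.{u}} {𝒳 𝒴 𝒵 : AlgSt.Cat S}

/-- `P` holds on the composite to `V` of every smooth chart of `𝒳 ×_𝒴 V` by an algebraic
space. -/
theorem prop_of_sp_chart {P : MorphismProperty (AlgSp.Sp S)} (hP : AlgSp.IsSmoothLocalST P)
    (iX : IsFibGrpd 𝒳.p) (iY : IsFibGrpd 𝒴.p) (f : 𝒳 ⥤ᵇ 𝒴) (hLoc : AlgSt.LocQ P f)
    {V : Over S} (y : FibCat.overCat V ⥤ᵇ 𝒴)
    (hy : AlgSt.RepByAlgSpWith (AlgSp.LocP @Smooth) y) (F : AlgSp.Space S)
    (A : AlgSt.ofSp F.obj ⥤ᵇ fp f y) (hA : AlgSt.RepByAlgSpWith (AlgSp.LocP @Smooth) A) :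
    P (AlgSt.spMapOfOver (BasedFunctor.comp A (fpSnd f y))) := by
  obtain ⟨U, p, hp1, hp2⟩ := F.property.atlas
  have iU := Groth.Agent.S6411.over_isFibGrpd U
  have iV := Groth.Agent.S6411.over_isFibGrpd V
  have iP : IsFibGrpd (fp f y).p := fp_isFibGrpd _ _ iX iV iY
  have i1 := locP_respectsIso (S := S) @Smooth
  have c1 : AlgSt.RepByAlgSpWith (AlgSp.LocP @Smooth) (ofPoint p.hom) :=
    repByAlgSpWith_ofPoint @Etale (AlgSp.LocP @Smooth)
      (fun F' U snd h => locP_smooth_of_repWith_etale snd h) p hp1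
  have hA₀ : AlgSt.RepByAlgSpWith (AlgSp.LocP @Smooth) (BasedFunctor.comp (ofPoint p.hom) A) :=
    with_comp good_smooth iU (ofSp_isFibGrpd F.obj) iP _ _ c1 hA
  obtain ⟨h, ⟨β⟩⟩ := Groth.Agent.H65.OverYoneda.exists_overMap_iso
    (BasedFunctor.comp (BasedFunctor.comp (ofPoint p.hom) A) (fpSnd f y))
  have hPh : P ((AlgSp.yon S).map h) :=
    prop_of_chart hP iX iY f hLoc y hy (BasedFunctor.comp (ofPoint p.hom) A) hA₀ h β
  have e1 : ((AlgSp.yon S).map h).hom =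
      p.hom ≫ (AlgSt.spMapOfOver (BasedFunctor.comp A (fpSnd f y))).hom := by
    have e2 : pshMapOf (BasedFunctor.comp (Stk.ofPshMap p.hom)
        (BasedFunctor.comp (BasedFunctor.comp A (fpSnd f y)) (AlgSt.ofOverCat V))) =
        p.hom ≫ (AlgSt.spMapOfOver (BasedFunctor.comp A (fpSnd f y))).hom := by
      rw [pshMapOf_comp, pshMapOf_ofPshMap, spMapOfOver_hom]
    rw [← e2, yon_map_eq_of_iso _ h β]
    rfl
  have hid : AlgSp.LocP @Smooth (𝟙 ((AlgSp.yon S).obj V)) := by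
    have := etale_ci.{u}
    exact locP_smooth_of_repWith_etale _ (AlgSp.repWith_id @Etale V)
  refine (hP.locality F.property (AlgSp.IsAlgSpace.yon_obj V) _).mpr (fun z => ?_)
  obtain ⟨v, hv⟩ := Groth.Agent.H32.AtlasCover.isSurjectiveMor_of_repWith p hp2 z
  refine ⟨(AlgSp.yon S).obj U, (AlgSp.yon S).obj V, p, 𝟙 _, (AlgSp.yon S).map h, v,
    AlgSp.IsAlgSpace.yon_obj U, AlgSp.IsAlgSpace.yon_obj V,
    locP_smooth_of_repWith_etale p hp1, hid, ?_, hv, hPh⟩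
  rw [Category.comp_id]
  apply ObjectProperty.hom_ext
  exact e1.symm

/-- the fibre product of the identity of `(Sch/V)` and a composition functor, represented by the
source of the latter. -/
theorem exists_equiv_fp_id {U V : Over S} (m : U ⟶ V) :
    ∃ e : AlgSt.ofSp ((AlgSp.yon S).obj U) ⥤ᵇ
        fp (BasedFunctor.id (FibCat.overCat V)) (AlgSt.overMap m),
      IsEquivOver e ∧
      AlgSt.spMapOfOver (BasedFunctor.comp e
        (fpFst (BasedFunctor.id (FibCat.overCat V)) (AlgSt.overMap m))) = (AlgSp.yon S).map m ∧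
      Nonempty (BasedFunctor.comp e (fpSnd (BasedFunctor.id (FibCat.overCat V)) (AlgSt.overMap m)) ≅
        AlgSt.toOverCat U) := by
  have hid : IsEquivOver (BasedFunctor.id (FibCat.overCat V)) := isEquivOver_id _
  obtain ⟨E2, hE2, -, ⟨ε2⟩⟩ := exists_inv_isEquivOver
    (fpSnd_isEquivOver (BasedFunctor.id (FibCat.overCat V)) (AlgSt.overMap m) hid)
  refine ⟨BasedFunctor.comp (AlgSt.toOverCat U) E2,
    isEquivOver_comp _ _ (toOverCat_isEquivOver U) hE2, ?_, ⟨whiskerLeftIso (AlgSt.toOverCat U) ε2⟩⟩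
  apply ObjectProperty.hom_ext
  rw [spMapOfOver_hom]
  have e1 : pshMapOf (BasedFunctor.comp (BasedFunctor.comp (AlgSt.toOverCat U) (AlgSt.overMap m))
      (AlgSt.ofOverCat V)) = ((AlgSp.yon S).map m).hom :=
    pshMapOf_ofPshMap ((AlgSp.yon S).map m).hom
  rw [← e1]
  apply pshMapOf_congr
  exact (whiskerRightIso (whiskerLeftIso (AlgSt.toOverCat U)
    (whiskerLeftIso E2 (fpIso (BasedFunctor.id (FibCat.overCat V)) (AlgSt.overMap m)) ≪≫
      whiskerRightIso ε2 (AlgSt.overMap m))) (AlgSt.ofOverCat V)).hom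

/-- descent along the base: a chart of the target which is an fppf covering. -/
theorem locQ_of_fpFst_chart_cover {P : MorphismProperty (AlgSp.Sp S)}
    (hP : AlgSp.IsSmoothLocalST P) (hP₂ : AlgSp.IsLocalOnBase AlgSp.IsFppfCover P)
    (h𝒳 : AlgSt.IsAlgStack Scheme.fppfPrecoverage 𝒳)
    (h𝒴 : AlgSt.IsAlgStack Scheme.fppfPrecoverage 𝒴) (f : 𝒳 ⥤ᵇ 𝒴) {W : Over S}
    (z : FibCat.overCat W ⥤ᵇ 𝒴)
    (hz₁ : AlgSt.RepByAlgSpWith (AlgSp.LocP @Flat) z)
    (hz₂ : AlgSt.RepByAlgSpWith (AlgSp.LocP @LocallyOfFinitePresentation) z)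
    (hz₃ : AlgSt.RepByAlgSpWith AlgSp.IsSurjectiveMor z)
    (H : AlgSt.LocQ P (fpFst z f)) : AlgSt.LocQ P f := by
  have iX := h𝒳.isStack.1
  have iY := h𝒴.isStack.1
  have iW := Groth.Agent.S6411.over_isFibGrpd W
  obtain ⟨V, y, hy1, hy2⟩ := h𝒴.atlas
  have iV := Groth.Agent.S6411.over_isFibGrpd V
  obtain ⟨U, x, h, α, hx1, hx2, hℓf1, -⟩ := exists_square h𝒳 h𝒴 f y hy1 hy2
  have iU := Groth.Agent.S6411.over_isFibGrpd U
  obtain ⟨V', b, k, θ, hb1, -, hℓz1, hℓz2⟩ :=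
    exists_square (isAlgStack_overCat W) h𝒴 z y hy1 hy2
  have iV' := Groth.Agent.S6411.over_isFibGrpd V'
  have iV'' : IsFibGrpd (AlgSt.ofSp ((AlgSp.yon S).obj V')).p := ofSp_isFibGrpd _
  have iZY : IsFibGrpd (fp z y).p := fp_isFibGrpd _ _ iW iV iY
  have iFY : IsFibGrpd (fp f y).p := fp_isFibGrpd _ _ iX iV iY
  have iYF : IsFibGrpd (fp y f).p := fp_isFibGrpd _ _ iV iX iY
  -- `k` is an fppf covering
  have hk1 : AlgSt.RepByAlgSpWith (AlgSp.LocP @Flat) (AlgSt.overMap k) :=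
    with_comp good_flat iV' iZY iV (FibCat.fpLift b (AlgSt.overMap k) θ) (fpSnd z y)
      (smooth_imp (fun _ _ g hg => by have : Smooth g := hg; infer_instance) hℓz1)
      (repByAlgSpWith_fpSnd _ z y hz₁)
  have hk2 : AlgSt.RepByAlgSpWith (AlgSp.LocP @LocallyOfFinitePresentation) (AlgSt.overMap k) :=
    with_comp good_lfp iV' iZY iV (FibCat.fpLift b (AlgSt.overMap k) θ) (fpSnd z y)
      (smooth_imp (fun _ _ g hg => by have : Smooth g := hg; infer_instance) hℓz1)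
      (repByAlgSpWith_fpSnd _ z y hz₂)
  have hk3 : AlgSt.RepByAlgSpWith AlgSp.IsSurjectiveMor (AlgSt.overMap k) :=
    with_comp good_surjective iV' iZY iV (FibCat.fpLift b (AlgSt.overMap k) θ) (fpSnd z y)
      hℓz2 (repByAlgSpWith_fpSnd _ z y hz₃)
  refine ⟨U, V, x, y, h, α, hx1, hx2, hy1, ?_⟩
  obtain ⟨e, he, heq, -⟩ := exists_equiv_fp_id h
  obtain ⟨ez, hez, hezq, ⟨εz⟩⟩ := exists_equiv_fp_id k
  rw [← heq]
  have hcov : AlgSp.IsFppfCover (fun _ : PUnit.{u + 1} => (AlgSp.yon S).obj V')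
      (fun _ => AlgSt.spMapOfOver (BasedFunctor.comp ez
        (fpFst (BasedFunctor.id (FibCat.overCat V)) (AlgSt.overMap k)))) := by
    rw [hezq]
    exact ⟨fun _ => ⟨prop_of_with_overMap _ good_flat.loc k hk1,
      prop_of_with_overMap _ good_lfp.loc k hk2⟩,
      fun v => ⟨PUnit.unit, prop_of_with_overMap _ good_surjective.loc k hk3 v⟩⟩
  obtain ⟨g₁, hg₁def⟩ : ∃ g₁ : AlgSt.ofSp ((AlgSp.yon S).obj V') ⥤ᵇ FibCat.overCat V,
      g₁ = BasedFunctor.comp (BasedFunctor.comp ez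
        (fpSnd (BasedFunctor.id (FibCat.overCat V)) (AlgSt.overMap k))) (AlgSt.overMap k) :=
    ⟨_, rfl⟩
  obtain ⟨F', e'', he''⟩ := Groth.Agent.H32.SpBoot.repByAlgSp_fp_ofSp iU iV
    ⟨(AlgSp.yon S).obj V', AlgSp.IsAlgSpace.yon_obj V'⟩ g₁ (AlgSt.overMap h) (rep1_overMap h)
  have key : P (ObjectProperty.homMk (pshMapOf (BasedFunctor.comp e''
      (fpFst g₁ (AlgSt.overMap h)))) : F'.obj ⟶ (AlgSp.yon S).obj V') := by
    have i1 : IsFibGrpd (fp z f).p := fp_isFibGrpd _ _ iW iX iY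
    have iG1 : IsFibGrpd (fp g₁ (AlgSt.overMap h)).p := fp_isFibGrpd _ _ iV'' iU iV
    have iK1 : IsFibGrpd (fp (AlgSt.overMap k) (AlgSt.overMap h)).p := fp_isFibGrpd _ _ iV' iU iV
    have iK2 : IsFibGrpd (fp (AlgSt.overMap k) (fpFst y f)).p := fp_isFibGrpd _ _ iV' iYF iV
    have iK6 : IsFibGrpd (fp (fpFst z f) b).p := fp_isFibGrpd _ _ i1 iV' iW
    have hu : AlgSt.RepByAlgSpWith (AlgSp.LocP @Smooth)
        (BasedFunctor.comp (FibCat.fpLift x (AlgSt.overMap h) α) (swap f y)) :=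
      (with_postcomp_equiv _ iU iFY iYF _ (swap f y) (swap_isEquivOver f y)).mpr hℓf1
    obtain ⟨E4, hE4, -, ⟨ε4⟩⟩ := exists_inv_isEquivOver (paste_isEquivOver (AlgSt.overMap k) y f)
    have γ : g₁ ≅ BasedFunctor.comp (AlgSt.toOverCat V') (AlgSt.overMap k) := by
      rw [hg₁def]
      exact whiskerRightIso εz (AlgSt.overMap k)
    obtain ⟨Ψ₁, hΨ₁⟩ : ∃ Ψ₁ : fp g₁ (AlgSt.overMap h) ⥤ᵇ fp (AlgSt.overMap k) (AlgSt.overMap h),
        Ψ₁ = BasedFunctor.comp (congrLeft γ (AlgSt.overMap h))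
          (pasteMid (AlgSt.toOverCat V') (AlgSt.overMap k) (AlgSt.overMap h)) := ⟨_, rfl⟩
    have hΨ₁e : IsEquivOver Ψ₁ := by
      rw [hΨ₁]
      exact isEquivOver_comp _ _ (congrLeft_isEquivOver γ _)
        (pasteMid_isEquivOver _ _ _ (toOverCat_isEquivOver V'))
    obtain ⟨T, hT⟩ : ∃ T : fp (AlgSt.overMap k) (fpFst y f) ⥤ᵇ fp (fpFst z f) b,
        T = BasedFunctor.comp E4 (BasedFunctor.comp (congrLeft θ.symm f)
          (BasedFunctor.comp (paste b z f) (swap b (fpFst z f)))) := ⟨_, rfl⟩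
    have hTe : IsEquivOver T := by
      rw [hT]
      exact isEquivOver_comp _ _ hE4 (isEquivOver_comp _ _ (congrLeft_isEquivOver θ.symm f)
        (isEquivOver_comp _ _ (paste_isEquivOver b z f) (swap_isEquivOver b (fpFst z f))))
    obtain ⟨C3, hC3def⟩ : ∃ C3 : fp (AlgSt.overMap k) (AlgSt.overMap h) ⥤ᵇ
        fp (AlgSt.overMap k) (fpFst y f),
        C3 = pasteMidR (AlgSt.overMap k)
          (BasedFunctor.comp (FibCat.fpLift x (AlgSt.overMap h) α) (swap f y)) (fpFst y f) :=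
      ⟨_, rfl⟩
    have hC3 : AlgSt.RepByAlgSpWith (AlgSp.LocP @Smooth) C3 := by
      rw [hC3def]
      exact with_pasteMidR _ iV' iYF iV iU (AlgSt.overMap k) _ (fpFst y f) hu
    have hΨ : AlgSt.RepByAlgSpWith (AlgSp.LocP @Smooth)
        (BasedFunctor.comp Ψ₁ (BasedFunctor.comp C3 T)) :=
      with_precomp_equiv _ iG1 iK1 iK6 Ψ₁ hΨ₁e _
        ((with_postcomp_equiv _ iK1 iK2 iK6 C3 T hTe).mpr hC3)
    have hA : AlgSt.RepByAlgSpWith (AlgSp.LocP @Smooth)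
        (BasedFunctor.comp e'' (BasedFunctor.comp Ψ₁ (BasedFunctor.comp C3 T))) :=
      with_precomp_equiv _ (ofSp_isFibGrpd F'.obj) iG1 iK6 e'' he'' _ hΨ
    have h1 := prop_of_sp_chart hP i1 iW (fpFst z f) H b hb1 F' _ hA
    have e3 : AlgSt.spMapOfOver (BasedFunctor.comp (BasedFunctor.comp e''
        (BasedFunctor.comp Ψ₁ (BasedFunctor.comp C3 T))) (fpSnd (fpFst z f) b)) =
        (ObjectProperty.homMk (pshMapOf (BasedFunctor.comp e'' (fpFst g₁ (AlgSt.overMap h)))) :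
          F'.obj ⟶ (AlgSp.yon S).obj V') := by
      apply ObjectProperty.hom_ext
      rw [spMapOfOver_hom]
      apply pshMapOf_congr
      subst hΨ₁ hT hC3def
      exact (whiskerLeftIso (BasedFunctor.comp e'' (BasedFunctor.comp
          (BasedFunctor.comp (congrLeft γ (AlgSt.overMap h))
            (pasteMid (AlgSt.toOverCat V') (AlgSt.overMap k) (AlgSt.overMap h)))
          (pasteMidR (AlgSt.overMap k)
            (BasedFunctor.comp (FibCat.fpLift x (AlgSt.overMap h) α) (swap f y)) (fpFst y f))))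
        (whiskerRightIso ε4 (BasedFunctor.comp (fpFst (AlgSt.overMap k) (fpFst y f))
          (AlgSt.ofOverCat V')))).hom
    rwa [e3] at h1
  subst hg₁def
  exact P_of_rep_cover P hP₂ (AlgSt.overMap h) (AlgSt.overMap k) V (BasedFunctor.id _)
    ⟨(AlgSp.yon S).obj U, AlgSp.IsAlgSpace.yon_obj U⟩ e he
    ⟨(AlgSp.yon S).obj V', AlgSp.IsAlgSpace.yon_obj V'⟩ ez hcov F' e'' he'' key

/-- the identity of a slice category is representable with every base change stable property of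
identities. -/
theorem with_id_overCat (Q : MorphismProperty (AlgSp.Sp S)) (hQ : BC Q) (W : Over S)
    (hid : Q (𝟙 ((AlgSp.yon S).obj W))) :
    AlgSt.RepByAlgSpWith Q (BasedFunctor.id (FibCat.overCat W)) := by
  have iW := Groth.Agent.S6411.over_isFibGrpd W
  have iW' : IsFibGrpd (AlgSt.ofSp ((AlgSp.yon S).obj W)).p := ofSp_isFibGrpd _
  have h1 : AlgSt.RepByAlgSpWith Q (Stk.ofPshMap (𝟙 ((AlgSp.yon S).obj W).obj)) :=
    with_ofPshMap_of_prop Q hQ ⟨(AlgSp.yon S).obj W, AlgSp.IsAlgSpace.yon_obj W⟩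
      ⟨(AlgSp.yon S).obj W, AlgSp.IsAlgSpace.yon_obj W⟩ (𝟙 ((AlgSp.yon S).obj W)) hid
  exact with_precomp_equiv Q iW iW' iW (AlgSt.ofOverCat W) (ofOverCat_isEquivOver W)
    (BasedFunctor.comp (Stk.ofPshMap (𝟙 ((AlgSp.yon S).obj W).obj)) (AlgSt.toOverCat W))
    ((with_postcomp_equiv Q iW' iW' iW (Stk.ofPshMap (𝟙 ((AlgSp.yon S).obj W).obj))
      (AlgSt.toOverCat W) (toOverCat_isEquivOver W)).mpr h1)

/-- base change of a property read on chart squares to a smooth chart of the target. -/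
theorem locQ_fpFst_smooth_chart {P : MorphismProperty (AlgSp.Sp S)}
    (hP : AlgSp.IsSmoothLocalST P) {𝒜 : AlgSt.Cat S}
    (h𝒜 : AlgSt.IsAlgStack Scheme.fppfPrecoverage 𝒜)
    (h𝒵 : AlgSt.IsAlgStack Scheme.fppfPrecoverage 𝒵) (m : 𝒜 ⥤ᵇ 𝒵) (H : AlgSt.LocQ P m)
    {W : Over S} (a : FibCat.overCat W ⥤ᵇ 𝒵)
    (ha : AlgSt.RepByAlgSpWith (AlgSp.LocP @Smooth) a) : AlgSt.LocQ P (fpFst a m) := by
  have iA := h𝒜.isStack.1
  have iZ := h𝒵.isStack.1
  have iW := Groth.Agent.S6411.over_isFibGrpd W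
  have hfp : AlgSt.IsAlgStack Scheme.fppfPrecoverage (fp a m) :=
    Groth.Agent.H32.AlgStackFp.isAlgStack_fp iZ h𝒵.diag (isAlgStack_overCat W) h𝒜 a m
  obtain ⟨U, c, hc1, hc2⟩ := hfp.atlas
  have iU := Groth.Agent.S6411.over_isFibGrpd U
  have i1 : IsFibGrpd (fp a m).p := fp_isFibGrpd _ _ iW iA iZ
  have i2 : IsFibGrpd (fp m a).p := fp_isFibGrpd _ _ iA iW iZ
  have hA : AlgSt.RepByAlgSpWith (AlgSp.LocP @Smooth) (BasedFunctor.comp c (swap a m)) :=
    (with_postcomp_equiv _ iU i1 i2 c (swap a m) (swap_isEquivOver a m)).mpr hc1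
  obtain ⟨h, ⟨β⟩⟩ := Groth.Agent.H65.OverYoneda.exists_overMap_iso
    (BasedFunctor.comp c (fpFst a m))
  have hPh : P ((AlgSp.yon S).map h) :=
    prop_of_chart hP iA iZ m H a ha (BasedFunctor.comp c (swap a m)) hA h β
  have hid : AlgSp.LocP @Smooth (𝟙 ((AlgSp.yon S).obj W)) := by
    have := etale_ci.{u}
    exact locP_smooth_of_repWith_etale _ (AlgSp.repWith_id @Etale W)
  exact ⟨U, W, c, BasedFunctor.id _, h, β, hc1, hc2,
    with_id_overCat _ good_smooth.bc W hid, hPh⟩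

/-- descent along the base for an fppf covering of algebraic stacks. -/
theorem locQ_of_fpFst_cover {P : MorphismProperty (AlgSp.Sp S)}
    (hP : AlgSp.IsSmoothLocalST P) (hP₂ : AlgSp.IsLocalOnBase AlgSp.IsFppfCover P)
    (h𝒳 : AlgSt.IsAlgStack Scheme.fppfPrecoverage 𝒳)
    (h𝒴 : AlgSt.IsAlgStack Scheme.fppfPrecoverage 𝒴)
    (h𝒵 : AlgSt.IsAlgStack Scheme.fppfPrecoverage 𝒵) (f : 𝒳 ⥤ᵇ 𝒴) (z : 𝒵 ⥤ᵇ 𝒴)
    (hz₁ : AlgSt.LocQ (AlgSp.LocP @Flat) z)
    (hz₂ : AlgSt.LocQ (AlgSp.LocP @LocallyOfFinitePresentation) z)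
    (hz₃ : AlgSt.IsSurjective z) (H : AlgSt.LocQ P (fpFst z f)) : AlgSt.LocQ P f := by
  have iX := h𝒳.isStack.1
  have iY := h𝒴.isStack.1
  have iZ := h𝒵.isStack.1
  obtain ⟨W, a, ha1, -, c1, c2, c3⟩ := exists_fppf_chart h𝒵 h𝒴 z hz₁ hz₂ hz₃
  have iW := Groth.Agent.S6411.over_isFibGrpd W
  have i1 : IsFibGrpd (fp z f).p := fp_isFibGrpd _ _ iZ iX iY
  have hfp : AlgSt.IsAlgStack Scheme.fppfPrecoverage (fp z f) :=
    Groth.Agent.H32.AlgStackFp.isAlgStack_fp iY h𝒴.diag h𝒵 h𝒳 z f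
  have H1 : AlgSt.LocQ P (fpFst a (fpFst z f)) :=
    locQ_fpFst_smooth_chart hP hfp h𝒵 (fpFst z f) H a ha1
  have H2 : AlgSt.LocQ P (fpFst (BasedFunctor.comp a z) f) :=
    locQ_precomp_equiv P (fp_isFibGrpd _ _ iW iX iY) (fp_isFibGrpd _ _ iW i1 iZ)
      (paste a z f) (paste_isEquivOver a z f) (fpFst a (fpFst z f)) H1
  exact locQ_of_fpFst_chart_cover hP hP₂ h𝒳 h𝒴 f (BasedFunctor.comp a z) c1 c2 c3 H2

end Groth.Agent.H65.LocQBase
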