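import Groth.Agent.H65.LocQ
import Groth.Agent.H32.Cover

/-!
# Composition of smooth chart squares (helper65)
-/

set_option autoImplicit false
open CategoryTheory CategoryTheory.Limits AlgebraicGeometry Opposite
universe u

namespace Groth.Agent.H65.LocQComp

open FibCat Stk Groth.Agent.H32.FibProd Groth.Agent.H32.Fp2 Groth.Agent.H32.Fp3
  Groth.Agent.H32.Fp4 Groth.Agent.H32.SpBridge Groth.Agent.H32.PFacts
  Groth.Agent.H32.AlgStackEquiv Groth.Agent.H32.AtlasRep Groth.Agent.H32.SpComp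
  Groth.Agent.H32.StackOps Groth.Agent.H32.SectSt Groth.Agent.H32.Repr Groth.Agent.H32.SpTrack
  Groth.Agent.H32.PshFp Groth.Agent.H32.Sect Groth.Agent.H32.DiagDescent Groth.Agent.H32.Cover
  Groth.Agent.H65.QC Groth.Agent.H65.SpMaps Groth.Agent.H65.LocQ

variable {S : Scheme.{u}} {𝒳 𝒴 𝒵 : AlgSt.Cat S}

theorem yon_map_comp_eq {U V W : Over S} (h : U ⟶ V) (k : V ⟶ W) :
    pshMapOf (BasedFunctor.comp (AlgSt.toOverCat U) (BasedFunctor.comp
      (BasedFunctor.comp (AlgSt.overMap h) (AlgSt.overMap k)) (AlgSt.ofOverCat W))) =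
      ((AlgSp.yon S).map h).hom ≫ ((AlgSp.yon S).map k).hom := by
  have e2 : pshMapOf (BasedFunctor.comp (Stk.ofPshMap ((AlgSp.yon S).map h).hom)
      (Stk.ofPshMap ((AlgSp.yon S).map k).hom)) =
      ((AlgSp.yon S).map h).hom ≫ ((AlgSp.yon S).map k).hom := by
    rw [pshMapOf_comp, pshMapOf_ofPshMap, pshMapOf_ofPshMap]
  exact e2

/-- two composable good squares of smooth charts: the property `P` of the composite `f ≫ g`
(read on one square) holds for the composite of the two morphisms of schemes. -/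
theorem prop_comp_of_squares {P : MorphismProperty (AlgSp.Sp S)} (hP : AlgSp.IsSmoothLocalST P)
    (iX : IsFibGrpd 𝒳.p) (iY : IsFibGrpd 𝒴.p) (iZ : IsFibGrpd 𝒵.p) (f : 𝒳 ⥤ᵇ 𝒴) (g : 𝒴 ⥤ᵇ 𝒵)
    (hLoc : AlgSt.LocQ P (BasedFunctor.comp f g))
    {V W : Over S} (y : FibCat.overCat V ⥤ᵇ 𝒴) (z : FibCat.overCat W ⥤ᵇ 𝒵) (k : V ⟶ W)
    (β : BasedFunctor.comp y g ≅ BasedFunctor.comp (AlgSt.overMap k) z)
    (hz : AlgSt.RepByAlgSpWith (AlgSp.LocP @Smooth) z)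
    (hℓg : AlgSt.RepByAlgSpWith (AlgSp.LocP @Smooth) (FibCat.fpLift y (AlgSt.overMap k) β))
    {U : Over S} (x : FibCat.overCat U ⥤ᵇ 𝒳) (h : U ⟶ V)
    (α : BasedFunctor.comp x f ≅ BasedFunctor.comp (AlgSt.overMap h) y)
    (hℓf : AlgSt.RepByAlgSpWith (AlgSp.LocP @Smooth) (FibCat.fpLift x (AlgSt.overMap h) α)) :
    P ((AlgSp.yon S).map h ≫ (AlgSp.yon S).map k) := by
  have iU := Groth.Agent.S6411.over_isFibGrpd U
  have iV := Groth.Agent.S6411.over_isFibGrpd V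
  have iW := Groth.Agent.S6411.over_isFibGrpd W
  have iGZ : IsFibGrpd (fp g z).p := fp_isFibGrpd _ _ iY iW iZ
  have iFY : IsFibGrpd (fp f y).p := fp_isFibGrpd _ _ iX iV iY
  have iFG : IsFibGrpd (fp f (fpFst g z)).p := fp_isFibGrpd _ _ iX iGZ iY
  have iPfg : IsFibGrpd (fp (BasedFunctor.comp f g) z).p := fp_isFibGrpd _ _ iX iW iZ
  obtain ⟨Ψ, hΨdef⟩ : ∃ Ψ : FibCat.overCat U ⥤ᵇ fp f (fpFst g z),
      Ψ = BasedFunctor.comp (FibCat.fpLift x (AlgSt.overMap h) α)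
        (pasteMidR f (FibCat.fpLift y (AlgSt.overMap k) β) (fpFst g z)) := ⟨_, rfl⟩
  have hΨ : AlgSt.RepByAlgSpWith (AlgSp.LocP @Smooth) Ψ := by
    rw [hΨdef]
    exact with_comp good_smooth iU iFY iFG _ _ hℓf
      (with_pasteMidR _ iX iGZ iY iV f (FibCat.fpLift y (AlgSt.overMap k) β) (fpFst g z) hℓg)
  obtain ⟨E2, hE2, -, ⟨ε2⟩⟩ := exists_inv_isEquivOver (paste_isEquivOver f g z)
  obtain ⟨L, hLdef⟩ : ∃ L : FibCat.overCat U ⥤ᵇ fp (BasedFunctor.comp f g) z,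
      L = BasedFunctor.comp Ψ E2 := ⟨_, rfl⟩
  have hL : AlgSt.RepByAlgSpWith (AlgSp.LocP @Smooth) L := by
    rw [hLdef]
    exact (with_postcomp_equiv _ iU iFG iPfg Ψ E2 hE2).mpr hΨ
  obtain ⟨a, ⟨γ⟩⟩ := Groth.Agent.H65.OverYoneda.exists_overMap_iso
    (BasedFunctor.comp L (fpSnd (BasedFunctor.comp f g) z))
  have hℓ := with_of_iso _ iU iPfg
    (liftIso (BasedFunctor.comp f g) z L (AlgSt.overMap a) γ).symm hL
  obtain ⟨U₀, W₀, x₀, z₀, a₀, α₀, r1, r2, r3, r4⟩ := hLoc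
  have hPa : P ((AlgSp.yon S).map a) :=
    prop_of_squares hP iX iZ (BasedFunctor.comp f g) x₀ z₀ a₀ α₀ r1 r2 r3 r4
      (BasedFunctor.comp L (fpFst (BasedFunctor.comp f g) z)) z a _ hz hℓ
  have ea : (AlgSp.yon S).map a = (AlgSp.yon S).map h ≫ (AlgSp.yon S).map k := by
    apply ObjectProperty.hom_ext
    rw [yon_map_eq_of_iso _ a γ]
    refine Eq.trans ?_ (yon_map_comp_eq h k)
    apply pshMapOf_congr
    subst hLdef hΨdef
    exact (whiskerLeftIso (AlgSt.toOverCat U) (whiskerRightIso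
      (whiskerLeftIso (BasedFunctor.comp (FibCat.fpLift x (AlgSt.overMap h) α)
        (pasteMidR f (FibCat.fpLift y (AlgSt.overMap k) β) (fpFst g z)))
        (whiskerRightIso ε2 (BasedFunctor.comp (fpSnd f (fpFst g z)) (fpSnd g z))))
      (AlgSt.ofOverCat W))).hom
  rw [← ea]
  exact hPa

end Groth.Agent.H65.LocQComp
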