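import Groth.Agent.H65.LocQRep

/-!
# Scheme charts of fppf coverings of algebraic stacks (helper65)
-/

set_option autoImplicit false
open CategoryTheory CategoryTheory.Limits AlgebraicGeometry Opposite
universe u

namespace Groth.Agent.H65.LocQCover

open FibCat Stk Groth.Agent.H32.FibProd Groth.Agent.H32.Fp2 Groth.Agent.H32.Fp3
  Groth.Agent.H32.Fp4 Groth.Agent.H32.SpBridge Groth.Agent.H32.PFacts
  Groth.Agent.H32.AlgStackEquiv Groth.Agent.H32.AtlasRep Groth.Agent.H32.SpComp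
  Groth.Agent.H32.StackOps Groth.Agent.H32.SectSt Groth.Agent.H32.Repr Groth.Agent.H32.SpTrack
  Groth.Agent.H32.PshFp Groth.Agent.H32.Sect Groth.Agent.H32.DiagDescent Groth.Agent.H32.Cover
  Groth.Agent.H32.DiagRep Groth.Agent.H32.GoodMore Groth.Agent.H32.DiagApps
  Groth.Agent.H65.QC Groth.Agent.H65.SpMaps Groth.Agent.H65.LocQ Groth.Agent.H65.DiagLfp
  Groth.Agent.H65.LocQDesc Groth.Agent.H65.LocQPts Groth.Agent.H65.LocQRep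

variable {S : Scheme.{u}} {𝒳 𝒴 𝒵 : AlgSt.Cat S}

/-- a surjective composite of a surjective chart. -/
theorem with_surj_chart_comp (h𝒵 : AlgSt.IsAlgStack Scheme.fppfPrecoverage 𝒵)
    (h𝒴 : AlgSt.IsAlgStack Scheme.fppfPrecoverage 𝒴) (z : 𝒵 ⥤ᵇ 𝒴) (hz : AlgSt.IsSurjective z)
    {W : Over S} (a : FibCat.overCat W ⥤ᵇ 𝒵)
    (ha : AlgSt.RepByAlgSpWith AlgSp.IsSurjectiveMor a) :
    AlgSt.RepByAlgSpWith AlgSp.IsSurjectiveMor (BasedFunctor.comp a z) :=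
  (Groth.Agent.S12819.result (isAlgStack_overCat W) h𝒴 _ (rep1_chart h𝒴 _)).mp
    (isSurjective_comp a z
      ((Groth.Agent.S12819.result (isAlgStack_overCat W) h𝒵 a (rep1_of_with ha)).mpr ha) hz)

/-- a flat, locally finitely presented, surjective morphism of algebraic stacks composed with an
atlas of its source is a representable fppf covering by a scheme. -/
theorem exists_fppf_chart (h𝒵 : AlgSt.IsAlgStack Scheme.fppfPrecoverage 𝒵)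
    (h𝒴 : AlgSt.IsAlgStack Scheme.fppfPrecoverage 𝒴) (z : 𝒵 ⥤ᵇ 𝒴)
    (hz₁ : AlgSt.LocQ (AlgSp.LocP @Flat) z)
    (hz₂ : AlgSt.LocQ (AlgSp.LocP @LocallyOfFinitePresentation) z)
    (hz₃ : AlgSt.IsSurjective z) :
    ∃ (W : Over S) (a : FibCat.overCat W ⥤ᵇ 𝒵),
      AlgSt.RepByAlgSpWith (AlgSp.LocP @Smooth) a ∧ AlgSt.RepByAlgSpWith AlgSp.IsSurjectiveMor a ∧
      AlgSt.RepByAlgSpWith (AlgSp.LocP @Flat) (BasedFunctor.comp a z) ∧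
      AlgSt.RepByAlgSpWith (AlgSp.LocP @LocallyOfFinitePresentation) (BasedFunctor.comp a z) ∧
      AlgSt.RepByAlgSpWith AlgSp.IsSurjectiveMor (BasedFunctor.comp a z) := by
  obtain ⟨W, a, ha1, ha2⟩ := h𝒵.atlas
  exact ⟨W, a, ha1, ha2,
    with_chart_comp Groth.Agent.H65.SmoothST.isSmoothLocalST_flat good_flat flat_of_smooth
      h𝒵 h𝒴 z hz₁ a ha1,
    with_chart_comp Groth.Agent.H65.SmoothST.isSmoothLocalST_lfp good_lfp lfp_of_smooth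
      h𝒵 h𝒴 z hz₂ a ha1,
    with_surj_chart_comp h𝒵 h𝒴 z hz₃ a ha2⟩

/-- a property of the projection `𝒵 ×_𝒴 𝒳 ⟶ 𝒵` passes to the projection `W ×_𝒴 𝒳 ⟶ W` for a
chart `W ⟶ 𝒵`. -/
theorem with_fpFst_chart (P : MorphismProperty (AlgSp.Sp S)) (i𝒳 : IsFibGrpd 𝒳.p)
    (i𝒴 : IsFibGrpd 𝒴.p) (i𝒵 : IsFibGrpd 𝒵.p) (f : 𝒳 ⥤ᵇ 𝒴) (z : 𝒵 ⥤ᵇ 𝒴) {𝒲 : AlgSt.Cat S}
    (i𝒲 : IsFibGrpd 𝒲.p) (a : 𝒲 ⥤ᵇ 𝒵) (H : AlgSt.RepByAlgSpWith P (fpFst z f)) :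
    AlgSt.RepByAlgSpWith P (fpFst (BasedFunctor.comp a z) f) := by
  have i1 : IsFibGrpd (fp z f).p := fp_isFibGrpd _ _ i𝒵 i𝒳 i𝒴
  have i2 : IsFibGrpd (fp (BasedFunctor.comp a z) f).p := fp_isFibGrpd _ _ i𝒲 i𝒳 i𝒴
  have i3 : IsFibGrpd (fp a (fpFst z f)).p := fp_isFibGrpd _ _ i𝒲 i1 i𝒵
  exact with_precomp_equiv P i2 i3 i𝒲 (paste a z f) (paste_isEquivOver a z f) _
    (Groth.Agent.S12779.result i1 i𝒵 i𝒲 P (fpFst z f) a H)

end Groth.Agent.H65.LocQCover
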