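import Groth.Agent.H65.LocQCover
import Groth.Agent.S13039

/-!
# Invariance of properties read on chart squares, and descent along the base for properties
stable under composition (helper65)
-/

set_option autoImplicit false
open CategoryTheory CategoryTheory.Limits AlgebraicGeometry Opposite
universe u

namespace Groth.Agent.H65.LocQIso

open FibCat Stk Groth.Agent.H32.FibProd Groth.Agent.H32.Fp2 Groth.Agent.H32.Fp3
  Groth.Agent.H32.Fp4 Groth.Agent.H32.SpBridge Groth.Agent.H32.PFacts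
  Groth.Agent.H32.AlgStackEquiv Groth.Agent.H32.AtlasRep Groth.Agent.H32.SpComp
  Groth.Agent.H32.StackOps Groth.Agent.H32.SectSt Groth.Agent.H32.Repr Groth.Agent.H32.SpTrack
  Groth.Agent.H32.PshFp Groth.Agent.H32.Sect Groth.Agent.H32.DiagDescent Groth.Agent.H32.Cover
  Groth.Agent.H32.DiagRep Groth.Agent.H32.GoodMore Groth.Agent.H32.DiagApps
  Groth.Agent.H65.QC Groth.Agent.H65.SpMaps Groth.Agent.H65.LocQ Groth.Agent.H65.DiagLfp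
  Groth.Agent.H65.LocQDesc Groth.Agent.H65.LocQPts Groth.Agent.H65.LocQRep
  Groth.Agent.H65.LocQCover

variable {S : Scheme.{u}} {𝒳 𝒴 𝒵 : AlgSt.Cat S}

/-- invariance under 2-isomorphism. -/
theorem locQ_of_iso (P : MorphismProperty (AlgSp.Sp S)) {f f' : 𝒳 ⥤ᵇ 𝒴} (e : f ≅ f')
    (h : AlgSt.LocQ P f) : AlgSt.LocQ P f' := by
  obtain ⟨U, V, x, y, k, α, h1, h2, h3, h4⟩ := h
  exact ⟨U, V, x, y, k, (whiskerLeftIso x e).symm ≪≫ α, h1, h2, h3, h4⟩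

/-- invariance under precomposition with an equivalence. -/
theorem locQ_precomp_equiv (P : MorphismProperty (AlgSp.Sp S)) {𝒳' : AlgSt.Cat S}
    (i𝒳' : IsFibGrpd 𝒳'.p) (i𝒳 : IsFibGrpd 𝒳.p) (E : 𝒳' ⥤ᵇ 𝒳) (hE : IsEquivOver E)
    (g : 𝒳 ⥤ᵇ 𝒴) (h : AlgSt.LocQ P g) : AlgSt.LocQ P (BasedFunctor.comp E g) := by
  obtain ⟨U, V, x, y, k, α, h1, h2, h3, h4⟩ := h
  obtain ⟨E', hE', -, ⟨ε⟩⟩ := exists_inv_isEquivOver hE
  have iU := Groth.Agent.S6411.over_isFibGrpd U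
  refine ⟨U, V, BasedFunctor.comp x E', y, k, ?_,
    (with_postcomp_equiv _ iU i𝒳 i𝒳' x E' hE').mpr h1,
    (with_postcomp_equiv _ iU i𝒳 i𝒳' x E' hE').mpr h2, h3, h4⟩
  exact whiskerLeftIso x (whiskerRightIso ε g) ≪≫ α

/-- descent along the base from descent along the source, for a property stable under
composition which the covering has: representable coverings. -/
theorem locQ_of_fpFst_rep_cover {P : MorphismProperty (AlgSp.Sp S)}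
    (hP : AlgSp.IsSmoothLocalST P) (hPs : AlgSp.IsLocalOnSource AlgSp.IsFppfCover P)
    (hPc : ∀ ⦃X₁ Y₁ Z₁ : AlgSp.Sp S⦄, AlgSp.IsAlgSpace X₁ → AlgSp.IsAlgSpace Y₁ →
      AlgSp.IsAlgSpace Z₁ → ∀ (a : X₁ ⟶ Y₁) (b : Y₁ ⟶ Z₁), P a → P b → P (a ≫ b))
    (h𝒳 : AlgSt.IsAlgStack Scheme.fppfPrecoverage 𝒳)
    (h𝒴 : AlgSt.IsAlgStack Scheme.fppfPrecoverage 𝒴)
    (h𝒵 : AlgSt.IsAlgStack Scheme.fppfPrecoverage 𝒵) (f : 𝒳 ⥤ᵇ 𝒴) (z : 𝒵 ⥤ᵇ 𝒴)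
    (hz₁ : AlgSt.RepByAlgSpWith (AlgSp.LocP @Flat) z)
    (hz₂ : AlgSt.RepByAlgSpWith (AlgSp.LocP @LocallyOfFinitePresentation) z)
    (hz₃ : AlgSt.RepByAlgSpWith AlgSp.IsSurjectiveMor z) (hzP : AlgSt.LocQ P z)
    (H : AlgSt.LocQ P (fpFst z f)) : AlgSt.LocQ P f := by
  have hfp : AlgSt.IsAlgStack Scheme.fppfPrecoverage (fp z f) :=
    Groth.Agent.H32.AlgStackFp.isAlgStack_fp h𝒴.isStack.1 h𝒴.diag h𝒵 h𝒳 z f
  have H1 : AlgSt.LocQ P (BasedFunctor.comp (fpFst z f) z) :=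
    Groth.Agent.S13038.result S P hP hPc (fp z f) 𝒵 𝒴 hfp h𝒵 h𝒴 (fpFst z f) z H hzP
  have H2 : AlgSt.LocQ P (BasedFunctor.comp (fpSnd z f) f) := locQ_of_iso P (fpIso z f) H1
  exact locQ_of_comp_of_rep_cover hP hPs hfp h𝒳 h𝒴 (fpSnd z f) f
    (repByAlgSpWith_fpSnd _ z f hz₁) (repByAlgSpWith_fpSnd _ z f hz₂)
    (repByAlgSpWith_fpSnd _ z f hz₃) H2

end Groth.Agent.H65.LocQIso
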