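import Groth.Agent.H65.LocQLift
import Groth.Agent.S10292

/-!
# Lifting valuation rings along flat morphisms of algebraic stacks (helper65)
-/

set_option autoImplicit false
open CategoryTheory CategoryTheory.Limits AlgebraicGeometry Opposite
universe u

namespace Groth.Agent.H65.LocQVal

open FibCat Stk Groth.Agent.H32.FibProd Groth.Agent.H32.Fp2 Groth.Agent.H32.Fp3
  Groth.Agent.H32.Fp4 Groth.Agent.H32.SpBridge Groth.Agent.H32.PFacts
  Groth.Agent.H32.AlgStackEquiv Groth.Agent.H32.AtlasRep Groth.Agent.H32.SpComp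
  Groth.Agent.H32.StackOps Groth.Agent.H32.SectSt Groth.Agent.H32.Repr Groth.Agent.H32.SpTrack
  Groth.Agent.H32.PshFp Groth.Agent.H32.Sect Groth.Agent.H32.DiagDescent Groth.Agent.H32.Cover
  Groth.Agent.H32.DiagRep Groth.Agent.H32.GoodMore Groth.Agent.H32.DiagApps
  Groth.Agent.H65.QC Groth.Agent.H65.SpMaps Groth.Agent.H65.LocQ Groth.Agent.H65.DiagLfp
  Groth.Agent.H65.LocQDesc Groth.Agent.H65.LocQPts Groth.Agent.H65.LocQRep
  Groth.Agent.H65.LocQCover Groth.Agent.H65.LocQIso Groth.Agent.H65.LocQBase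
  Groth.Agent.H65.LocQLift

variable {S : Scheme.{u}} {𝒳 𝒴 𝒵 : AlgSt.Cat S}

/-- composition functors compose. -/
theorem overMap_comp_iso {T U V : Over S} (a : T ⟶ U) (b : U ⟶ V) :
    Nonempty (BasedFunctor.comp (AlgSt.overMap a) (AlgSt.overMap b) ≅ AlgSt.overMap (a ≫ b)) := by
  obtain ⟨m, ⟨γ⟩⟩ := Groth.Agent.H65.OverYoneda.exists_overMap_iso
    (BasedFunctor.comp (AlgSt.overMap a) (AlgSt.overMap b))
  have em : (AlgSp.yon S).map m = (AlgSp.yon S).map (a ≫ b) := by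
    rw [Functor.map_comp]
    apply ObjectProperty.hom_ext
    rw [yon_map_eq_of_iso _ m γ]
    have e1 : pshMapOf (BasedFunctor.comp (AlgSt.toOverCat T) (BasedFunctor.comp
        (BasedFunctor.comp (AlgSt.overMap a) (AlgSt.overMap b)) (AlgSt.ofOverCat V))) =
        pshMapOf (BasedFunctor.comp (Stk.ofPshMap ((AlgSp.yon S).map a).hom)
          (Stk.ofPshMap ((AlgSp.yon S).map b).hom)) := rfl
    rw [e1, pshMapOf_comp, pshMapOf_ofPshMap, pshMapOf_ofPshMap]
    rfl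
  have hm : m = a ≫ b := (AlgSp.yon S).map_injective em
  subst hm
  exact ⟨γ⟩

/-- a flat morphism of algebraic stacks: every object of the target over a scheme `U` lifts along
a flat morphism `W ⟶ U` whose image contains every point of `U` mapping into the image of `f`. -/
theorem exists_flat_chart_lift {𝒳' : AlgSt.Cat S}
    (h𝒳' : AlgSt.IsAlgStack Scheme.fppfPrecoverage 𝒳')
    (h𝒳 : AlgSt.IsAlgStack Scheme.fppfPrecoverage 𝒳) (f : 𝒳' ⥤ᵇ 𝒳)
    (hf₁ : AlgSt.LocQ (AlgSp.LocP @Flat) f) {U : Over S} (x : FibCat.overCat U ⥤ᵇ 𝒳) :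
    ∃ (W : Over S) (g : W ⟶ U) (x' : FibCat.overCat W ⥤ᵇ 𝒳'),
      AlgSp.LocP @Flat ((AlgSp.yon S).map g) ∧
      Nonempty (BasedFunctor.comp x' f ≅ BasedFunctor.comp (AlgSt.overMap g) x) ∧
      ∀ u : ↥U.left, AlgSt.Points.ofChart x u ∈ Set.range (AlgSt.Points.map f) →
        ∃ t : ↥W.left, g.left t = u := by
  have iX := h𝒳.isStack.1
  have iU := Groth.Agent.S6411.over_isFibGrpd U
  have hfp : AlgSt.IsAlgStack Scheme.fppfPrecoverage (fp x f) :=
    Groth.Agent.H32.AlgStackFp.isAlgStack_fp iX h𝒳.diag (isAlgStack_overCat U) h𝒳' x f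
  obtain ⟨W, a, ha1, ha2⟩ := hfp.atlas
  have iW := Groth.Agent.S6411.over_isFibGrpd W
  obtain ⟨g, ⟨β⟩⟩ := Groth.Agent.H65.OverYoneda.exists_overMap_iso
    (BasedFunctor.comp a (fpFst x f))
  have b1 : AlgSt.LocQ (AlgSp.LocP @Flat) (fpFst x f) :=
    Groth.Agent.S13039.result S _ Groth.Agent.H65.SmoothST.isSmoothLocalST_flat good_flat.bc
      𝒳' 𝒳 (FibCat.overCat U) h𝒳' h𝒳 (isAlgStack_overCat U) f x hf₁
  have c1 : AlgSt.RepByAlgSpWith (AlgSp.LocP @Flat) (AlgSt.overMap g) :=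
    with_of_iso _ iW iU β.symm
      (with_chart_comp Groth.Agent.H65.SmoothST.isSmoothLocalST_flat good_flat flat_of_smooth
        hfp (isAlgStack_overCat U) (fpFst x f) b1 a ha1)
  exact ⟨W, g, BasedFunctor.comp a (fpSnd x f), prop_of_with_overMap _ good_flat.loc g c1,
    ⟨(whiskerLeftIso a (fpIso x f)).symm ≪≫ whiskerRightIso β x⟩,
    fun u hu => exists_chart_point_lift h𝒳' h𝒳 f x a ha2 g β u hu⟩

end Groth.Agent.H65.LocQVal
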