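import Mathlib

set_option autoImplicit false
open Polynomial

namespace Groth.Agent.H65.LogConn

universe u

section basics

variable {R : Type u} [CommRing R] {r : ℕ} (θ : Fin r → R)

/-- the constant `c_i = ∏_{k ≠ i} (θ_i - θ_k)` -/
def cc (i : Fin r) : R := ∏ k ∈ Finset.univ.erase i, (θ i - θ k)

theorem isUnit_cc (hθ : ∀ i k, i ≠ k → IsUnit (θ i - θ k)) (i : Fin r) : IsUnit (cc θ i) := by
  unfold cc
  apply Finset.prod_induction _ IsUnit (fun a b ha hb => ha.mul hb) isUnit_one
  intro k hk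
  exact hθ i k (Finset.ne_of_mem_erase hk).symm

theorem eval_Theta (i : Fin r) : (∏ k, (X - C (θ k))).eval (θ i) = 0 := by
  rw [eval_prod]
  exact Finset.prod_eq_zero (Finset.mem_univ i) (by simp)

theorem eval_derivative_Theta (i : Fin r) :
    (derivative (∏ k, (X - C (θ k)))).eval (θ i) = cc θ i := by
  rw [← Finset.mul_prod_erase Finset.univ (fun k => X - C (θ k)) (Finset.mem_univ i),
    derivative_mul]
  simp [cc, eval_prod]

theorem prod_dvd_of_eval_eq_zero (hθ : ∀ i k, i ≠ k → IsUnit (θ i - θ k)) (p : R[X])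
    (hp : ∀ i, p.eval (θ i) = 0) : (∏ k, (X - C (θ k))) ∣ p := by
  have key : ∀ s : Finset (Fin r), (∏ k ∈ s, (X - C (θ k))) ∣ p := by
    intro s
    refine Finset.induction_on s ?_ ?_
    · simp
    · intro a s ha ih
      obtain ⟨q, hq⟩ := ih
      have h1 : p.eval (θ a) = (∏ k ∈ s, (θ a - θ k)) * q.eval (θ a) := by
        rw [hq, eval_mul, eval_prod]
        simp
      have hu : IsUnit (∏ k ∈ s, (θ a - θ k)) := by
        apply Finset.prod_induction _ IsUnit (fun a b ha hb => ha.mul hb) isUnit_one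
        intro k hk
        exact hθ a k (fun h => ha (by rw [h]; exact hk))
      have h2 : q.eval (θ a) = 0 := by
        have h3 := hp a
        rw [h1] at h3
        exact hu.mul_right_eq_zero.mp h3
      obtain ⟨q', hq'⟩ := dvd_iff_isRoot.mpr h2
      refine ⟨q', ?_⟩
      rw [Finset.prod_insert ha, hq, hq']
      ring
  exact key Finset.univ

theorem pi_induction {d : ℕ} (P : (Fin d → R[X]) → Prop) (h0 : P 0)
    (hadd : ∀ a b, P a → P b → P (a + b))
    (hbase : ∀ (p : R[X]) (m : Fin d → R), P (p • fun j => C (m j)))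
    (v : Fin d → R[X]) : P v := by
  have hv : v = ∑ j, (v j) • (fun j' => C ((Pi.single j 1 : Fin d → R) j')) := by
    funext j'
    rw [Finset.sum_apply, Finset.sum_eq_single j']
    · simp
    · intro b _ hb
      simp [Pi.single_apply, Ne.symm hb]
    · intro h
      exact absurd (Finset.mem_univ _) h
  rw [hv]
  exact Finset.sum_induction _ P hadd h0 (fun j _ => hbase _ _)

theorem eval_D₀ {d : ℕ} (Θ : R[X]) (hΘ : Θ = ∏ i, (X - C (θ i)))
    (D₀ : (Fin d → R[X]) →+ (Fin d → R[X]))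
    (hD₀ : ∀ (p : R[X]) (v : Fin d → R[X]),
      D₀ (p • v) = (Θ * derivative p) • v + p • D₀ v)
    (Res : Fin r → ((Fin d → R) →ₗ[R] (Fin d → R)))
    (hRes : ∀ (i : Fin r) (m : Fin d → R) (j : Fin d),
      (D₀ (fun j => C (m j)) j).eval (θ i) =
        (∏ k ∈ Finset.univ.erase i, (θ i - θ k)) * Res i m j)
    (i : Fin r) (v : Fin d → R[X]) (j : Fin d) :
    (D₀ v j).eval (θ i) = cc θ i * Res i (fun j => (v j).eval (θ i)) j := by
  have hΘi : Θ.eval (θ i) = 0 := by rw [hΘ]; exact eval_Theta θ i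
  revert j
  refine pi_induction (fun v => ∀ j, (D₀ v j).eval (θ i) =
    cc θ i * Res i (fun j => (v j).eval (θ i)) j) ?_ ?_ ?_ v
  · intro j
    have h0 : (fun j => ((0 : Fin d → R[X]) j).eval (θ i)) = (0 : Fin d → R) := by
      funext j; simp
    rw [h0, map_zero, map_zero]
    simp
  · intro a b ha hb j
    have hab : (fun j => ((a + b) j).eval (θ i)) =
        (fun j => (a j).eval (θ i)) + (fun j => (b j).eval (θ i)) := by
      funext j; simp
    rw [hab, map_add, map_add, Pi.add_apply, Pi.add_apply, eval_add, ha j, hb j, mul_add]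
  · intro p m j
    have hpm : (fun j' => ((p • fun j => C (m j)) j').eval (θ i)) = (p.eval (θ i)) • m := by
      funext j'; simp
    rw [hpm, hD₀, map_smul]
    simp only [Pi.add_apply, Pi.smul_apply, smul_eq_mul, eval_add, eval_mul, hΘi, zero_mul,
      zero_add, hRes, cc, eval_C]
    ring

theorem exists_inv {d : ℕ} [Algebra ℂ R] (T : (Fin d → R) →ₗ[R] (Fin d → R)) (χ : ℂ[X])
    (hT : T.charpoly = χ.map (algebraMap ℂ R)) (c : ℂ) (hc : χ.eval c ≠ 0) :
    ∃ S : (Fin d → R) →ₗ[R] (Fin d → R),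
      (∀ m, S (T m - algebraMap ℂ R c • m) = m) ∧
      (∀ m, T (S m) - algebraMap ℂ R c • S m = m) := by
  have hu : IsUnit (T.charpoly.eval (algebraMap ℂ R c)) := by
    rw [hT, eval_map, eval₂_at_apply]
    exact (IsUnit.mk0 _ hc).map (algebraMap ℂ R)
  obtain ⟨ui, hui⟩ := hu.exists_left_inv
  obtain ⟨q, hq⟩ := X_sub_C_dvd_sub_C_eval (a := algebraMap ℂ R c) (p := T.charpoly)
  have h1 := congrArg (aeval T) hq
  have h2 := congrArg (aeval T) (hq.trans (mul_comm _ _))
  rw [map_sub, LinearMap.aeval_self_charpoly, aeval_C, zero_sub, map_mul, map_sub, aeval_X,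
    aeval_C] at h1 h2
  have hA : ∀ m, aeval T q (T m - algebraMap ℂ R c • m) =
      -(T.charpoly.eval (algebraMap ℂ R c) • m) := by
    intro m
    have h3 := LinearMap.congr_fun h2 m
    simp only [LinearMap.neg_apply, Module.algebraMap_end_apply, Module.End.mul_apply,
      LinearMap.sub_apply] at h3
    exact h3.symm
  have hB : ∀ m, T (aeval T q m) - algebraMap ℂ R c • aeval T q m =
      -(T.charpoly.eval (algebraMap ℂ R c) • m) := by
    intro m
    have h3 := LinearMap.congr_fun h1 m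
    simp only [LinearMap.neg_apply, Module.algebraMap_end_apply, Module.End.mul_apply,
      LinearMap.sub_apply] at h3
    exact h3.symm
  refine ⟨(-ui) • aeval T q, ?_, ?_⟩
  · intro m
    rw [LinearMap.smul_apply, hA, smul_neg, neg_smul, neg_neg, smul_smul, hui, one_smul]
  · intro m
    rw [LinearMap.smul_apply, map_smul, smul_comm (algebraMap ℂ R c) (-ui), ← smul_sub, hB,
      smul_neg, neg_smul, neg_neg, smul_smul, hui, one_smul]

end basics

section loc

variable {R : Type u} [CommRing R] [IsDomain R] {d : ℕ} (Θ : R[X])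

theorem kappa_injective (hΘ0 : Θ ≠ 0) :
    Function.Injective (algebraMap R[X] (Localization.Away Θ)) :=
  IsLocalization.injective (Localization.Away Θ)
    (powers_le_nonZeroDivisors_of_noZeroDivisors hΘ0)

theorem D_pow_smul
    (D : (Fin d → Localization.Away Θ) →+ (Fin d → Localization.Away Θ))
    (hD : ∀ (p : R[X]) (w : Fin d → Localization.Away Θ),
      D (p • w) = (Θ * derivative p) • w + p • D w)
    (n : ℕ) (g : Fin d → Localization.Away Θ) :
    D (Θ ^ (n + 1) • g) =
      (C ((n + 1 : ℕ) : R) * derivative Θ) • (Θ ^ (n + 1) • g) + Θ ^ (n + 1) • D g := by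
  rw [hD, derivative_pow, Nat.add_sub_cancel]
  funext j
  simp only [Pi.add_apply, Pi.smul_apply]
  simp only [Algebra.smul_def, map_mul, map_pow]
  ring

theorem cancel_Theta (n : ℕ) (f : Fin d → Localization.Away Θ) (v v' : Fin d → R[X])
    (hv : Θ ^ (n + 1) • f = fun j => algebraMap R[X] (Localization.Away Θ) (v j))
    (hv' : ∀ j, v j = Θ * v' j) :
    Θ ^ n • f = fun j => algebraMap R[X] (Localization.Away Θ) (v' j) := by
  funext j
  have h1 := congrFun hv j
  simp only [Pi.smul_apply] at h1 ⊢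
  simp only [Algebra.smul_def] at h1 ⊢
  rw [hv' j, map_mul, pow_succ, map_mul,
    mul_comm _ (algebraMap R[X] (Localization.Away Θ) Θ), mul_assoc] at h1
  exact (IsLocalization.Away.algebraMap_isUnit (S := Localization.Away Θ) Θ).mul_right_inj.mp h1

theorem exists_common_denom (f : Fin d → Localization.Away Θ) :
    ∃ (n : ℕ) (v : Fin d → R[X]),
      Θ ^ n • f = fun j => algebraMap R[X] (Localization.Away Θ) (v j) := by
  obtain ⟨b, hb⟩ := IsLocalization.exist_integer_multiples (Submonoid.powers Θ) Finset.univ f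
  obtain ⟨n, hn⟩ := (Submonoid.mem_powers_iff _ _).mp b.2
  have hb' : ∀ j, ∃ x, algebraMap R[X] (Localization.Away Θ) x = (b : R[X]) • f j :=
    fun j => hb j (Finset.mem_univ j)
  choose v hv using hb'
  refine ⟨n, v, ?_⟩
  funext j
  rw [Pi.smul_apply, hv j, hn]

variable {r : ℕ} (θ : Fin r → R) (hθ : ∀ i k, i ≠ k → IsUnit (θ i - θ k))
  [Algebra ℂ R]
  (hΘ : Θ = ∏ i, (X - C (θ i)))
  (D₀ : (Fin d → R[X]) →+ (Fin d → R[X]))
  (hD₀ : ∀ (p : R[X]) (v : Fin d → R[X]),
    D₀ (p • v) = (Θ * derivative p) • v + p • D₀ v)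
  (D : (Fin d → Localization.Away Θ) →+ (Fin d → Localization.Away Θ))
  (hD : ∀ (p : R[X]) (w : Fin d → Localization.Away Θ),
    D (p • w) = (Θ * derivative p) • w + p • D w)
  (hDD₀ : ∀ v : Fin d → R[X],
    D (fun j => algebraMap R[X] (Localization.Away Θ) (v j)) =
      fun j => algebraMap R[X] (Localization.Away Θ) (D₀ v j))
  (Res : Fin r → ((Fin d → R) →ₗ[R] (Fin d → R)))
  (hRes : ∀ (i : Fin r) (m : Fin d → R) (j : Fin d),
    (D₀ (fun j => C (m j)) j).eval (θ i) =
      (∏ k ∈ Finset.univ.erase i, (θ i - θ k)) * Res i m j)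
  (hχ : ∀ i : Fin r, ∃ χ : ℂ[X], (Res i).charpoly = χ.map (algebraMap ℂ R) ∧
    ∀ n : ℤ, n ≠ 0 → χ.eval (n : ℂ) ≠ 0)

include hθ hΘ hD₀ hD hDD₀ hRes hχ

theorem step_mem (n : ℕ) (f : Fin d → Localization.Away Θ) (v u : Fin d → R[X])
    (hv : Θ ^ (n + 1) • f = fun j => algebraMap R[X] (Localization.Away Θ) (v j))
    (hu : D f = fun j => algebraMap R[X] (Localization.Away Θ) (u j)) :
    ∃ v' : Fin d → R[X],
      Θ ^ n • f = fun j => algebraMap R[X] (Localization.Away Θ) (v' j) := by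
  have hΘ0 : Θ ≠ 0 := by
    rw [hΘ]; exact (monic_prod_of_monic _ _ (fun i _ => monic_X_sub_C (θ i))).ne_zero
  have e1 := D_pow_smul Θ D hD n f
  rw [hv, hu, hDD₀] at e1
  have e2 : ∀ j, D₀ v j =
      (C ((n + 1 : ℕ) : R) * derivative Θ) * v j + Θ ^ (n + 1) * u j := by
    intro j
    apply kappa_injective Θ hΘ0
    have h := congrFun e1 j
    simp only [Pi.add_apply, Pi.smul_apply] at h
    simpa only [Algebra.smul_def, map_add, map_mul] using h
  have hΘi : ∀ i, Θ.eval (θ i) = 0 := fun i => by rw [hΘ]; exact eval_Theta θ i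
  have hΘ'i : ∀ i, (derivative Θ).eval (θ i) = cc θ i := fun i => by
    rw [hΘ]; exact eval_derivative_Theta θ i
  have e3 : ∀ i j, (v j).eval (θ i) = 0 := by
    intro i
    have hev : Res i (fun j => (v j).eval (θ i)) -
        algebraMap ℂ R ((n + 1 : ℕ) : ℂ) • (fun j => (v j).eval (θ i)) = 0 := by
      funext j
      have h1 := eval_D₀ θ Θ hΘ D₀ hD₀ Res hRes i v j
      rw [e2 j] at h1
      simp only [eval_add, eval_mul, eval_pow, eval_C, hΘi, hΘ'i] at h1
      rw [zero_pow (Nat.add_one_ne_zero n), zero_mul, add_zero] at h1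
      have h2 : cc θ i * (Res i (fun j => (v j).eval (θ i)) j -
          ((n + 1 : ℕ) : R) * (v j).eval (θ i)) = 0 := by
        linear_combination (-1 : R) * h1
      have h3 := (isUnit_cc θ hθ i).mul_right_eq_zero.mp h2
      rw [Pi.sub_apply, Pi.smul_apply, smul_eq_mul, map_natCast, Pi.zero_apply]
      exact h3
    obtain ⟨χ, hχ1, hχ2⟩ := hχ i
    have hc : χ.eval ((n + 1 : ℕ) : ℂ) ≠ 0 := by
      have := hχ2 ((n + 1 : ℕ) : ℤ) (by exact_mod_cast Nat.succ_ne_zero n)
      rwa [Int.cast_natCast] at this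
    obtain ⟨S, hS1, _⟩ := exists_inv (Res i) χ hχ1 _ hc
    have h4 := hS1 (fun j => (v j).eval (θ i))
    rw [hev, map_zero] at h4
    intro j
    exact (congrFun h4 j).symm
  have e4 : ∀ j, ∃ c, v j = Θ * c := by
    intro j
    have h := prod_dvd_of_eval_eq_zero θ hθ (v j) (fun i => e3 i j)
    rw [← hΘ] at h
    obtain ⟨c, hc⟩ := h
    exact ⟨c, hc⟩
  choose v' hv' using e4
  exact ⟨v', cancel_Theta Θ n f v v' hv hv'⟩

theorem main_mem (f : Fin d → Localization.Away Θ)
    (hf : ∃ v : Fin d → R[X], D f = fun j => algebraMap R[X] (Localization.Away Θ) (v j)) :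
    ∃ v : Fin d → R[X], f = fun j => algebraMap R[X] (Localization.Away Θ) (v j) := by
  obtain ⟨u, hu⟩ := hf
  have key : ∀ n : ℕ, ∀ v : Fin d → R[X],
      Θ ^ n • f = (fun j => algebraMap R[X] (Localization.Away Θ) (v j)) →
      ∃ v' : Fin d → R[X], f = fun j => algebraMap R[X] (Localization.Away Θ) (v' j) := by
    intro n
    induction n with
    | zero =>
      intro v hv
      rw [pow_zero, one_smul] at hv
      exact ⟨v, hv⟩
    | succ n ih =>
      intro v hv
      obtain ⟨v', hv'⟩ := step_mem Θ θ hθ hΘ D₀ hD₀ D hD hDD₀ Res hRes hχ n f v u hv hu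
      exact ih v' hv'
  obtain ⟨n, v, hv⟩ := exists_common_denom Θ f
  exact key n v hv

theorem step_surj (n : ℕ) (w : Fin d → Localization.Away Θ) (v : Fin d → R[X])
    (hv : Θ ^ (n + 1) • w = fun j => algebraMap R[X] (Localization.Away Θ) (v j)) :
    ∃ (g : Fin d → Localization.Away Θ) (v₃ : Fin d → R[X]),
      Θ ^ n • (w - D g) = fun j => algebraMap R[X] (Localization.Away Θ) (v₃ j) := by
  have hΘi : ∀ i, Θ.eval (θ i) = 0 := fun i => by rw [hΘ]; exact eval_Theta θ i
  have hΘ'i : ∀ i, (derivative Θ).eval (θ i) = cc θ i := fun i => by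
    rw [hΘ]; exact eval_derivative_Theta θ i
  have hci : ∀ i, ∃ ci, ci * cc θ i = 1 := fun i => (isUnit_cc θ hθ i).exists_left_inv
  choose ci hci using hci
  have hS : ∀ i, ∃ S : (Fin d → R) →ₗ[R] (Fin d → R),
      ∀ m, Res i (S m) - algebraMap ℂ R ((n + 1 : ℕ) : ℂ) • S m = m := by
    intro i
    obtain ⟨χ, hχ1, hχ2⟩ := hχ i
    have hc : χ.eval ((n + 1 : ℕ) : ℂ) ≠ 0 := by
      have := hχ2 ((n + 1 : ℕ) : ℤ) (by exact_mod_cast Nat.succ_ne_zero n)
      rwa [Int.cast_natCast] at this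
    obtain ⟨S, _, hS2⟩ := exists_inv (Res i) χ hχ1 _ hc
    exact ⟨S, hS2⟩
  choose S hS using hS
  obtain ⟨t, ht⟩ : ∃ t : Fin r → Fin d → R, ∀ i j,
      Res i (t i) j - ((n + 1 : ℕ) : R) * t i j = ci i * (v j).eval (θ i) := by
    refine ⟨fun i => S i (ci i • fun j => (v j).eval (θ i)), ?_⟩
    intro i j
    have h := congrFun (hS i (ci i • fun j => (v j).eval (θ i))) j
    rw [Pi.sub_apply, Pi.smul_apply, smul_eq_mul, map_natCast, Pi.smul_apply, smul_eq_mul] at h
    exact h
  obtain ⟨ℓ, hℓ1, hℓ2⟩ : ∃ ℓ : Fin r → R[X], (∀ i, (ℓ i).eval (θ i) = 1) ∧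
      (∀ i k, k ≠ i → (ℓ i).eval (θ k) = 0) := by
    refine ⟨fun i => C (ci i) * ∏ k ∈ Finset.univ.erase i, (X - C (θ k)), ?_, ?_⟩
    · intro i
      simp only [eval_mul, eval_C, eval_prod, eval_sub, eval_X]
      exact hci i
    · intro i k hk
      simp only [eval_mul, eval_C, eval_prod, eval_sub, eval_X]
      have h0 : ∏ x ∈ Finset.univ.erase i, (θ k - θ x) = 0 :=
        Finset.prod_eq_zero (f := fun x => θ k - θ x) (i := k)
          (Finset.mem_erase.mpr ⟨hk, Finset.mem_univ k⟩) (sub_self _)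
      rw [h0, mul_zero]
  obtain ⟨m, hm⟩ : ∃ m : Fin d → R[X], ∀ i j, (m j).eval (θ i) = t i j := by
    refine ⟨fun j => ∑ i, ℓ i * C (t i j), ?_⟩
    intro i j
    simp only [eval_finsetSum, eval_mul, eval_C]
    rw [Finset.sum_eq_single i]
    · rw [hℓ1, one_mul]
    · intro b _ hb
      rw [hℓ2 b i (Ne.symm hb), zero_mul]
    · intro h
      exact absurd (Finset.mem_univ _) h
  obtain ⟨ιi, hιi⟩ :=
    (IsLocalization.Away.algebraMap_isUnit (S := Localization.Away Θ) Θ).exists_right_inv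
  obtain ⟨g, hg⟩ : ∃ g : Fin d → Localization.Away Θ,
      Θ ^ (n + 1) • g = fun j => algebraMap R[X] (Localization.Away Θ) (m j) := by
    refine ⟨fun j => ιi ^ (n + 1) * algebraMap R[X] (Localization.Away Θ) (m j), ?_⟩
    funext j
    simp only [Pi.smul_apply, Algebra.smul_def, map_pow]
    rw [← mul_assoc, ← mul_pow, hιi, one_pow, one_mul]
  have e1 := D_pow_smul Θ D hD n g
  rw [hg, hDD₀] at e1
  have e2 : ∀ j, ∃ c,
      v j - D₀ m j + (C ((n + 1 : ℕ) : R) * derivative Θ) * m j = Θ * c := by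
    intro j
    have hev : ∀ i,
        (v j - D₀ m j + (C ((n + 1 : ℕ) : R) * derivative Θ) * m j).eval (θ i) = 0 := by
      intro i
      have h1 := eval_D₀ θ Θ hΘ D₀ hD₀ Res hRes i m j
      have h2 : (fun j => (m j).eval (θ i)) = t i := funext (fun j => hm i j)
      rw [h2] at h1
      simp only [eval_add, eval_sub, eval_mul, eval_C, hΘ'i, h1, hm]
      have h3 := ht i j
      have h4 := hci i
      linear_combination (-(cc θ i)) * h3 - (eval (θ i) (v j)) * h4
    have h := prod_dvd_of_eval_eq_zero θ hθ _ hev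
    rw [← hΘ] at h
    obtain ⟨c, hc⟩ := h
    exact ⟨c, hc⟩
  choose v₃ hv₃ using e2
  refine ⟨g, v₃, ?_⟩
  refine cancel_Theta Θ n (w - D g)
    (fun j => v j - D₀ m j + (C ((n + 1 : ℕ) : R) * derivative Θ) * m j) v₃ ?_ hv₃
  funext j
  have h5 := congrFun hv j
  have h6 := congrFun e1 j
  simp only [Pi.add_apply, Pi.smul_apply, Pi.sub_apply] at h5 h6 ⊢
  simp only [Algebra.smul_def, map_add, map_sub, map_mul] at h5 h6 ⊢
  linear_combination h5 + h6

theorem main_surj (w : Fin d → Localization.Away Θ) :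
    ∃ (w' : Fin d → Localization.Away Θ) (v : Fin d → R[X]),
      w = D w' + fun j => algebraMap R[X] (Localization.Away Θ) (v j) := by
  have key : ∀ n : ℕ, ∀ (w : Fin d → Localization.Away Θ) (v : Fin d → R[X]),
      Θ ^ n • w = (fun j => algebraMap R[X] (Localization.Away Θ) (v j)) →
      ∃ (w' : Fin d → Localization.Away Θ) (v₀ : Fin d → R[X]),
        w = D w' + fun j => algebraMap R[X] (Localization.Away Θ) (v₀ j) := by
    intro n
    induction n with
    | zero =>
      intro w v hv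
      rw [pow_zero, one_smul] at hv
      exact ⟨0, v, by rw [map_zero, zero_add]; exact hv⟩
    | succ n ih =>
      intro w v hv
      obtain ⟨g, v₃, h3⟩ :=
        step_surj Θ θ hθ hΘ D₀ hD₀ D hD hDD₀ Res hRes hχ n w v hv
      obtain ⟨w'', v₀, h4⟩ := ih (w - D g) v₃ h3
      refine ⟨g + w'', v₀, ?_⟩
      rw [map_add, add_assoc, ← h4]
      abel
  obtain ⟨n, v, hv⟩ := exists_common_denom Θ w
  exact key n w v hv

end loc

end Groth.Agent.H65.LogConn
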