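import Groth.Agent.H86.P1Conn
import Mathlib

/-!
# The projective line over a field is integral (for S18573)
-/

set_option autoImplicit false
universe u
open CategoryTheory CategoryTheory.Limits AlgebraicGeometry

namespace Groth.Agent.H65.P1Irr

theorem isIntegral_projSpace (n : ℕ) (K : Type u) [Field K] :
    AlgebraicGeometry.IsIntegral (CohB1.ProjSpace n K) := by
  refine (Groth.Agent.S3557.result (CohB1.polyGrading n K) ?_).mpr ⟨?_, ?_⟩
  · intro f _ hf
    exact hf.eq_zero
  · refine ⟨MvPolynomial.X 0, ?_, MvPolynomial.X_ne_zero 0⟩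
    exact HomogeneousIdeal.mem_irrelevant_of_mem _ one_pos (MvPolynomial.isHomogeneous_X K 0)
  · intro f _ g _ hfg
    exact mul_eq_zero.mp hfg

theorem isIntegral_projSpaceOver_field (n : ℕ) (K : Type u) [Field K] :
    AlgebraicGeometry.IsIntegral (CohB1.ProjSpaceOver n (Spec (CommRingCat.of K))) := by
  letI : Algebra (ULift.{u} ℤ) K :=
    ((Int.castRingHom K).comp (ULift.ringEquiv (R := ℤ)).toRingHom).toAlgebra
  have h' := Groth.Agent.H86.P1Conn.isPullback_projSpace n (ULift.{u} ℤ) K
  rw [show Spec.map (CommRingCat.ofHom (algebraMap (ULift.{u} ℤ) K)) =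
    specULiftZIsTerminal.from _ from specULiftZIsTerminal.hom_ext _ _] at h'
  let e : CohB1.ProjSpace n K ≅ CohB1.ProjSpaceOver n (Spec (CommRingCat.of K)) := h'.isoPullback
  haveI : AlgebraicGeometry.IsIntegral (CohB1.ProjSpace n K) := isIntegral_projSpace n K
  haveI : Nonempty (CohB1.ProjSpaceOver n (Spec (CommRingCat.of K))) :=
    ⟨e.hom (Classical.arbitrary _)⟩
  exact isIntegral_of_isOpenImmersion e.inv

end Groth.Agent.H65.P1Irr
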