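import Mathlib

/-!
# Contractions of tensors with a projective module
-/

namespace Groth.Agent.H65

open TensorProduct

section
variable {R : Type*} [CommRing R] {M : Type*} [AddCommGroup M] [Module R M]

/-- Contraction `M ⊗ N → N` with a functional `φ : M → R`. -/
noncomputable def contr (N : Type*) [AddCommGroup N] [Module R N] (φ : M →ₗ[R] R) :
    M ⊗[R] N →ₗ[R] N :=
  (TensorProduct.lid R N).toLinearMap ∘ₗ LinearMap.rTensor N φ

variable {N : Type*} [AddCommGroup N] [Module R N] {N' : Type*} [AddCommGroup N'] [Module R N']

theorem contr_tmul (φ : M →ₗ[R] R) (m : M) (n : N) : contr N φ (m ⊗ₜ n) = φ m • n := by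
  simp [contr]

theorem contr_lTensor (f : N →ₗ[R] N') (φ : M →ₗ[R] R) (x : M ⊗[R] N) :
    contr N' φ (LinearMap.lTensor M f x) = f (contr N φ x) := by
  induction x using TensorProduct.induction_on with
  | zero => simp
  | tmul m n => simp [contr_tmul]
  | add x y hx hy => simp only [map_add, hx, hy]

theorem eq_zero_of_contr_eq_zero [Module.Projective R M] (x : M ⊗[R] N)
    (h : ∀ φ : M →ₗ[R] R, contr N φ x = 0) : x = 0 := by
  classical
  obtain ⟨s, hs⟩ := Module.projective_def'.mp (inferInstance : Module.Projective R M)
  have key : ∀ (x : M ⊗[R] N) (j : M),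
      TensorProduct.finsuppScalarLeft R N M (LinearMap.rTensor N s x) j =
        contr N ((Finsupp.lapply j).comp s) x := by
    intro x j
    induction x using TensorProduct.induction_on with
    | zero => simp
    | tmul m n => simp [contr_tmul, TensorProduct.finsuppScalarLeft_apply_tmul_apply]
    | add x y hx hy => simp only [map_add, Finsupp.add_apply, hx, hy]
  have h1 : LinearMap.rTensor N s x = 0 := by
    apply (TensorProduct.finsuppScalarLeft R N M).injective
    rw [map_zero]
    ext j
    rw [key, h, Finsupp.zero_apply]
  have h2 := congrArg (LinearMap.rTensor N (Finsupp.linearCombination R id)) h1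
  rw [map_zero, ← LinearMap.rTensor_comp_apply, hs, LinearMap.rTensor_id_apply] at h2
  exact h2

theorem sum_tmul_contr {ι : Type*} [Fintype ι] (e : ι → M) (φ : ι → M →ₗ[R] R)
    (h : ∀ m, ∑ j, φ j m • e j = m) (z : M ⊗[R] N) :
    ∑ j, e j ⊗ₜ[R] contr N (φ j) z = z := by
  induction z using TensorProduct.induction_on with
  | zero => simp
  | tmul m n =>
    simp only [contr_tmul, TensorProduct.tmul_smul, TensorProduct.smul_tmul']
    rw [← TensorProduct.sum_tmul, h]
  | add x y hx hy =>
    simp only [map_add, TensorProduct.tmul_add, Finset.sum_add_distrib, hx, hy]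

end

end Groth.Agent.H65
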