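import Mathlib
import Groth.Agent.S16721

/-!
helper65: the trivial-torsor machinery of helper36's S16721/S14978/S12838 for the quotient category
`[X/G]`, restated for an arbitrary precoverage `K` (with isomorphisms), plus the etale version of
"locally trivial over an algebraically closed point has a section", and the converse direction
"isomorphic objects with sections give points in one orbit".
-/

set_option autoImplicit false
universe u
open CategoryTheory MonoidalCategory CartesianMonoidalCategory AlgebraicGeometry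
open AlgSt

namespace Groth.Agent.H65.QuotEt

open CategoryTheory.Limits MonObj GrpObj Opposite
open Groth.Agent.S12838 (act_mul act_one rho_isIso)

variable {S : Scheme.{u}} (K : Precoverage Scheme.{u}) [K.HasIsos]
variable {G : Over S} [GrpObj G] {X : Over S} (aX : AlgGrp.Action G X)

/-- right multiplication by a point `g` with `g · (x' ∘ f) = x` is a morphism of trivial
torsors over `f` (any `K`). -/
theorem exists_hom_of_g {a b : (AlgSt.ofSch X).obj} (f : a.base ⟶ b.base) (g : a.base ⟶ G)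
    (hg : lift g (f ≫ b.sec.down) ≫ aX.act = a.sec.down) :
    ∃ h : (AlgSt.quotMap K G aX).obj a ⟶ (AlgSt.quotMap K G aX).obj b,
      h.base = f ∧ h.top = lift (fst G a.base * (snd G a.base ≫ g)) (snd G a.base ≫ f) := by
  have e1 : (AlgSt.leftMul G a.base).act ≫
      lift (fst G a.base * (snd G a.base ≫ g)) (snd G a.base ≫ f) =
      (G ◁ lift (fst G a.base * (snd G a.base ≫ g)) (snd G a.base ≫ f)) ≫
        (AlgSt.leftMul G b.base).act := by
    apply CartesianMonoidalCategory.hom_ext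
    · simp only [AlgSt.leftMul, Category.assoc, lift_fst, lift_snd, comp_lift, comp_mul,
        lift_fst_assoc, lift_snd_assoc, whiskerLeft_fst, whiskerLeft_snd, whiskerLeft_fst_assoc,
        whiskerLeft_snd_assoc]
      rw [_root_.mul_assoc]
    · simp only [AlgSt.leftMul, Category.assoc, lift_fst, lift_snd, comp_lift, lift_snd_assoc,
        whiskerLeft_snd, whiskerLeft_snd_assoc]
  have e2 : IsPullback (lift (fst G a.base * (snd G a.base ≫ g)) (snd G a.base ≫ f))
      (snd G a.base) (snd G b.base) f := by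
    have hρ := rho_isIso g
    have sq1 : IsPullback (lift (fst G a.base * (snd G a.base ≫ g)) (snd G a.base))
        (snd G a.base) (snd G a.base) (𝟙 a.base) :=
      IsPullback.of_horiz_isIso ⟨by rw [lift_snd, Category.comp_id]⟩
    have sq := sq1.paste_horiz (AlgSt.isPullback_whiskerLeft (G := G) f)
    rw [lift_whiskerLeft, Category.id_comp] at sq
    exact sq
  have e3 : lift (fst G a.base * (snd G a.base ≫ g)) (snd G a.base ≫ f) ≫
      (G ◁ b.sec.down) ≫ aX.act = (G ◁ a.sec.down) ≫ aX.act := by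
    rw [lift_whiskerLeft_assoc, act_mul]
    have h1 : lift (snd G a.base ≫ g) ((snd G a.base ≫ f) ≫ b.sec.down) =
        snd G a.base ≫ lift g (f ≫ b.sec.down) := by
      rw [comp_lift, Category.assoc]
    rw [h1, Category.assoc, hg]
    congr 1
  exact ⟨AlgSt.QuotObj.Hom.mk f _ e1 e2 e3, rfl, rfl⟩

omit [K.HasIsos] in
/-- a morphism of `[X/G]` over an isomorphism is an isomorphism. -/
theorem isIso_of_isIso_base {A B : AlgSt.QuotObj K G aX} (h : A ⟶ B)
    [IsIso h.base] : IsIso h := by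
  haveI : IsIso h.top := h.cart.isIso_fst_of_isIso
  have e1 : B.act.act ≫ inv h.top = (G ◁ inv h.top) ≫ A.act.act := by
    rw [IsIso.comp_inv_eq, Category.assoc, h.eqv, ← Category.assoc,
      ← MonoidalCategory.whiskerLeft_comp, IsIso.inv_hom_id, MonoidalCategory.whiskerLeft_id,
      Category.id_comp]
  have e2w : inv h.top ≫ A.π = B.π ≫ inv h.base := by
    rw [IsIso.inv_comp_eq, ← Category.assoc, h.cart.w, Category.assoc, IsIso.hom_inv_id,
      Category.comp_id]
  have e2 : IsPullback (inv h.top) B.π A.π (inv h.base) := IsPullback.of_horiz_isIso ⟨e2w⟩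
  have e3 : inv h.top ≫ A.φ = B.φ := by
    rw [IsIso.inv_comp_eq, h.wφ]
  refine ⟨⟨AlgSt.QuotObj.Hom.mk (inv h.base) (inv h.top) e1 e2 e3, ?_, ?_⟩⟩
  · exact AlgSt.QuotObj.hom_ext (IsIso.hom_inv_id h.base) (IsIso.hom_inv_id h.top)
  · exact AlgSt.QuotObj.hom_ext (IsIso.inv_hom_id h.base) (IsIso.inv_hom_id h.top)

/-- the tautological morphism from the trivial torsor over `P` to `A`. -/
noncomputable def tautHom (A : AlgSt.QuotObj K G aX) :
    (AlgSt.quotMap K G aX).obj (⟨A.P, ⟨A.φ⟩⟩ : (AlgSt.ofSch X).obj) ⟶ A :=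
  AlgSt.QuotObj.Hom.mk A.π A.act.act
    (by
      show (AlgSt.leftMul G A.P).act ≫ A.act.act = (G ◁ A.act.act) ≫ A.act.act
      have h1 : (AlgSt.leftMul G A.P).act ≫ A.act.act =
          lift (fst G (G ⊗ A.P)) (lift (snd G (G ⊗ A.P) ≫ fst G A.P)
            (snd G (G ⊗ A.P) ≫ snd G A.P) ≫ A.act.act) ≫ A.act.act := by
        rw [← act_mul]
        rfl
      rw [h1, ← comp_lift, lift_fst_snd, Category.comp_id]
      congr 1)
    A.cart
    A.eqv

/-- the morphism from the trivial torsor attached to a point of the total space. -/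
noncomputable def secHom (A : AlgSt.QuotObj K G aX) {T : Over S} (s : T ⟶ A.P) :
    (AlgSt.quotMap K G aX).obj (⟨T, ⟨s ≫ A.φ⟩⟩ : (AlgSt.ofSch X).obj) ⟶ A :=
  (AlgSt.quotMap K G aX).map
    (⟨s, rfl⟩ : (⟨T, ⟨s ≫ A.φ⟩⟩ : (AlgSt.ofSch X).obj) ⟶ ⟨A.P, ⟨A.φ⟩⟩) ≫ tautHom K aX A

theorem secHom_base (A : AlgSt.QuotObj K G aX) {T : Over S} (s : T ⟶ A.P) :
    (secHom K aX A s).base = s ≫ A.π := rfl

open Groth.Agent.S16721 (fiberIsoMk)

/-- two objects over `T` with sections of their torsors whose images in `X` are translates are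
isomorphic in the fibre. -/
theorem exists_fiber_iso (A B : AlgSt.QuotObj K G aX) (T : Over S)
    (hA : A.base = T) (hB : B.base = T) (sA : T ⟶ A.P) (hsA : sA ≫ A.π = eqToHom hA.symm)
    (sB : T ⟶ B.P) (hsB : sB ≫ B.π = eqToHom hB.symm) (g : T ⟶ G)
    (hg : lift g (sB ≫ B.φ) ≫ aX.act = sA ≫ A.φ) :
    Nonempty ((Functor.Fiber.mk hA : (AlgSt.QuotSt K G aX).p.Fiber T) ≅
      Functor.Fiber.mk hB) := by
  obtain ⟨ρ, hρ, -⟩ := exists_hom_of_g K aX (a := (⟨T, ⟨sA ≫ A.φ⟩⟩ : (AlgSt.ofSch X).obj))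
    (b := (⟨T, ⟨sB ≫ B.φ⟩⟩ : (AlgSt.ofSch X).obj)) (𝟙 T) g
    (by rw [Category.id_comp]; exact hg)
  have hρ' : ρ.base = 𝟙 T := hρ
  have eA : (secHom K aX A sA).base = eqToHom hA.symm := (secHom_base K aX A sA).trans hsA
  have eB : (secHom K aX B sB).base = eqToHom hB.symm := (secHom_base K aX B sB).trans hsB
  haveI : IsIso (secHom K aX A sA).base := by
    rw [eA]; exact (inferInstance : IsIso (eqToHom hA.symm))
  haveI : IsIso (secHom K aX B sB).base := by
    rw [eB]; exact (inferInstance : IsIso (eqToHom hB.symm))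
  haveI : IsIso ρ.base := by
    rw [hρ']; exact (inferInstance : IsIso (𝟙 T))
  haveI := isIso_of_isIso_base K aX (secHom K aX A sA)
  haveI := isIso_of_isIso_base K aX (secHom K aX B sB)
  haveI := isIso_of_isIso_base K aX ρ
  let i : A ≅ B := (asIso (secHom K aX A sA)).symm ≪≫ asIso ρ ≪≫ asIso (secHom K aX B sB)
  refine ⟨fiberIsoMk (x := Functor.Fiber.mk hA) (y := Functor.Fiber.mk hB) i ?_⟩
  refine IsHomLift.of_fac' _ _ _ hA hB ?_
  show (AlgSt.QuotObj.forget K G aX).map
    (inv (secHom K aX A sA) ≫ ρ ≫ secHom K aX B sB) = _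
  rw [Functor.map_comp, Functor.map_comp, Functor.map_inv]
  show inv (secHom K aX A sA).base ≫ ρ.base ≫ (secHom K aX B sB).base = _
  have h1 : inv (secHom K aX A sA).base = eqToHom hA := by
    apply IsIso.inv_eq_of_hom_inv_id
    rw [eA]
    exact (eqToHom_trans hA.symm hA).trans (eqToHom_refl _ _)
  rw [h1, hρ', eB]
  rfl

omit [K.HasIsos] in
/-- a morphism of `[X/G]` over an isomorphism carries a section to a section; the two sections of
the target differ by a point of `G`, and the images in `X` are translates. -/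
theorem exists_g_of_hom {A B : AlgSt.QuotObj K G aX} (h : A ⟶ B) {T : Over S}
    (sA : T ⟶ A.P) (sB : T ⟶ B.P) (hs : sB ≫ B.π = (sA ≫ h.top) ≫ B.π) :
    ∃ g : T ⟶ G, lift g (sA ≫ A.φ) ≫ aX.act = sB ≫ B.φ := by
  obtain ⟨u, hu1, hu2⟩ := B.cart.exists_lift sB (sA ≫ h.top) hs
  refine ⟨u ≫ fst G B.P, ?_⟩
  have e1 : u = lift (u ≫ fst G B.P) (sA ≫ h.top) := by
    apply CartesianMonoidalCategory.hom_ext
    · rw [lift_fst]
    · rw [lift_snd, hu2]
  have e2 : sA ≫ A.φ = (sA ≫ h.top) ≫ B.φ := by rw [Category.assoc, h.wφ]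
  calc lift (u ≫ fst G B.P) (sA ≫ A.φ) ≫ aX.act
      = lift (u ≫ fst G B.P) (sA ≫ h.top) ≫ (G ◁ B.φ) ≫ aX.act := by
        rw [lift_whiskerLeft_assoc, e2]
    _ = u ≫ B.act.act ≫ B.φ := by rw [← e1, B.eqv]
    _ = sB ≫ B.φ := by rw [reassoc_of% hu1]

/-- an etale-locally trivial scheme over (a copy of) the spectrum of an algebraically closed field
has a section. -/
theorem exists_section_of_loc_et {Ω : Type u} [Field Ω] [IsAlgClosed Ω] {P B₀ : Scheme.{u}}
    (π : P ⟶ B₀) (e : Spec (CommRingCat.of Ω) ⟶ B₀) [IsIso e]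
    (hloc : NonAbH1.IsLocallyTrivialFor Scheme.etalePrecoverage (Over.mk π)) :
    ∃ s : Spec (CommRingCat.of Ω) ⟶ P, s ≫ π = e := by
  obtain ⟨R, hR, hsec⟩ := hloc
  obtain ⟨hsurj, hprop⟩ := (Groth.Agent.H49.mem_precoverage_iff @Etale).1 hR
  obtain ⟨T', r, hr, ⟨y, -⟩⟩ := hsurj (e (IsLocalRing.closedPoint Ω))
  haveI : Etale r := hprop hr
  haveI : Nonempty T' := ⟨y⟩
  haveI : LocallyOfFiniteType (r ≫ inv e) := inferInstance
  obtain ⟨σ, hσ⟩ := Groth.Agent.S16721.exists_section_of_isAlgClosed (r ≫ inv e)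
  obtain ⟨s', hs'⟩ := hsec r hr
  have hs'' : s' ≫ π = r := hs'
  refine ⟨σ ≫ s', ?_⟩
  rw [Category.assoc, hs'']
  have := congrArg (· ≫ e) hσ
  simpa using this

/-- sections of etale torsors over geometric points. -/
theorem exists_section_of_fiber_et {Ω : Type u} [Field Ω] [IsAlgClosed Ω]
    (t : Spec (CommRingCat.of Ω) ⟶ S) (A : AlgSt.QuotObj Scheme.etalePrecoverage G aX)
    (hA : A.base = Over.mk t) :
    ∃ s : Over.mk t ⟶ A.P, s ≫ A.π = eqToHom hA.symm := by
  haveI : IsIso ((Over.forget S).map (eqToHom hA.symm)) := inferInstance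
  haveI : IsIso (eqToHom hA.symm).left := ‹IsIso ((Over.forget S).map (eqToHom hA.symm))›
  obtain ⟨s₀, hs₀⟩ := exists_section_of_loc_et (Ω := Ω) A.π.left (eqToHom hA.symm).left A.loc
  have hw : s₀ ≫ A.P.hom = t := by
    rw [← Over.w A.π, ← Category.assoc, hs₀]
    exact Over.w (eqToHom hA.symm)
  refine ⟨Over.homMk s₀ hw, ?_⟩
  apply Over.OverMorphism.ext
  rw [Over.comp_left]
  exact hs₀

set_option backward.isDefEq.respectTransparency.types false in
instance : Scheme.etalePrecoverage.{u}.HasIsos := by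
  unfold Scheme.etalePrecoverage
  infer_instance

end Groth.Agent.H65.QuotEt
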