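import Groth.Prelude.Def_W4c6secantcecoversSchSt
import Mathlib

/-!
# Scheja–Storch pairing helpers (for S18927)
-/

set_option autoImplicit false
universe u v
open TensorProduct

namespace Groth.Agent.H65.SSPair

variable (R : Type u) [CommRing R]

theorem ιMulti_eq_zero_of_lt (r n : ℕ) (h : r < n) (w : Fin n → (Fin r → R)) :
    ExteriorAlgebra.ιMulti R n w = 0 := by
  have h0 : ExteriorAlgebra.ιMulti R n (M := Fin r → R) = 0 := by
    refine (Pi.basisFun R (Fin r)).ext_alternating fun w hw => ?_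
    exfalso
    have := Fintype.card_le_of_injective w hw
    simp only [Fintype.card_fin] at this
    omega
  rw [h0]; rfl

theorem ιMulti_mul_ιMulti {M : Type v} [AddCommGroup M] [Module R M] (a b : ℕ)
    (e : Fin a → M) (f : Fin b → M) :
    ExteriorAlgebra.ιMulti R a e * ExteriorAlgebra.ιMulti R b f =
      ExteriorAlgebra.ιMulti R (a + b) (Fin.append e f) := by
  simp only [ExteriorAlgebra.ιMulti_apply]
  rw [← List.prod_append, ← List.ofFn_fin_append]
  congr 2
  ext i
  refine Fin.addCases ?_ ?_ i <;> intro j <;> simp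

/-- graded Leibniz rule for the interior product on a product of vectors. -/
theorem contr_list_mul {M : Type v} [AddCommGroup M] [Module R M] (d : Module.Dual R M)
    (l : List M) (y : ExteriorAlgebra R M) :
    CliffordAlgebra.contractLeft (Q := (0 : QuadraticForm R M)) d
        ((l.map (ExteriorAlgebra.ι R)).prod * y) =
      CliffordAlgebra.contractLeft (Q := (0 : QuadraticForm R M)) d
        ((l.map (ExteriorAlgebra.ι R)).prod) * y +
      ((-1 : R) ^ l.length) • ((l.map (ExteriorAlgebra.ι R)).prod *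
        CliffordAlgebra.contractLeft (Q := (0 : QuadraticForm R M)) d y) := by
  induction l with
  | nil =>
    simp [CliffordAlgebra.contractLeft_one]
  | cons v l ih =>
    simp only [List.map_cons, List.prod_cons, List.length_cons, mul_assoc]
    rw [show ExteriorAlgebra.ι R v = CliffordAlgebra.ι (0 : QuadraticForm R M) v from rfl]
    rw [CliffordAlgebra.contractLeft_ι_mul, CliffordAlgebra.contractLeft_ι_mul, ih]
    simp only [mul_add, sub_mul, smul_mul_assoc, mul_smul_comm, pow_succ, mul_neg, mul_one,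
      neg_smul, mul_assoc]
    abel

theorem contr_ιMulti_mul {M : Type v} [AddCommGroup M] [Module R M] (d : Module.Dual R M)
    (a : ℕ) (e : Fin a → M) (y : ExteriorAlgebra R M) :
    CliffordAlgebra.contractLeft (Q := (0 : QuadraticForm R M)) d
        (ExteriorAlgebra.ιMulti R a e * y) =
      CliffordAlgebra.contractLeft (Q := (0 : QuadraticForm R M)) d
        (ExteriorAlgebra.ιMulti R a e) * y +
      ((-1 : R) ^ a) • (ExteriorAlgebra.ιMulti R a e *
        CliffordAlgebra.contractLeft (Q := (0 : QuadraticForm R M)) d y) := by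
  have h := contr_list_mul R d (List.ofFn e) y
  rw [List.map_ofFn, List.length_ofFn] at h
  exact h

end Groth.Agent.H65.SSPair

namespace Groth.Agent.H65.SSPair

open W4c6secantcecovers

variable (R : Type u) [CommRing R] (r : ℕ) (N : Type v) [AddCommGroup N] [Module R N]

theorem ssPairAux_tmul (β : N →ₗ[R] N →ₗ[R] R) (a b : SSLam R r)
    (s t : MvPolynomial (Fin r) R) (n m : N) :
    ssPairAux R r N β (((a ⊗ₜ[R] s) ⊗ₜ[R] n) ⊗ₜ[R] ((b ⊗ₜ[R] t) ⊗ₜ[R] m)) =
      β n m • ((a * b) ⊗ₜ[R] (s * t)) := by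
  simp [ssPairAux, Algebra.TensorProduct.tmul_mul_tmul]

theorem ssPair_tmul (β : N →ₗ[R] N →ₗ[R] R) (k : ℕ) (a b : SSLam R r)
    (s t : MvPolynomial (Fin r) R) (n m : N) :
    ssPair R r N β k ((a ⊗ₜ[R] s) ⊗ₜ[R] n) ((b ⊗ₜ[R] t) ⊗ₜ[R] m) =
      ((-1 : R) ^ (k.choose 2)) • (β n m • ((a * b) ⊗ₜ[R] (s * t))) := by
  simp [ssPair, ssPairAux_tmul]

theorem ssDelta_tmul (φ : Fin r → (N →ₗ[R] N)) (a : SSLam R r)
    (s : MvPolynomial (Fin r) R) (n : N) :
    ssDelta R r N φ ((a ⊗ₜ[R] s) ⊗ₜ[R] n) =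
      ∑ j : Fin r, (((ssContr R r j a) ⊗ₜ[R] (MvPolynomial.X j * s)) ⊗ₜ[R] n +
        (-1 : R) • (((ssContr R r j a) ⊗ₜ[R] s) ⊗ₜ[R] (φ j n))) := by
  simp [ssDelta, ssDKoszul, ssDAct, LinearMap.sum_apply]

end Groth.Agent.H65.SSPair
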