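import Mathlib
import Groth.Agent.H69.Sec.S1
import Groth.Agent.H44.FinrankFA

/-!
# (S4) for helper69's S14460 squad: `k` pairwise disjoint sections of a finite étale morphism of
constant degree `n` that cover the source force `k = n`.  (Adapted from helper64's (S3).)
-/

set_option autoImplicit false
set_option linter.style.haveILetI false
universe u
open CategoryTheory CategoryTheory.Limits AlgebraicGeometry

namespace Groth.Agent.H65.Sec_S4

open Groth.Agent.H69.Sec

theorem card_eq_finrank_of_cover (k : ℕ) : ∀ {P T : Scheme.{u}} (p : P ⟶ T) [IsFinite p] [Etale p]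
    [Nonempty T] (n : ℕ) (_ : ∀ t : T, p.finrank t = n) (σ : Fin k → (T ⟶ P))
    (_ : ∀ i, σ i ≫ p = 𝟙 T)
    (_ : ∀ i j, i ≠ j → Disjoint (Set.range (σ i).base) (Set.range (σ j).base))
    (_ : ∀ z : P, ∃ i, z ∈ Set.range (σ i).base), k = n := by
  induction k with
  | zero =>
    intro P T p _ _ _ n hn σ hσ hdisj hcov
    by_contra hne
    have hn1 : 1 ≤ n := by omega
    have hsurj : Surjective p := by
      rw [← Scheme.Hom.one_le_finrank_iff_surjective]
      intro t
      rw [hn t]
      exact hn1
    obtain ⟨t⟩ := ‹Nonempty T›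
    obtain ⟨z, _⟩ := hsurj.surj t
    obtain ⟨i, _⟩ := hcov z
    exact Fin.elim0 i
  | succ k ih =>
    intro P T p _ _ _ n hn σ hσ hdisj hcov
    haveI hoi : IsOpenImmersion (σ 0) := isOpenImmersion_of_section p (σ 0) (hσ 0)
    have hclopen : IsClopen (Set.range (σ 0).base) := isClopen_range_of_section p (σ 0) (hσ 0)
    let U : P.Opens := (σ 0).opensRange
    let W : P.Opens := ⟨(Set.range (σ 0).base)ᶜ, hclopen.1.isOpen_compl⟩
    have hUW : IsCompl U W := by
      constructor
      · rw [disjoint_iff]
        ext x
        simp only [TopologicalSpace.Opens.coe_inf, TopologicalSpace.Opens.coe_bot,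
          Set.mem_inter_iff, Set.mem_empty_iff_false, iff_false, not_and]
        intro hx hx'
        exact hx' hx
      · rw [codisjoint_iff]
        ext x
        simp only [TopologicalSpace.Opens.coe_sup, TopologicalSpace.Opens.coe_top, Set.mem_union,
          Set.mem_univ, iff_true]
        exact Classical.em _
    haveI hWci : IsClosedImmersion W.ι :=
      Groth.Agent.H44.FinrankFA.isClosedImmersion_ι_of_isCompl W U hUW.symm
    -- `U.ι ≫ p` is an isomorphism
    have hUiso : (Scheme.Hom.isoOpensRange (σ 0)).hom ≫ (U.ι ≫ p) = 𝟙 T := by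
      rw [← Category.assoc, Scheme.Hom.isoOpensRange_hom_ι, hσ 0]
    haveI : IsIso (U.ι ≫ p) := by
      have : U.ι ≫ p = (Scheme.Hom.isoOpensRange (σ 0)).inv := by
        rw [← cancel_epi (Scheme.Hom.isoOpensRange (σ 0)).hom, hUiso, Iso.hom_inv_id]
      rw [this]
      infer_instance
    have hrank : ∀ t : T, (W.ι ≫ p).finrank t + 1 = n := by
      intro t
      have h1 := Groth.Agent.H44.FinrankFA.finrank_add_of_isCompl p U W hUW t
      rw [hn t, congrFun (Scheme.Hom.finrank_eq_one_of_isIso (U.ι ≫ p)) t] at h1
      rw [h1, add_comm]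
      rfl
    have hrank' : ∀ t : T, (W.ι ≫ p).finrank t = n - 1 := fun t => by
      have := hrank t
      omega
    have hn1 : 1 ≤ n := by
      obtain ⟨t⟩ := ‹Nonempty T›
      have := hrank t
      omega
    -- the other sections factor through `W`
    have hsub : ∀ i : Fin k, Set.range (σ i.succ).base ⊆ Set.range W.ι.base := by
      intro i x hx
      rw [Scheme.Opens.range_ι]
      show x ∈ (Set.range (σ 0).base)ᶜ
      intro hx0
      exact (Set.disjoint_left.mp (hdisj 0 i.succ (Fin.succ_ne_zero i).symm) hx0) hx
    have hfac : ∀ i : Fin k, IsOpenImmersion.lift W.ι (σ i.succ) (hsub i) ≫ W.ι = σ i.succ :=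
      fun i => IsOpenImmersion.lift_fac _ _ _
    have hk := ih (W.ι ≫ p) (n - 1) hrank'
      (fun i => IsOpenImmersion.lift W.ι (σ i.succ) (hsub i))
      (fun i => by rw [← Category.assoc, hfac i, hσ i.succ])
      (fun i j hij => by
        rw [Set.disjoint_left]
        rintro x ⟨a, rfl⟩ ⟨b, hb⟩
        have h1 : (σ i.succ).base a = (σ j.succ).base b := by
          rw [← hfac i, ← hfac j, Scheme.Hom.comp_apply, Scheme.Hom.comp_apply, hb]
        exact Set.disjoint_left.mp (hdisj i.succ j.succ (fun h => hij (Fin.succ_injective _ h)))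
          ⟨a, rfl⟩ ⟨b, h1.symm⟩)
      (fun w => by
        obtain ⟨i, a, ha⟩ := hcov (W.ι.base w)
        have hw : (W.ι.base w) ∉ Set.range (σ 0).base := by
          have : W.ι.base w ∈ Set.range W.ι.base := ⟨w, rfl⟩
          rw [Scheme.Opens.range_ι] at this
          exact this
        refine Fin.cases (motive := fun i => (σ i).base a = W.ι.base w → _) ?_ ?_ i ha
        · intro h0
          exact absurd ⟨a, h0⟩ hw
        · intro j hj
          refine ⟨j, a, ?_⟩
          apply W.ι.isOpenEmbedding.injective
          have h2 : (IsOpenImmersion.lift W.ι (σ j.succ) (hsub j) ≫ W.ι).base a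
              = (σ j.succ).base a := by rw [hfac j]
          rw [Scheme.Hom.comp_apply] at h2
          exact h2.trans hj)
    omega

end Groth.Agent.H65.Sec_S4
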