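import Groth.Prelude.Def_AlgSp

/-!
# Gluing maps of fppf sheaves along a jointly locally surjective family `h_{U_i} ⟶ M`
-/

set_option autoImplicit false
universe u
open CategoryTheory CategoryTheory.Limits AlgebraicGeometry Opposite

namespace Groth.Agent.H65.SpGlue

variable {S : Scheme.{u}} {I : Type*} (U : I → Over S) {M N : AlgSp.Sp S}
  (u : ∀ i, (AlgSp.yon S).obj (U i) ⟶ M)

/-- the sieve of those `v : V ⟶ T` along which the section `m` lifts to one of the `U i`. -/
def covSieve (T : Over S) (m : M.obj.obj (op T)) : Sieve T where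
  arrows V v := ∃ (i : I) (a : V ⟶ U i), (u i).hom.app (op V) ⟨a⟩ = M.obj.map v.op m
  downward_closed := by
    rintro V W v ⟨i, a, ha⟩ w
    refine ⟨i, w ≫ a, ?_⟩
    have h1 := NatTrans.naturality_apply (u i).hom w.op ⟨a⟩
    have h2 : M.obj.map (w ≫ v).op m = M.obj.map w.op (M.obj.map v.op m) := by
      rw [op_comp, Functor.map_comp_apply]
    rw [h2, ← ha]
    exact h1

variable {U}

omit u in
theorem yon_map_apply {T V : Over S} (i : I) (k : (AlgSp.yon S).obj (U i) ⟶ N) (w : V ⟶ T)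
    (a : T ⟶ U i) : N.obj.map w.op (k.hom.app (op T) ⟨a⟩) = k.hom.app (op V) ⟨w ≫ a⟩ :=
  (NatTrans.naturality_apply k.hom w.op
    (⟨a⟩ : ((AlgSp.yon S).obj (U i)).obj.obj (op T))).symm

section glue

variable (hcov : ∀ (T : Over S) (m : M.obj.obj (op T)), covSieve U u T m ∈ AlgSp.J S T)
  (h : ∀ i, (AlgSp.yon S).obj (U i) ⟶ N)
  (hcompat : ∀ (T : Over S) (i j : I) (a : T ⟶ U i) (b : T ⟶ U j),
    (u i).hom.app (op T) ⟨a⟩ = (u j).hom.app (op T) ⟨b⟩ →
    (h i).hom.app (op T) ⟨a⟩ = (h j).hom.app (op T) ⟨b⟩)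

/-- the local value of the glued map. -/
noncomputable def val (T : Over S) (m : M.obj.obj (op T)) :
    Presieve.FamilyOfElements N.obj (covSieve U u T m).arrows :=
  fun _ _ hv => (h hv.choose).hom.app (op _) ⟨hv.choose_spec.choose⟩

include hcompat in
theorem val_eq (T : Over S) (m : M.obj.obj (op T)) {V : Over S} (v : V ⟶ T)
    (hv : (covSieve U u T m).arrows v) (i : I) (a : V ⟶ U i)
    (ha : (u i).hom.app (op V) ⟨a⟩ = M.obj.map v.op m) :
    val u h T m v hv = (h i).hom.app (op V) ⟨a⟩ :=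
  hcompat V _ _ _ _ (hv.choose_spec.choose_spec.trans ha.symm)

include hcompat in
theorem val_compatible (T : Over S) (m : M.obj.obj (op T)) : (val u h T m).Compatible := by
  rw [Presieve.compatible_iff_sieveCompatible]
  intro V W v w hv
  obtain ⟨i, a, ha⟩ := hv
  have hwv : (covSieve U u T m).arrows (w ≫ v) := (covSieve U u T m).downward_closed ⟨i, a, ha⟩ w
  have h2 : M.obj.map (w ≫ v).op m = M.obj.map w.op (M.obj.map v.op m) := by
    rw [op_comp, Functor.map_comp_apply]
  have ha' : (u i).hom.app (op W) ⟨w ≫ a⟩ = M.obj.map (w ≫ v).op m := by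
    rw [h2, ← ha]
    exact (yon_map_apply i (u i) w a).symm
  rw [val_eq u h hcompat T m (w ≫ v) hwv i (w ≫ a) ha', val_eq u h hcompat T m v ⟨i, a, ha⟩ i a ha]
  exact (yon_map_apply i (h i) w a).symm

theorem isSheaf_N : Presieve.IsSheaf (AlgSp.J S) N.obj :=
  (isSheaf_iff_isSheaf_of_type _ _).1 N.property

/-- the glued map on sections. -/
noncomputable def glueApp (T : Over S) (m : M.obj.obj (op T)) : N.obj.obj (op T) :=
  (isSheaf_N _ (hcov T m)).amalgamate (val u h T m) (val_compatible u h hcompat T m)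

theorem glueApp_spec (T : Over S) (m : M.obj.obj (op T)) {V : Over S} (v : V ⟶ T)
    (hv : (covSieve U u T m).arrows v) :
    N.obj.map v.op (glueApp u hcov h hcompat T m) = val u h T m v hv :=
  (isSheaf_N _ (hcov T m)).valid_glue (val_compatible u h hcompat T m) v hv

theorem glueApp_eq (T : Over S) (i : I) (a : T ⟶ U i) :
    glueApp u hcov h hcompat T ((u i).hom.app (op T) ⟨a⟩) = (h i).hom.app (op T) ⟨a⟩ := by
  have hid : (covSieve U u T ((u i).hom.app (op T) ⟨a⟩)).arrows (𝟙 T) :=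
    ⟨i, a, by rw [op_id, Functor.map_id_apply]⟩
  have h1 := glueApp_spec u hcov h hcompat T ((u i).hom.app (op T) ⟨a⟩) (𝟙 T) hid
  rw [op_id, Functor.map_id_apply] at h1
  rw [h1]
  exact val_eq u h hcompat T _ (𝟙 T) hid i a (by rw [op_id, Functor.map_id_apply])

theorem glueApp_natural {T T' : Over S} (t : T' ⟶ T) (m : M.obj.obj (op T)) :
    glueApp u hcov h hcompat T' (M.obj.map t.op m) = N.obj.map t.op (glueApp u hcov h hcompat T m) := by
  refine (isSheaf_N (N := N) _ (hcov T' (M.obj.map t.op m))).isSeparatedFor.ext ?_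
  intro V v hv
  obtain ⟨i, a, ha⟩ := hv
  have h2 : M.obj.map (v ≫ t).op m = M.obj.map v.op (M.obj.map t.op m) := by
    rw [op_comp, Functor.map_comp_apply]
  have hvt : (covSieve U u T m).arrows (v ≫ t) := ⟨i, a, by rw [h2, ha]⟩
  rw [glueApp_spec u hcov h hcompat T' _ v ⟨i, a, ha⟩, val_eq u h hcompat T' _ v ⟨i, a, ha⟩ i a ha,
    ← Functor.map_comp_apply, ← op_comp, glueApp_spec u hcov h hcompat T m (v ≫ t) hvt,
    val_eq u h hcompat T m (v ≫ t) hvt i a (by rw [h2, ha])]

include hcov hcompat in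
theorem exists_glue : ∃ k : M ⟶ N, ∀ i, u i ≫ k = h i := by
  refine ⟨ObjectProperty.homMk
    { app := fun T => TypeCat.ofHom (glueApp u hcov h hcompat T.unop)
      naturality := fun T T' t => by
        refine ConcreteCategory.hom_ext _ _ (fun m => ?_)
        exact glueApp_natural u hcov h hcompat t.unop m }, fun i => ?_⟩
  apply Sheaf.hom_ext
  apply NatTrans.ext
  funext T
  refine ConcreteCategory.hom_ext _ _ (fun a => ?_)
  exact glueApp_eq u hcov h hcompat T.unop i a.down

end glue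

theorem hom_ext_of_cov (hcov : ∀ (T : Over S) (m : M.obj.obj (op T)), covSieve U u T m ∈ AlgSp.J S T)
    (k k' : M ⟶ N) (hk : ∀ i, u i ≫ k = u i ≫ k') : k = k' := by
  apply Sheaf.hom_ext
  apply NatTrans.ext
  funext T
  refine ConcreteCategory.hom_ext _ _ (fun m => ?_)
  refine (isSheaf_N (N := N) _ (hcov T.unop m)).isSeparatedFor.ext ?_
  intro V v hv
  obtain ⟨i, a, ha⟩ := hv
  have e1 := NatTrans.naturality_apply k.hom v.op m
  have e2 := NatTrans.naturality_apply k'.hom v.op m
  have e3 := congrArg (fun φ => φ.hom.app (op V) ⟨a⟩) (hk i)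
  change N.obj.map v.op (k.hom.app T m) = N.obj.map v.op (k'.hom.app T m)
  rw [← e1, ← e2, ← ha]
  exact e3

end Groth.Agent.H65.SpGlue
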