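import Groth.Prelude.Def_StCoarse
import Groth.Agent.H32.Fp2
import Groth.Agent.H32.Fp4
import Groth.Agent.H32.PshStack
import Groth.Agent.H32.FibProd
import Groth.Agent.H65.AffCharts
import Groth.Agent.H51.SmoothST

/-!
# Uniform categorical moduli spaces from flat affine base changes (towards S16704)
-/

set_option autoImplicit false
universe u
open CategoryTheory CategoryTheory.Limits AlgebraicGeometry Opposite

namespace Groth.Agent.H65.UnifCat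

open AlgSp FibCat Stk Groth.Agent.H32.PshStack Groth.Agent.H32.Fp2 Groth.Agent.H32.FibProd
  Groth.Agent.H65.AffCharts

variable {S : Scheme.{u}}

section K

variable {𝒜 : AlgSt.Cat S} {M N : AlgSp.Sp S}

theorem secAs_ofSpMap (h : M ⟶ N) (x : EltObj M.obj) {W : Over S} (hx : x.base = W) :
    secAs ((AlgSt.ofSpMap h).obj x) hx = h.hom.app (op W) (secAs x hx) := by
  obtain ⟨b, s⟩ := x
  dsimp at hx
  subst hx
  exact (secAs_self ((AlgSt.ofSpMap h).obj ⟨b, s⟩) rfl).trans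
    (congrArg (fun t => h.hom.app (op b) t) (secAs_self (⟨b, s⟩ : EltObj M.obj) rfl).symm)

/-- `π ≫ ofSpMap h ≅ φ` is an equality of sections. -/
theorem good_iff (π : 𝒜 ⥤ᵇ AlgSt.ofSp M) (φ : 𝒜 ⥤ᵇ AlgSt.ofSp N) (h : M ⟶ N) :
    Nonempty (BasedFunctor.comp π (AlgSt.ofSpMap h) ≅ φ) ↔
      ∀ a : 𝒜.obj, h.hom.app _ (secAs (π.obj a) (π.w_obj a)) = secAs (φ.obj a) (φ.w_obj a) := by
  constructor
  · rintro ⟨e⟩ a
    have h1 := secAs_eq_of_natTrans e.hom a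
    rw [← h1]
    exact (secAs_ofSpMap h (π.obj a) (π.w_obj a)).symm
  · intro H
    refine exists_iso_of_secAs _ _ (fun a => ?_)
    rw [← H a]
    exact secAs_ofSpMap h (π.obj a) (π.w_obj a)

end K

section Obj

variable {C : Type*} [Category C] {P : Cᵒᵖ ⥤ Type*}

/-- objects of `ofPsh P` over the same base with equal sections are isomorphic over the identity. -/
theorem exists_iso_of_secAs_eq (x y : EltObj P) {W : C} (hx : x.base = W) (hy : y.base = W)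
    (h : secAs x hx = secAs y hy) :
    ∃ θ : x ≅ y, (EltObj.forget P).IsHomLift (𝟙 W) θ.hom := by
  obtain ⟨m, hm⟩ := exists_hom_of_secAs_eq x y hx hy h
  obtain ⟨m', hm'⟩ := exists_hom_of_secAs_eq y x hy hx h.symm
  refine ⟨⟨m, m', ?_, ?_⟩, hm⟩
  · exact hom_eq_of_lift _ _ (𝟙 W)
      (Groth.Agent.H32.StkLoc.isHomLift_comp_id_left (EltObj.forget P) (𝟙 W) _ _ hm hm')
      (IsHomLift.id hx)
  · exact hom_eq_of_lift _ _ (𝟙 W)
      (Groth.Agent.H32.StkLoc.isHomLift_comp_id_left (EltObj.forget P) (𝟙 W) _ _ hm' hm)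
      (IsHomLift.id hy)

theorem secAs_congr {x y : EltObj P} (e : x = y) {W : C} (hx : x.base = W) (hy : y.base = W) :
    secAs x hx = secAs y hy := by
  subst e; rfl

end Obj

section Good

variable {𝒜 ℬ : AlgSt.Cat S} {M M₂ N : AlgSp.Sp S}

/-- `h` carries the sections of `π` to those of `φ`. -/
def Good (π : 𝒜 ⥤ᵇ AlgSt.ofSp M) (φ : 𝒜 ⥤ᵇ AlgSt.ofSp N) (h : M ⟶ N) : Prop :=
  ∀ (a : 𝒜.obj) (W : Over S) (hπ : (π.obj a).base = W) (hφ : (φ.obj a).base = W),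
    h.hom.app _ (secAs (π.obj a) hπ) = secAs (φ.obj a) hφ

theorem good_iff' (π : 𝒜 ⥤ᵇ AlgSt.ofSp M) (φ : 𝒜 ⥤ᵇ AlgSt.ofSp N) (h : M ⟶ N) :
    Nonempty (BasedFunctor.comp π (AlgSt.ofSpMap h) ≅ φ) ↔ Good π φ h := by
  rw [good_iff]
  constructor
  · intro H a W hπ hφ
    have e : 𝒜.p.obj a = W := (π.w_obj a).symm.trans hπ
    subst e
    exact H a
  · intro H a
    exact H a _ _ _

theorem good_comp (πA : 𝒜 ⥤ᵇ AlgSt.ofSp M) (πB : ℬ ⥤ᵇ AlgSt.ofSp M₂) (Ψ : 𝒜 ⥤ᵇ ℬ) (w : M ⟶ M₂)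
    (hsq : ∀ a, πB.obj (Ψ.obj a) = (AlgSt.ofSpMap w).obj (πA.obj a))
    (φ : ℬ ⥤ᵇ AlgSt.ofSp N) (h : M₂ ⟶ N) (H : Good πB φ h) :
    Good πA (BasedFunctor.comp Ψ φ) (w ≫ h) := by
  intro a W hπ hφ
  have h1 : (πB.obj (Ψ.obj a)).base = W := by rw [hsq a]; exact hπ
  have h2 := H (Ψ.obj a) W h1 hφ
  have h3 : secAs (πB.obj (Ψ.obj a)) h1 = w.hom.app (op W) (secAs (πA.obj a) hπ) := by
    rw [← secAs_ofSpMap w (πA.obj a) hπ]
    exact secAs_congr (hsq a) _ _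
  rw [h3] at h2
  exact h2

end Good

section Main

variable {𝒳 : AlgSt.Cat S} {Y M' N : AlgSp.Sp S} (g : M' ⟶ Y) (f : 𝒳 ⥤ᵇ AlgSt.ofSp Y)

/-- the chart functor `h_U ×_Y 𝒳 ⟶ M' ×_Y 𝒳`. -/
abbrev Φ {U : Over S} (w : (yon S).obj U ⟶ M') :
    fp (AlgSt.ofSpMap (w ≫ g)) f ⥤ᵇ fp (AlgSt.ofSpMap g) f :=
  pasteMid (AlgSt.ofSpMap w) (AlgSt.ofSpMap g) f

theorem comp_app_apply {A B D : AlgSp.Sp S} (p : A ⟶ B) (q : B ⟶ D) (T : Over S)
    (x : A.obj.obj (op T)) : (p ≫ q).hom.app (op T) x = q.hom.app (op T) (p.hom.app (op T) x) :=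
  rfl

/-- the section of `Y` attached to an object of the fibre product. -/
theorem fp_sec_eq (ξ : (fp (AlgSt.ofSpMap g) f).obj)
    (hf : (f.obj ξ.obj.snd).base = ξ.obj.fst.base) :
    secAs (f.obj ξ.obj.snd) hf = g.hom.app _ ξ.obj.fst.sec := by
  have h1 := secAs_eq_of_hom ξ.obj.iso.hom (fp_iso_isHomLift (AlgSt.ofSpMap g) f ξ) rfl hf
  exact h1.symm.trans ((secAs_ofSpMap g ξ.obj.fst rfl).trans
    (congrArg (fun t => g.hom.app _ t) (secAs_self ξ.obj.fst rfl)))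

/-- local computation of the section attached by `φ` to an object of the fibre product. -/
theorem good_local (h𝒳 : IsFibGrpd 𝒳.p) (φ : fp (AlgSt.ofSpMap g) f ⥤ᵇ AlgSt.ofSp N)
    {U : Over S} (w : (yon S).obj U ⟶ M') (hw : (yon S).obj U ⟶ N)
    (Hw : Good (fpFst (AlgSt.ofSpMap (w ≫ g)) f) (BasedFunctor.comp (Φ g f w) φ) hw)
    (ξ : (fp (AlgSt.ofSpMap g) f).obj) {V : Over S} (v : V ⟶ ξ.obj.fst.base)
    (sa : ((yon S).obj U).obj.obj (op V))
    (ha : w.hom.app (op V) sa = M'.obj.map v.op ξ.obj.fst.sec)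
    (hφ : (φ.obj ξ).base = ξ.obj.fst.base) :
    N.obj.map v.op (secAs (φ.obj ξ) hφ) = hw.hom.app (op V) sa := by
  have hsnd : 𝒳.p.obj ξ.obj.snd = ξ.obj.fst.base := fp_snd_obj_eq (AlgSt.ofSpMap g) f ξ
  obtain ⟨xV, b₁, hb₁⟩ := exists_lift_of_eq 𝒳.p h𝒳 hsnd v
  have hxV : 𝒳.p.obj xV = V := IsHomLift.domain_eq 𝒳.p v b₁
  have hfx : (f.obj xV).base = V := (f.w_obj xV).trans hxV
  have hfξ : (f.obj ξ.obj.snd).base = ξ.obj.fst.base := (f.w_obj ξ.obj.snd).trans hsnd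
  have hfb : (EltObj.forget Y.obj).IsHomLift v (f.map b₁) :=
    (BasedFunctor.isHomLift_iff f v b₁).mpr hb₁
  -- the section of `f xV`
  have e1 : secAs (f.obj xV) hfx = (w ≫ g).hom.app (op V) sa := by
    rw [← secAs_map (f.map b₁) v hfb hfx hfξ, fp_sec_eq g f ξ hfξ]
    refine (NatTrans.naturality_apply g.hom v.op ξ.obj.fst.sec).symm.trans ?_
    rw [← ha]
    rfl
  let x₁ : (AlgSt.ofSp ((yon S).obj U)).obj := ⟨V, sa⟩
  have e2 : secAs ((AlgSt.ofSpMap (w ≫ g)).obj x₁) (rfl : _ = V) = secAs (f.obj xV) hfx := by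
    rw [e1]
    exact (secAs_ofSpMap (w ≫ g) x₁ rfl).trans
      (congrArg (fun t => (w ≫ g).hom.app _ t) (secAs_self x₁ rfl))
  obtain ⟨θ, hθ⟩ := exists_iso_of_secAs_eq _ _ _ _ e2
  let ζ : (fp (AlgSt.ofSpMap (w ≫ g)) f).obj := mkObj (AlgSt.ofSpMap (w ≫ g)) f x₁ xV θ hθ
  let a₁ : (AlgSt.ofSpMap w).obj x₁ ⟶ ξ.obj.fst := ⟨v, ha.symm⟩
  have ha₁ : (EltObj.forget M'.obj).IsHomLift v a₁ := IsHomLift.map (EltObj.forget M'.obj) a₁
  have hga₁ : (EltObj.forget Y.obj).IsHomLift v ((AlgSt.ofSpMap g).map a₁) :=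
    (BasedFunctor.isHomLift_iff (AlgSt.ofSpMap g) v a₁).mpr ha₁
  have hsq : (AlgSt.ofSpMap g).map a₁ ≫ ξ.obj.iso.hom =
      ((Φ g f w).obj ζ).obj.iso.hom ≫ f.map b₁ := by
    refine hom_eq_of_lift _ _ v
      (Groth.Agent.H32.StkLoc.isHomLift_comp_id_right (EltObj.forget Y.obj) v _ _ hga₁
        (fp_iso_isHomLift (AlgSt.ofSpMap g) f ξ))
      (Groth.Agent.H32.StkLoc.isHomLift_comp_id_left (EltObj.forget Y.obj) v _ _
        (fp_iso_isHomLift (AlgSt.ofSpMap g) f ((Φ g f w).obj ζ)) hfb)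
  let μ : (Φ g f w).obj ζ ⟶ ξ := mkHom (AlgSt.ofSpMap g) f a₁ b₁ hsq
  have hμ : (fp (AlgSt.ofSpMap g) f).p.IsHomLift v μ :=
    (fp_isHomLift_iff (AlgSt.ofSpMap g) f v μ).mpr ha₁
  have hφμ : (EltObj.forget N.obj).IsHomLift v (φ.map μ) :=
    (BasedFunctor.isHomLift_iff φ v μ).mpr hμ
  have hbase : (φ.obj ((Φ g f w).obj ζ)).base = V :=
    IsHomLift.domain_eq (EltObj.forget N.obj) v (φ.map μ)
  rw [secAs_map (φ.map μ) v hφμ hbase hφ]
  have h3 := Hw ζ V rfl hbase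
  exact h3.symm.trans (congrArg (fun t => hw.hom.app _ t) (secAs_self x₁ rfl))

theorem good_restrict (φ : fp (AlgSt.ofSpMap g) f ⥤ᵇ AlgSt.ofSp N) (h : M' ⟶ N)
    (H : Good (fpFst (AlgSt.ofSpMap g) f) φ h) {U : Over S} (w : (yon S).obj U ⟶ M') :
    Good (fpFst (AlgSt.ofSpMap (w ≫ g)) f) (BasedFunctor.comp (Φ g f w) φ) (w ≫ h) :=
  good_comp (fpFst (AlgSt.ofSpMap (w ≫ g)) f) (fpFst (AlgSt.ofSpMap g) f) (Φ g f w) w
    (fun _ => rfl) φ h H

theorem good_change (φ : fp (AlgSt.ofSpMap g) f ⥤ᵇ AlgSt.ofSp N) {U U' : Over S}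
    (w : (yon S).obj U ⟶ M') (k : U' ⟶ U) (w' : (yon S).obj U' ⟶ M')
    (hw' : w' = (yon S).map k ≫ w) (h : (yon S).obj U ⟶ N)
    (H : Good (fpFst (AlgSt.ofSpMap (w ≫ g)) f) (BasedFunctor.comp (Φ g f w) φ) h) :
    Good (fpFst (AlgSt.ofSpMap (w' ≫ g)) f) (BasedFunctor.comp (Φ g f w') φ)
      ((yon S).map k ≫ h) := by
  subst hw'
  exact good_comp (fpFst (AlgSt.ofSpMap (((yon S).map k ≫ w) ≫ g)) f)
    (fpFst (AlgSt.ofSpMap (w ≫ g)) f)
    (pasteMid (AlgSt.ofSpMap ((yon S).map k)) (AlgSt.ofSpMap (w ≫ g)) f) ((yon S).map k)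
    (fun _ => rfl) (BasedFunctor.comp (Φ g f w) φ) h H

/-- the uniqueness half of the hypothesis, in terms of `Good`. -/
theorem good_unique (hN : IsAlgSpace N) {U : Over S} (w : (yon S).obj U ⟶ M')
    (hm : AlgSt.IsCatModuli (fpFst (AlgSt.ofSpMap (w ≫ g)) f))
    (ψ : fp (AlgSt.ofSpMap (w ≫ g)) f ⥤ᵇ AlgSt.ofSp N) (k k' : (yon S).obj U ⟶ N)
    (hk : Good (fpFst (AlgSt.ofSpMap (w ≫ g)) f) ψ k)
    (hk' : Good (fpFst (AlgSt.ofSpMap (w ≫ g)) f) ψ k') : k = k' := by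
  obtain ⟨k₀, -, h2⟩ := hm.2 N hN ψ
  exact (h2 k ((good_iff' _ _ _).2 hk)).trans (h2 k' ((good_iff' _ _ _).2 hk')).symm

theorem good_exists (hN : IsAlgSpace N) {U : Over S} (w : (yon S).obj U ⟶ M')
    (hm : AlgSt.IsCatModuli (fpFst (AlgSt.ofSpMap (w ≫ g)) f))
    (ψ : fp (AlgSt.ofSpMap (w ≫ g)) f ⥤ᵇ AlgSt.ofSp N) :
    ∃ k : (yon S).obj U ⟶ N, Good (fpFst (AlgSt.ofSpMap (w ≫ g)) f) ψ k := by
  obtain ⟨k₀, h1, -⟩ := hm.2 N hN ψ
  exact ⟨k₀, (good_iff' _ _ _).1 h1⟩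

theorem compat (hN : IsAlgSpace N)
    (hf : ∀ (U : Over S) (w : (yon S).obj U ⟶ M'), IsAffine U.left → RepWith @Etale w →
      AlgSt.IsCatModuli (fpFst (AlgSt.ofSpMap (w ≫ g)) f))
    (φ : fp (AlgSt.ofSpMap g) f ⥤ᵇ AlgSt.ofSp N) (c c' : AffChart M')
    (hc : (yon S).obj c.U ⟶ N) (hc' : (yon S).obj c'.U ⟶ N)
    (Hc : Good (fpFst (AlgSt.ofSpMap (c.u ≫ g)) f) (BasedFunctor.comp (Φ g f c.u) φ) hc)
    (Hc' : Good (fpFst (AlgSt.ofSpMap (c'.u ≫ g)) f) (BasedFunctor.comp (Φ g f c'.u) φ) hc')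
    (T : Over S) (a : T ⟶ c.U) (b : T ⟶ c'.U)
    (hab : c.u.hom.app (op T) ⟨a⟩ = c'.u.hom.app (op T) ⟨b⟩) :
    hc.hom.app (op T) ⟨a⟩ = hc'.hom.app (op T) ⟨b⟩ := by
  have hrep := c'.et.rep
  have hab' : (yon S).map b ≫ c'.u = (yon S).map a ≫ c.u := by
    apply (yEquiv (M := M') (T := T)).injective
    rw [← app_up, ← app_up]
    exact hab.symm
  let P : Over S := hrep.pullback c.u
  let snd : P ⟶ c.U := hrep.snd c.u
  let fst : P ⟶ c'.U := hrep.fst' c.u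
  have sq : IsPullback ((yon S).map fst) ((yon S).map snd) c'.u c.u := hrep.isPullback' c.u
  have hsnd : RepWith @Etale ((yon S).map snd) := Groth.Agent.H50.repWith_snd_of_isPullback sq c'.et
  have hfst : RepWith @Etale ((yon S).map fst) := Groth.Agent.H50.repWith_fst_of_isPullback sq c.et
  let l : T ⟶ P := hrep.lift' b a hab'
  have hl1 : l ≫ fst = b := hrep.lift'_fst b a hab'
  have hl2 : l ≫ snd = a := hrep.lift'_snd b a hab'
  have key : (yon S).map snd ≫ hc = (yon S).map fst ≫ hc' := by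
    refine SpGlue.hom_ext_of_cov (U := fun e : AffChart ((yon S).obj P) => e.U) (fun e => e.u)
      (cov_affChart (IsAlgSpace.yon_obj P)) _ _ (fun e => ?_)
    obtain ⟨k, hk⟩ := (yon S).map_surjective e.u
    have hw₁ : RepWith @Etale ((yon S).map (k ≫ snd) ≫ c.u) := by
      rw [Functor.map_comp, hk]
      exact (repWith_isMultiplicative (S := S) @Etale).comp_mem _ _
        ((repWith_isMultiplicative (S := S) @Etale).comp_mem _ _ e.et hsnd) c.et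
    have hm := hf e.U ((yon S).map (k ≫ snd) ≫ c.u) e.aff hw₁
    have g1 := good_change g f φ c.u (k ≫ snd) ((yon S).map (k ≫ snd) ≫ c.u) rfl hc Hc
    have hw' : (yon S).map (k ≫ snd) ≫ c.u = (yon S).map (k ≫ fst) ≫ c'.u := by
      rw [Functor.map_comp, Functor.map_comp, Category.assoc, Category.assoc, sq.w]
    have g2 := good_change g f φ c'.u (k ≫ fst) ((yon S).map (k ≫ snd) ≫ c.u) hw' hc' Hc'
    have := good_unique g f hN _ hm _ _ _ g1 g2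
    rw [← hk, ← Category.assoc, ← Category.assoc, ← Functor.map_comp, ← Functor.map_comp]
    exact this
  rw [app_up, app_up, ← hl1, ← hl2, Functor.map_comp, Functor.map_comp, Category.assoc,
    Category.assoc, key]

/-- a base change is a categorical moduli space as soon as its further base changes to all affine
étale charts are. -/
theorem isCatModuli_fpFst (h𝒳 : IsFibGrpd 𝒳.p) (hM' : IsAlgSpace M')
    (hf : ∀ (U : Over S) (w : (yon S).obj U ⟶ M'), IsAffine U.left → RepWith @Etale w →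
      AlgSt.IsCatModuli (fpFst (AlgSt.ofSpMap (w ≫ g)) f)) :
    AlgSt.IsCatModuli (fpFst (AlgSt.ofSpMap g) f) := by
  refine ⟨hM', fun N hN φ => ?_⟩
  have hloc : ∀ c : AffChart M', ∃ hc : (yon S).obj c.U ⟶ N,
      Good (fpFst (AlgSt.ofSpMap (c.u ≫ g)) f) (BasedFunctor.comp (Φ g f c.u) φ) hc :=
    fun c => good_exists g f hN c.u (hf c.U c.u c.aff c.et) _
  choose hc Hc using hloc
  have hcov := cov_affChart hM'
  obtain ⟨h, hh⟩ := SpGlue.exists_glue (U := fun c : AffChart M' => c.U) (fun c => c.u) hcov hc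
    (fun T c c' a b hab => compat g f hN hf φ c c' (hc c) (hc c') (Hc c) (Hc c') T a b hab)
  have hgood : Good (fpFst (AlgSt.ofSpMap g) f) φ h := by
    intro ξ W hπ hφ
    change ξ.obj.fst.base = W at hπ
    subst hπ
    have e0 : secAs ((fpFst (AlgSt.ofSpMap g) f).obj ξ) rfl = ξ.obj.fst.sec :=
      secAs_self ξ.obj.fst rfl
    refine (SpGlue.isSheaf_N (N := N) _ (hcov ξ.obj.fst.base ξ.obj.fst.sec)).isSeparatedFor.ext ?_
    intro V v hv
    obtain ⟨c, a, ha⟩ := hv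
    rw [good_local g f h𝒳 φ c.u (hc c) (Hc c) ξ v ⟨a⟩ ha hφ, ← hh c]
    have e1 := NatTrans.naturality_apply h.hom v.op ξ.obj.fst.sec
    refine Eq.trans ?_ (congrArg (fun t => h.hom.app (op V) t) ha.symm)
    refine Eq.trans ?_ e1.symm
    exact congrArg (fun t => N.obj.map v.op (h.hom.app _ t)) e0
  refine ⟨h, (good_iff' _ _ _).2 hgood, fun h' Hh' => ?_⟩
  have hgood' : Good (fpFst (AlgSt.ofSpMap g) f) φ h' := (good_iff' _ _ _).1 Hh'
  refine SpGlue.hom_ext_of_cov (U := fun c : AffChart M' => c.U) (fun c => c.u) hcov _ _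
    (fun c => ?_)
  rw [hh c]
  exact good_unique g f hN c.u (hf c.U c.u c.aff c.et) _ _ _
    (good_restrict g f φ h' hgood' c.u) (Hc c)

theorem id_app_apply (T : Over S) (x : Y.obj.obj (op T)) : (𝟙 Y : Y ⟶ Y).hom.app (op T) x = x :=
  rfl

/-- the base change along the identity is a categorical moduli space iff the map is. -/
theorem isCatModuli_of_fpFst_id
    (hm : AlgSt.IsCatModuli (fpFst (AlgSt.ofSpMap (𝟙 Y)) f)) : AlgSt.IsCatModuli f := by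
  refine ⟨hm.1, fun N hN φ => ?_⟩
  obtain ⟨h, h1, h2⟩ := hm.2 N hN (BasedFunctor.comp (fpSnd (AlgSt.ofSpMap (𝟙 Y)) f) φ)
  have key : ∀ k : Y ⟶ N, Good f φ k ↔ Good (fpFst (AlgSt.ofSpMap (𝟙 Y)) f)
      (BasedFunctor.comp (fpSnd (AlgSt.ofSpMap (𝟙 Y)) f) φ) k := by
    intro k
    constructor
    · intro H ξ W hπ hφ
      change ξ.obj.fst.base = W at hπ
      subst hπ
      have hfξ : (f.obj ξ.obj.snd).base = ξ.obj.fst.base :=
        (f.w_obj ξ.obj.snd).trans (fp_snd_obj_eq (AlgSt.ofSpMap (𝟙 Y)) f ξ)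
      have e1 := fp_sec_eq (𝟙 Y) f ξ hfξ
      rw [id_app_apply] at e1
      have e2 := H ξ.obj.snd ξ.obj.fst.base hfξ hφ
      rw [e1] at e2
      refine Eq.trans ?_ e2
      exact congrArg (fun t => k.hom.app _ t) (secAs_self ξ.obj.fst rfl)
    · intro H x W hπ hφ
      have e0 : secAs ((AlgSt.ofSpMap (𝟙 Y)).obj (f.obj x)) (rfl : _ = (f.obj x).base) =
          secAs (f.obj x) rfl := secAs_ofSpMap (𝟙 Y) (f.obj x) rfl
      obtain ⟨θ, hθ⟩ := exists_iso_of_secAs_eq _ _ _ _ e0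
      exact H (mkObj (AlgSt.ofSpMap (𝟙 Y)) f (f.obj x) x θ hθ) W hπ hφ
  exact ⟨h, (good_iff' _ _ _).2 ((key h).2 ((good_iff' _ _ _).1 h1)),
    fun k hk => h2 k ((good_iff' _ _ _).2 ((key k).1 ((good_iff' _ _ _).1 hk)))⟩

theorem locP_flat_id (X : AlgSp.Sp S) : LocP @Flat (𝟙 X) := by
  intro U V a b h ha hb comm
  have : Etale h.left := Groth.Agent.H51.etale_of_isEtaleMor_of_charts (𝟙 X)
    (Groth.Agent.H51.isEtaleMor_id X) a b h ha hb comm
  show Flat h.left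
  infer_instance

theorem locP_flat_chart_comp (hg : LocP @Flat g) {U : Over S} (w : (yon S).obj U ⟶ M')
    (hw : RepWith @Etale w) : LocP @Flat (w ≫ g) := by
  intro U' V a b h ha hb comm
  refine hg (a ≫ w) b h ((repWith_isMultiplicative (S := S) @Etale).comp_mem _ _ ha hw) hb ?_
  rw [Category.assoc]
  exact comm

/-- **S16704**: uniform categorical moduli from flat affine base changes. -/
theorem isUnifCatModuli_of_affine (h𝒳 : IsFibGrpd 𝒳.p) (hY : IsAlgSpace Y)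
    (hf : ∀ (Y' : Over S), IsAffine Y'.left → ∀ (g : (yon S).obj Y' ⟶ Y), LocP @Flat g →
      AlgSt.IsCatModuli (fpFst (AlgSt.ofSpMap g) f)) :
    AlgSt.IsUnifCatModuli f := by
  have main : ∀ (M' : AlgSp.Sp S), IsAlgSpace M' → ∀ g : M' ⟶ Y, LocP @Flat g →
      AlgSt.IsCatModuli (fpFst (AlgSt.ofSpMap g) f) := fun M' hM' g hg =>
    isCatModuli_fpFst g f h𝒳 hM' (fun U w hU hw =>
      hf U hU (w ≫ g) (locP_flat_chart_comp g hg w hw))
  exact ⟨isCatModuli_of_fpFst_id f (main Y hY (𝟙 Y) (locP_flat_id Y)), main⟩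

end Main

end Groth.Agent.H65.UnifCat
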