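import Mathlib
import Groth.Prelude.Def_PBC
import Groth.Prelude.Def_ProEtS
import Groth.Agent.H23.WCDefs
import Groth.Agent.H23.WCPtDefs
import Groth.Agent.H64.WC_L6

/-!
# Covering sieves of clopen neighbourhoods contain smaller clopen neighbourhoods
(helper65, piece (K) for helper23's S7284)
-/

set_option autoImplicit false
set_option backward.isDefEq.respectTransparency.types false
universe u
open CategoryTheory CategoryTheory.Limits AlgebraicGeometry Opposite
open Groth.Agent.H23.WCDefs Groth.Agent.H23.WCPtDefs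

namespace Groth.Agent.H65.WC_K

variable {X : Scheme.{u}}

theorem exists_clopen_nbhd_mem (W : X.ProEt) (hW : ClopenRefines W) (c : ↥W.left)
    (T : W.left.Opens) (hT : IsClopen (T : Set ↥W.left)) (hc : c ∈ T)
    (S : Sieve (openObj W T)) (hS : S ∈ Scheme.ProEt.topology X (openObj W T)) :
    ∃ (T' : W.left.Opens) (h : T' ≤ T), IsClopen (T' : Set ↥W.left) ∧ c ∈ T' ∧
      S.arrows (openMap W h) := by
  classical
  let Tc : W.left.Opens := ⟨(T : Set ↥W.left)ᶜ, hT.compl.isOpen⟩
  let R' : Sieve W :=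
    { arrows := fun Z h => (∃ v : Z ⟶ openObj W T, S.arrows v ∧ h = v ≫ openIncl W T) ∨
        (∃ a : Z ⟶ openObj W Tc, h = a ≫ openIncl W Tc)
      downward_closed := by
        rintro Z Z' h (⟨v, hv, rfl⟩ | ⟨a, rfl⟩) g
        · exact Or.inl ⟨g ≫ v, S.downward_closed hv g, (Category.assoc _ _ _).symm⟩
        · exact Or.inr ⟨g ≫ a, (Category.assoc _ _ _).symm⟩ }
  let W' : Bool → W.left.Opens := fun b => cond b T Tc
  have hcov : (⋃ b, (W' b : Set ↥W.left)) = Set.univ := by
    ext x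
    simp only [Set.mem_iUnion, Set.mem_univ, iff_true]
    by_cases hx : x ∈ T
    · exact ⟨true, hx⟩
    · exact ⟨false, hx⟩
  have hC := Groth.Agent.H64.WC_L6.generate_openIncl_mem W W' hcov
  have hR' : R' ∈ Scheme.ProEt.topology X W := by
    refine (Scheme.ProEt.topology X).transitive hC R' ?_
    rintro Y f ⟨Y', g, h', ⟨b⟩, rfl⟩
    cases b with
    | true =>
      refine (Scheme.ProEt.topology X).superset_covering ?_
        ((Scheme.ProEt.topology X).pullback_stable g hS)
      intro Z e he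
      exact Or.inl ⟨e ≫ g, he, (Category.assoc _ _ _).symm⟩
    | false =>
      have : R'.arrows (g ≫ openIncl W Tc) := Or.inr ⟨g, rfl⟩
      exact (Scheme.ProEt.topology X).covering_of_eq_top (Sieve.pullback_eq_top_of_mem R' this)
  obtain ⟨n, Wk, hclopen, -, hcover, hmem⟩ := hW R' hR'
  have hcU : c ∈ ⋃ k, (Wk k : Set ↥W.left) := by rw [hcover]; trivial
  obtain ⟨k, hck⟩ := Set.mem_iUnion.mp hcU
  have hk : R'.arrows (openIncl W (Wk k)) := hmem k
  rcases hk with ⟨v, hv, hvk⟩ | ⟨a, hak⟩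
  · refine ⟨T ⊓ Wk k, inf_le_left, hT.inter (hclopen k), ⟨hc, hck⟩, ?_⟩
    have e : openMap W (inf_le_left : T ⊓ Wk k ≤ T) =
        openMap W (inf_le_right : T ⊓ Wk k ≤ Wk k) ≫ v := by
      haveI := mono_openIncl W T
      rw [← cancel_mono (openIncl W T), openMap_openIncl, Category.assoc, ← hvk,
        openMap_openIncl]
    rw [e]
    exact S.downward_closed hv _
  · exfalso
    have h2 : (Wk k).ι = a.left ≫ Tc.ι := congrArg (fun f => f.left) hak
    have h3 : (Wk k).ι ⟨c, hck⟩ = (a.left ≫ Tc.ι) ⟨c, hck⟩ :=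
      congrArg (fun f : ((Wk k : W.left.Opens) : Scheme.{u}) ⟶ W.left => f ⟨c, hck⟩) h2
    have h4 : (a.left ≫ Tc.ι) ⟨c, hck⟩ ∈ Tc := by
      rw [Scheme.Hom.comp_apply]
      exact (a.left ⟨c, hck⟩).2
    rw [← h3] at h4
    exact h4 hc

end Groth.Agent.H65.WC_K
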